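import Cfsg.Agent.Lib.TwoEssential.OfFusion
import Cfsg.Agent.Lib.PGroups.UniqueInvolution

/-!
# No abelian configuration without a normal subgroup

In the abelian configuration every essential subgroup is invariant, so the central subgroup would be normal
in the system.
-/

set_option autoImplicit false
set_option linter.style.haveILetI false
set_option linter.unusedSectionVars false

universe u

namespace Cfsg.Agent.Lib.TwoEssential

open Cfsg Cfsg.FusionSystem Cfsg.Agent.Lib Cfsg.Agent.Lib.FS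
open Subgroup
open scoped commutatorElement

/-- `L` moves some element of order `p` of an abelian `E`. -/
theorem not_ct_omega {p : ℕ} [Fact p.Prime] {P : Type u} [Group P] [Finite P] {E : Subgroup P} {B : Type u}
    [Group B] {bact : B →* MulAut P} (s : Side p P E B bact) (hP : IsPGroup p P)
    (hab : ∀ a ∈ E, ∀ b ∈ E, a * b = b * a) {W : Subgroup P} (hWi : s.Inv W) (hWE : W ≤ E)
    (hW : ∀ v ∈ E, v ^ p = 1 → v ∈ W) : ¬ s.CT ⊥ W := by
  intro hct
  have key : ∀ m : ℕ, ∀ l ∈ s.L, (orderOf (s.act l)).Coprime p → ∀ v ∈ E, v ^ p ^ m = 1 → s.app l v = v := by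
    intro m
    induction m with
    | zero =>
      intro l _ _ v _ hv
      rw [pow_zero, pow_one] at hv
      rw [hv, s.app_one']
    | succ m ih =>
      intro l hl hlc v hv hvm
      let M : Subgroup P :=
        { carrier := {v | v ∈ E ∧ v ^ p ^ (m + 1) = 1}
          one_mem' := ⟨one_mem _, one_pow _⟩
          mul_mem' := fun {a b} ha hb => ⟨mul_mem ha.1 hb.1,
            by rw [(show Commute a b from hab a ha.1 b hb.1).mul_pow, ha.2, hb.2, mul_one]⟩
          inv_mem' := fun {a} ha => ⟨inv_mem ha.1, by rw [inv_pow, ha.2, inv_one]⟩ }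
      have h' : s.CT W M := fun l hl hlc w hw => by
        refine hW _ (E.mul_mem (s.app_mem l hw.1) (E.inv_mem hw.1)) ?_
        rw [(show Commute (s.app l w) w⁻¹ from hab _ (s.app_mem l hw.1) _ (E.inv_mem hw.1)).mul_pow,
          ← s.app_pow l hw.1, ih l hl hlc _ (E.pow_mem hw.1 p) (by rw [← pow_mul, ← pow_succ']; exact hw.2),
          inv_pow, mul_inv_cancel]
      have hME : M ≤ E := fun v hv => hv.1
      exact mul_inv_eq_one.1 (mem_bot.1
        (s.ct_trans hP s.inv_bot bot_le hWE hME h' hct l hl hlc v ⟨hv, hvm⟩))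
  refine s.not_ct fun l hl hlc v hv => ?_
  obtain ⟨m, hm⟩ := hP v
  rw [mem_bot, key m l hl hlc v hv hm, mul_inv_cancel]

variable {p : ℕ} [Fact p.Prime]

namespace LC

variable {P : Type u} [Group P] [Finite P] {X : Pair p P} {T : Subgroup P}

theorem center_eq (h : LC X T) (hP : IsPGroup p P) : Subgroup.center P = X.D :=
  le_antisymm (X.center_le_D hP) fun d hd => X.mem_center (h.comm1 d hd.1) (h.comm2 d hd.2)

theorem normal_T (h : LC X T) : T.Normal := ⟨fun t ht g => by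
  rwa [mem_center_iff.1 (h.central ht) g, mul_inv_cancel_right]⟩

theorem comm_mem_T_sup (h : LC X T) (hP : IsPGroup p P) (a b : P) : ⁅a, b⁆ ∈ X.D := by
  obtain ⟨x, hx, hx2⟩ := X.exists_out1
  obtain ⟨y, hy, hy1⟩ := X.exists_out2
  haveI := X.D_normal
  have hdec : ∀ g : P, ∃ d ∈ X.D, ∃ i j : ℕ, g = d * x ^ i * y ^ j := by
    intro g
    obtain ⟨m, hm, j, rfl⟩ := X.exists_eq_mul hy1 g
    obtain ⟨d, hd, i, rfl⟩ := exists_pow_mul_relIndex X.relIndex_D1 hx (fun hh => hx2 hh.2) hm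
    exact ⟨d, hd, i, j, rfl⟩
  have hc : Commute (x : P ⧸ X.D) (y : P ⧸ X.D) := by
    rw [← commutatorElement_eq_one_iff_commute]
    show ⁅QuotientGroup.mk' X.D x, QuotientGroup.mk' X.D y⁆ = 1
    rw [← map_commutatorElement]
    exact (QuotientGroup.eq_one_iff _).2 (X.comm_mem_D hx hy)
  obtain ⟨d, hd, i, j, rfl⟩ := hdec a
  obtain ⟨e, he, k, l, rfl⟩ := hdec b
  rw [← QuotientGroup.eq_one_iff]
  show QuotientGroup.mk' X.D ⁅d * x ^ i * y ^ j, e * x ^ k * y ^ l⁆ = 1
  rw [map_commutatorElement, commutatorElement_eq_one_iff_commute]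
  show Commute ((d * x ^ i * y ^ j : P) : P ⧸ X.D) (e * x ^ k * y ^ l : P)
  simp only [QuotientGroup.mk_mul, QuotientGroup.mk_pow, (QuotientGroup.eq_one_iff d).2 hd,
    (QuotientGroup.eq_one_iff e).2 he, one_mul]
  exact (((Commute.refl _).pow_pow i k).mul_right (hc.pow_pow i l)).mul_left
    ((hc.symm.pow_pow j k).mul_right ((Commute.refl _).pow_pow j l))

theorem bot_rank (h : LC X T) (hP : IsPGroup p P) (hsr : ¬ SectionalPRankLE p 2 P) : T ≠ ⊥ := by
  intro hT
  have hp : p.Prime := Fact.out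
  have hc : Nat.card P = p ^ 3 := by
    have := h.index
    rwa [hT, index_bot] at this
  apply hsr
  intro H M _ A hA hAp
  obtain ⟨i, hi⟩ := IsPGroup.iff_card.1 (((hP.to_subgroup H).to_quotient M).to_subgroup A)
  rw [hi]
  refine Nat.pow_le_pow_right hp.pos ?_
  by_contra hh
  have h3 : p ^ 3 ≤ Nat.card A := hi ▸ Nat.pow_le_pow_right hp.pos (by omega)
  have h1 : Nat.card A ≤ Nat.card (↥H ⧸ M) := A.card_le_card_group
  have h2 : Nat.card H ≤ Nat.card P := H.card_le_card_group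
  have h4 := M.card_eq_card_quotient_mul_card_subgroup
  have hM1 : 0 < Nat.card M := Nat.card_pos
  have hM : M = ⊥ := Subgroup.eq_bot_of_card_eq _ (by nlinarith [pow_pos hp.pos 3])
  have hH : H = ⊤ := Subgroup.eq_top_of_card_eq _ (le_antisymm h2 (by nlinarith [pow_pos hp.pos 3]))
  have hAt : A = ⊤ := Subgroup.eq_top_of_card_eq _ (le_antisymm h1 (by
    have hM' : Nat.card M = 1 := by rw [hM, card_bot]
    rw [hM', mul_one] at h4
    omega))
  -- so the group is abelian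
  obtain ⟨x, hx, y, hy, -, -, hz⟩ := h.z0
  apply hz
  rw [hT, mem_bot, commutatorElement_eq_one_iff_mul_comm]
  have hxH : x ∈ H := hH ▸ mem_top x
  have hyH : y ∈ H := hH ▸ mem_top y
  have e : ((⟨x, hxH⟩ * ⟨y, hyH⟩ : H) : ↥H ⧸ M) = ((⟨y, hyH⟩ * ⟨x, hxH⟩ : H) : ↥H ⧸ M) := by
    have e' := congrArg Subtype.val (hA.is_comm.comm (⟨_, hAt ▸ mem_top ((⟨x, hxH⟩ : H) : ↥H ⧸ M)⟩ : A)
      ⟨_, hAt ▸ mem_top ((⟨y, hyH⟩ : H) : ↥H ⧸ M)⟩)
    rw [QuotientGroup.mk_mul, QuotientGroup.mk_mul]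
    exact e'
  rw [QuotientGroup.eq, hM, mem_bot, inv_mul_eq_one] at e
  exact congrArg Subtype.val e

theorem card_Z1 (h : LC X T) (hP : IsPGroup p P) (hT : T ≠ ⊥) : Nat.card (Z1 p P) = p ^ 2 := by
  have hp : p.Prime := Fact.out
  haveI := h.normal_T
  obtain ⟨x, hx, y, hy, hzc, hzp, hzT⟩ := h.z0
  set z := ⁅x, y⁆
  have hzZ : z ∈ Z1 p P := ⟨hzc, hzp⟩
  have hTZ : (T ⊓ Z1 p P).relIndex (Z1 p P) = p := by
    have hZD : Z1 p P ≤ X.D := Z1_le_center.trans (X.center_le_D hP)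
    haveI : (T ⊓ Z1 p P).Normal := ⟨fun w hw g => by
      rwa [mem_center_iff.1 (h.central hw.1) g, mul_inv_cancel_right]⟩
    rw [inf_relIndex_right]
    have hle : T.relIndex (Z1 p P) ≤ p := by
      have := relIndex_le_of_le_right hZD (show T.relIndex X.D ≠ 0 by rw [h.relIndex_D]; exact hp.ne_zero)
      rwa [h.relIndex_D] at this
    refine le_antisymm hle ?_
    obtain ⟨i, hi⟩ := (hP.to_subgroup (Z1 p P)).index (T.subgroupOf (Z1 p P))
    show p ≤ (T.subgroupOf (Z1 p P)).index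
    rw [hi]
    refine le_of_eq_of_le (pow_one p).symm (Nat.pow_le_pow_right hp.pos ?_)
    by_contra h0
    rw [show i = 0 by omega, pow_zero, index_eq_one] at hi
    exact hzT (mem_subgroupOf.1 (show (⟨z, hzZ⟩ : Z1 p P) ∈ T.subgroupOf (Z1 p P) by rw [hi]; trivial))
  have hΩ : Nat.card (T ⊓ Z1 p P : Subgroup P) = p := by
    refine le_antisymm ?_ ?_
    · haveI := h.cyclic
      haveI : IsCyclic (T ⊓ Z1 p P : Subgroup P) := Subgroup.isCyclic_of_le inf_le_left
      obtain ⟨⟨g, hg⟩, hgen⟩ := IsCyclic.exists_generator (α := (T ⊓ Z1 p P : Subgroup P))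
      rw [← orderOf_eq_card_of_forall_mem_zpowers hgen]
      exact Nat.le_of_dvd hp.pos (orderOf_dvd_of_pow_eq_one (Subtype.ext (by simpa using hg.2.2)))
    · obtain ⟨t, ht, htZ, ht1⟩ := exists_mem_Z1 hP (N := T) hT
      have hlt : (⊥ : Subgroup P) < T ⊓ Z1 p P := bot_lt_iff_ne_bot.2 fun e => ht1 (by
        have hm : t ∈ T ⊓ Z1 p P := ⟨ht, htZ⟩
        rwa [e, mem_bot] at hm)
      simpa using mul_card_le_of_lt hP hlt
  have := card_mul_relIndex (inf_le_right : T ⊓ Z1 p P ≤ Z1 p P)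
  rw [hΩ, hTZ] at this
  rw [← this, sq]

/-- A third side is impossible. -/
theorem no_third (h : LC X T) (hP : IsPGroup p P) (hp2 : p ≠ 2) (hsr : SectionalPRankLE p 3 P) (hT : T ≠ ⊥)
    {E : Subgroup P} {B : Type u} [Group B] {bact : B →* MulAut P} (s : Side p P E B bact) (hn : E.Normal)
    (hi : E.index = p) (he1 : E ≠ X.E1) (he2 : E ≠ X.E2)
    (hb : ∀ b, ∀ v, (v ∈ X.E1 → bact b v ∈ X.E1) ∧ (v ∈ X.E2 → bact b v ∈ X.E2)) : False := by
  have hp : p.Prime := Fact.out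
  haveI := hn
  haveI := X.D_normal
  have hcD := h.center_eq hP
  have hDE : X.D ≤ E := hcD ▸ s.center_le hP hn hi
  have hDi : X.D.relIndex E = p := by
    have := relIndex_mul_index hDE
    rw [hi, X.index_D, sq] at this
    exact Nat.eq_of_mul_eq_mul_right hp.pos this
  obtain ⟨w₀, hw₀, hw₀D⟩ : ∃ w ∈ E, w ∉ X.D := by
    by_contra hh
    push Not at hh
    rw [relIndex_eq_one.2 hh] at hDi
    exact hp.one_lt.ne hDi
  have hab : ∀ a ∈ E, ∀ b ∈ E, a * b = b * a := by
    intro a ha b hb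
    obtain ⟨m, hm, i, rfl⟩ := exists_pow_mul_relIndex hDi hw₀ hw₀D ha
    obtain ⟨n, hn', j, rfl⟩ := exists_pow_mul_relIndex hDi hw₀ hw₀D hb
    have hc : ∀ {d : P}, d ∈ X.D → ∀ g, Commute d g := fun hd g => commute_of_mem_center (hcD.symm ▸ hd)
    exact ((hc hm _).mul_left ((hc hn' _).symm.mul_right ((Commute.refl w₀).pow_pow i j))).eq
  let W : Subgroup P :=
    { carrier := {v | v ∈ E ∧ v ^ p = 1}
      one_mem' := ⟨one_mem _, one_pow _⟩
      mul_mem' := fun {a b} ha hb => ⟨mul_mem ha.1 hb.1,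
        by rw [(show Commute a b from hab a ha.1 b hb.1).mul_pow, ha.2, hb.2, mul_one]⟩
      inv_mem' := fun {a} ha => ⟨inv_mem ha.1, by rw [inv_pow, ha.2, inv_one]⟩ }
  have hWE : W ≤ E := fun v hv => hv.1
  have hWi : s.Inv W := fun a v hv => ⟨s.app_mem a hv.1, by rw [← s.app_pow a hv.1, hv.2, s.app_one']⟩
  have hZW : Z1 p P ≤ W := fun v hv => ⟨hDE (hcD ▸ hv.1), hv.2⟩
  have hct : ¬ s.CT ⊥ W := not_ct_omega s hP hab hWi hWE fun v hv hvp => ⟨hv, hvp⟩
  have hWp : ∀ v ∈ W, v ^ p = 1 := fun v hv => hv.2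
  have hWc : Nat.card W ≤ p ^ 3 := card_elem_le hsr (fun a ha b hb => hab a (hWE ha) b (hWE hb)) hWp
  have hne : Z1 p P ≠ W := fun e => hct (e ▸ s.ct_bot_of_central (e ▸ hWi) (hZW.trans hWE) Z1_le_center)
  have hZc := h.card_Z1 hP hT
  have hWcard : Nat.card W = p ^ 3 := le_antisymm hWc (by
    have := mul_card_le_of_lt hP (lt_of_le_of_ne hZW hne)
    rwa [hZc, ← pow_succ'] at this)
  have hmove : ¬ s.Inv (Z1 p P) := by
    intro hZi
    have hi' : (Z1 p P).relIndex W = p := by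
      have := card_mul_relIndex hZW
      rw [hZc, hWcard] at this
      exact Nat.eq_of_mul_eq_mul_left (pow_pos hp.pos 2) (this.trans (by ring))
    exact hct (s.ct_trans hP s.inv_bot bot_le (hZW.trans hWE) hWE (s.ct_step hP hZi hWi hZW hWE hi')
      (s.ct_bot_of_central hZi (hZW.trans hWE) Z1_le_center))
  obtain ⟨F, V, -, -, -, hnat, hVW, -, hcV⟩ := transvection_split s hP hp2 hn hi hWi hWE hWp
    (fun v hv e he => hab e he v (hWE hv)) hWcard hZW hZc hmove
  -- an element outside `D`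
  obtain ⟨w, hwV, hwD⟩ : ∃ w ∈ V, w ∉ X.D := by
    by_contra hh
    push Not at hh
    exact hnat.nct (s.ct_bot_of_central hnat.invV hnat.leE (hcD ▸ hh))
  have hwE : w ∈ E := hWE (hVW hwV)
  have hw1 : w ∉ X.E1 := by
    intro hh
    refine he1 (eq_of_le_index_eq ?_ (by rw [hi, X.i1]))
    intro v hv
    obtain ⟨d, hd, k, rfl⟩ := exists_pow_mul_relIndex hDi hwE hwD hv
    exact mul_mem hd.1 (pow_mem hh k)
  have hw2 : w ∉ X.E2 := by
    intro hh
    refine he2 (eq_of_le_index_eq ?_ (by rw [hi, X.i2]))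
    intro v hv
    obtain ⟨d, hd, k, rfl⟩ := exists_pow_mul_relIndex hDi hwE hwD hv
    exact mul_mem hd.2 (pow_mem hh k)
  obtain ⟨n, hn, hnN, -, hneg⟩ := hnat.exists_neg s hP hp2
  obtain ⟨b, hbext⟩ := s.exists_ext hnN
  have hbinv : ∀ v ∈ V, bact b v = v⁻¹ := fun v hv =>
    (hbext v (hWE (hVW hv))).trans (eq_inv_of_mul_eq_one_left (mem_bot.1 (hneg v hv)))
  -- the generators
  obtain ⟨y, hy, hy1⟩ := X.exists_out2
  haveI := X.n1
  haveI := X.n2
  obtain ⟨x, hx, l, hwdec⟩ := X.exists_eq_mul hy1 w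
  have hx2 : x ∉ X.E2 := fun hh => hw2 (hwdec ▸ mul_mem hh (pow_mem hy l))
  set y' := y ^ l
  have hy' : y' ∈ X.E2 := pow_mem hy l
  have hy'1 : y' ∉ X.E1 := fun hh => hw1 (hwdec ▸ mul_mem hx hh)
  have hbw : bact b x * bact b y' = y'⁻¹ * x⁻¹ := by
    rw [← map_mul, ← mul_inv_rev, ← hwdec, hbinv w hwV]
  have key : ∀ {Q : Type u} [Group Q] (π : P →* Q), π (bact b x) * π (bact b y') = (π y')⁻¹ * (π x)⁻¹ :=
    fun π => by rw [← map_mul, hbw, map_mul, map_inv, map_inv]
  have hxinv : bact b x * x ∈ X.D := by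
    refine ⟨X.E1.mul_mem ((hb b x).1 hx) hx, ?_⟩
    have h2 := key (QuotientGroup.mk' X.E2)
    rw [show QuotientGroup.mk' X.E2 (bact b y') = 1 from (QuotientGroup.eq_one_iff _).2 ((hb b y').2 hy'),
      show QuotientGroup.mk' X.E2 y' = 1 from (QuotientGroup.eq_one_iff _).2 hy', mul_one, inv_one, one_mul] at h2
    refine (QuotientGroup.eq_one_iff _).1 ?_
    show QuotientGroup.mk' X.E2 (bact b x * x) = 1
    rw [map_mul, h2, inv_mul_cancel]
  have hyinv : bact b y' * y' ∈ X.D := by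
    refine ⟨?_, X.E2.mul_mem ((hb b y').2 hy') hy'⟩
    have h2 := key (QuotientGroup.mk' X.E1)
    rw [show QuotientGroup.mk' X.E1 (bact b x) = 1 from (QuotientGroup.eq_one_iff _).2 ((hb b x).1 hx),
      show QuotientGroup.mk' X.E1 x = 1 from (QuotientGroup.eq_one_iff _).2 hx, inv_one, mul_one, one_mul] at h2
    refine (QuotientGroup.eq_one_iff _).1 ?_
    show QuotientGroup.mk' X.E1 (bact b y' * y') = 1
    rw [map_mul, h2, inv_mul_cancel]
  set z := ⁅x, y'⁆ with hz
  have hzD : z ∈ X.D := X.comm_mem_D hx hy'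
  have hzc : z ∈ Subgroup.center P := hcD.symm ▸ hzD
  have hz1 : z ≠ 1 := by
    intro hz1
    obtain ⟨x₀, hx₀, y₀, hy₀, -, -, hz₀⟩ := h.z0
    apply hz₀
    obtain ⟨d, hd, i, rfl⟩ := exists_pow_mul_relIndex X.relIndex_D1 hx (fun hh => hx2 hh.2) hx₀
    obtain ⟨e, he, j, rfl⟩ := exists_pow_mul_relIndex X.relIndex_D2 hy' (fun hh => hy'1 hh.1) hy₀
    have hc : ∀ {d : P}, d ∈ X.D → ∀ g, Commute d g := fun hd g => commute_of_mem_center (hcD.symm ▸ hd)
    have : Commute (d * x ^ i) (e * y' ^ j) := (hc hd _).mul_left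
      ((hc he _).symm.mul_right ((commutatorElement_eq_one_iff_commute.1 hz1).pow_pow i j))
    rw [commutatorElement_eq_one_iff_commute.2 this]
    exact one_mem _
  have hzV : z ∈ V := by
    have hzw : ⁅x, w⁆ = z := by
      rw [hwdec, comm_mul_right' hzc, commutatorElement_self, one_mul]
    exact hzw ▸ hcV x w (hVW hwV)
  have hbz : bact b z = z := by
    have e1 : bact b x = bact b x * x * x⁻¹ := by group
    have e2 : bact b y' = bact b y' * y' * y'⁻¹ := by group
    have hc1 := hcD.symm ▸ hxinv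
    have hc2 := hcD.symm ▸ hyinv
    have hcc : ⁅x⁻¹, y'⁻¹⁆ = z := by
      have hz' : ⁅x⁻¹, y'⁆ = z⁻¹ := comm_inv_left hzc
      rw [comm_inv_right (by rw [hz']; exact inv_mem hzc), hz', inv_inv]
    rw [hz, map_commutatorElement, e1, e2, comm_mul_left_abelian (commute_of_mem_center hc1).eq
      (commute_of_mem_center hc1).eq, comm_mul_right' (by rw [hcc]; exact hzc),
      commutatorElement_eq_one_iff_commute.2 (commute_of_mem_center hc2).symm, one_mul, hcc]
  exact hz1 (eq_one_of_eq_inv hP hp2 (hbz.symm.trans (hbinv z hzV)))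
where
  eq_of_le_index_eq {E E' : Subgroup P} (hle : E ≤ E') (hi : E.index = E'.index) : E = E' := by
    have h1 := relIndex_mul_index hle
    rw [hi] at h1
    exact le_antisymm hle (relIndex_eq_one.1 (Nat.eq_of_mul_eq_mul_right
      (Nat.pos_of_ne_zero index_ne_zero_of_finite) (h1.trans (one_mul _).symm)))

end LC

variable {Ω : Type u} [Group Ω] {S : Subgroup Ω} [Finite S] {F : FusionSystem S}

/-- Two invariant essential subgroups give the symplectic configuration. -/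
theorem sp_of_fusion (hS : IsPGroup p S) (hp2 : p ≠ 2)
    (hsr : SectionalPRankLE p 3 ↥S ∧ ¬ SectionalPRankLE p 2 ↥S) (hF : F.IsSaturated p) (hO : F.core = ⊥)
    {E₁ E₂ : Subgroup Ω} (hne : E₁ ≠ E₂) (hE₁ : F.IsEssential p E₁) (hE₂ : F.IsEssential p E₂)
    (hc₁ : ∀ φ : MulAut ↥S, φ ∈ F.autGroup S → (E₁.subgroupOf S).map φ.toMonoidHom = E₁.subgroupOf S)
    (hc₂ : ∀ φ : MulAut ↥S, φ ∈ F.autGroup S → (E₂.subgroupOf S).map φ.toMonoidHom = E₂.subgroupOf S) :
    ∃ X : Pair p S, (X.E1 = E₁.subgroupOf S ∧ X.E2 = E₂.subgroupOf S ∨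
      X.E1 = E₂.subgroupOf S ∧ X.E2 = E₁.subgroupOf S) ∧ Sp X := by
  have hp : p.Prime := Fact.out
  have hp3 : 3 ≤ p := lt_of_le_of_ne hp.two_le (Ne.symm hp2)
  have hnorm : ∀ {E : Subgroup Ω},
      (∀ φ : MulAut ↥S, φ ∈ F.autGroup S → (E.subgroupOf S).map φ.toMonoidHom = E.subgroupOf S) →
      (E.subgroupOf S).Normal := fun {E} hc => ⟨fun x hx g => by
    have h := hc (MulAut.conj g) (inn_le_autGroup F le_rfl ⟨g, rfl⟩)
    rw [← h]
    exact ⟨x, hx, rfl⟩⟩
  have hpres : ∀ {E : Subgroup Ω},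
      (∀ φ : MulAut ↥S, φ ∈ F.autGroup S → (E.subgroupOf S).map φ.toMonoidHom = E.subgroupOf S) →
      ∀ b ∈ F.autGroup S, ∀ x : S, (x : Ω) ∈ E → (b x : Ω) ∈ E := fun {E} hc b hb x hx =>
    Subgroup.mem_subgroupOf.1 (hc b hb ▸ (⟨x, Subgroup.mem_subgroupOf.2 hx, rfl⟩ :
      b x ∈ (E.subgroupOf S).map b.toMonoidHom))
  let X : Pair p S :=
    { E1 := E₁.subgroupOf S
      E2 := E₂.subgroupOf S
      n1 := hnorm hc₁
      n2 := hnorm hc₂
      i1 := index_eq_prime hS hF hp3 hsr.1 hE₁ (hnorm hc₁)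
      i2 := index_eq_prime hS hF hp3 hsr.1 hE₂ (hnorm hc₂)
      ne := fun h => hne (by
        rwa [Subgroup.subgroupOf_inj, inf_eq_left.2 hE₁.2.1.1, inf_eq_left.2 hE₂.2.1.1] at h)
      B := F.autGroup S
      bact := (F.autGroup S).subtype
      s1 := sideOfEssential hS hF hE₁ (hnorm hc₁) (F.autGroup S) le_rfl (hpres hc₁) fun b hb _ => hb
      s2 := sideOfEssential hS hF hE₂ (hnorm hc₂) (F.autGroup S) le_rfl (hpres hc₂) fun b hb _ => hb }
  rcases outcome hp2 X hS hsr.1 with ⟨T, hT⟩ | hh | hh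
  swap
  · exact ⟨X, Or.inl ⟨rfl, rfl⟩, hh⟩
  swap
  · exact ⟨X.swap, Or.inr ⟨rfl, rfl⟩, hh⟩
  exfalso
  have hTb := hT.bot_rank hS hsr.2
  haveI := hT.normal_T
  set Q := T.map S.subtype with hQdef
  have hTle1 : T ≤ E₁.subgroupOf S := hT.le.trans inf_le_left
  have hTle2 : T ≤ E₂.subgroupOf S := hT.le.trans inf_le_right
  have hQmem : ∀ {v : S}, (v : Ω) ∈ Q ↔ v ∈ T := fun {v} =>
    ⟨fun ⟨w, hw, e⟩ => by rwa [← Subtype.ext (show (w : Ω) = v from e)], fun hv => ⟨v, hv, rfl⟩⟩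
  have hQ : F.IsNormal Q := by
    rw [isNormal_iff_essential hS hF]
    intro P hP
    rcases hP with rfl | hPe
    · refine ⟨map_subtype_le T, fun α hα => ?_⟩
      rw [show Q.subgroupOf P = T from
        Subgroup.comap_map_eq_self_of_injective P.subtype_injective T]
      refine Subgroup.eq_of_le_of_card_ge ?_ (le_of_eq ?_)
      · rintro _ ⟨v, hv, rfl⟩
        exact X.s1.inv_bact hT.inv1 hTle1 ⟨α, hα⟩ hv
      · exact (Nat.card_congr (T.equivMapOfInjective _ α.injective).toEquiv)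
    have hPS : P ≤ S := hPe.2.1.1
    haveI := finite_sub hPS
    -- it is one of the two
    have hP12 : P = E₁ ∨ P = E₂ := by
      by_contra hh
      push Not at hh
      have hDP : X.D ≤ P.subgroupOf S := by
        intro d hd
        refine Subgroup.mem_subgroupOf.2 ((hPe.1.2 P (isConj_refl F hPS)) (mem_centralizerIn'.2 ⟨d.2, ?_⟩))
        intro y hy
        have := Subgroup.mem_center_iff.1 ((hT.center_eq hS).symm ▸ hd : d ∈ Subgroup.center S) ⟨y, hPS hy⟩
        rw [mul_inv_eq_iff_eq_mul]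
        exact (congrArg Subtype.val this).symm
      have hn : (P.subgroupOf S).Normal := ⟨fun x hx g => by
        have := (P.subgroupOf S).mul_mem (hDP (hT.comm_mem_T_sup hS g x)) hx
        rwa [commutatorElement_def, inv_mul_cancel_right] at this⟩
      let H : Subgroup (MulAut S) :=
        { carrier := {b | b ∈ F.autGroup S ∧ ∀ x : S, (x : Ω) ∈ P → (b x : Ω) ∈ P}
          one_mem' := ⟨one_mem _, fun x hx => hx⟩
          mul_mem' := fun {a b} ha hb => ⟨mul_mem ha.1 hb.1, fun x hx => ha.2 _ (hb.2 x hx)⟩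
          inv_mem' := fun {a} ha => ⟨inv_mem ha.1, fun x hx => by
            haveI : Finite (MulAut S) :=
              Finite.of_injective (fun e : MulAut S => (e : S → S)) DFunLike.coe_injective
            have hpow : ∀ k : ℕ, ∀ x : S, (x : Ω) ∈ P → ((a ^ k) x : Ω) ∈ P := by
              intro k
              induction k with
              | zero => intro x hx; simpa using hx
              | succ k ih => intro x hx; rw [pow_succ', MulAut.mul_apply]; exact ha.2 _ (ih x hx)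
            have e : a⁻¹ = a ^ (orderOf a - 1) := by
              rw [inv_eq_iff_mul_eq_one, ← pow_succ', Nat.sub_add_cancel (orderOf_pos a), pow_orderOf_eq_one]
            rw [e]; exact hpow _ x hx⟩ }
      have hne' : ∀ {E : Subgroup Ω}, E ≤ S → P ≠ E → P.subgroupOf S ≠ E.subgroupOf S := fun hE hPE h =>
        hPE (by rwa [Subgroup.subgroupOf_inj, inf_eq_left.2 hPS, inf_eq_left.2 hE] at h)
      exact hT.no_third hS hp2 hsr.1 hTb
        (sideOfEssential hS hF hPe hn H (fun b hb => hb.1) (fun b hb => hb.2) fun b hb h => ⟨hb, h⟩) hn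
        (index_eq_prime hS hF hp3 hsr.1 hPe hn) (hne' hE₁.2.1.1 hh.1) (hne' hE₂.2.1.1 hh.2)
        fun b v => ⟨fun hv => Subgroup.mem_subgroupOf.2 (hpres hc₁ _ b.2.1 v (Subgroup.mem_subgroupOf.1 hv)),
          fun hv => Subgroup.mem_subgroupOf.2 (hpres hc₂ _ b.2.1 v (Subgroup.mem_subgroupOf.1 hv))⟩
    have main : ∀ (s : Side p S (P.subgroupOf S) (F.autGroup S) (F.autGroup S).subtype)
        (e : F.autGroup P → s.A)
        (_ : ∀ (a : F.autGroup P) (x : P.subgroupOf S), ((s.act (e a) x : P.subgroupOf S) : S).1 =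
          ((a : MulAut P) ⟨(x : S), Subgroup.mem_subgroupOf.1 x.2⟩ : Ω)),
        s.Inv T → T ≤ P.subgroupOf S → Q ≤ P ∧ ∀ α ∈ F.autGroup P,
          (Q.subgroupOf P).map α.toMonoidHom = Q.subgroupOf P := by
      intro s e he hinv hle
      have hQP : Q ≤ P := by rintro _ ⟨v, hv, rfl⟩; exact Subgroup.mem_subgroupOf.1 (hle hv)
      refine ⟨hQP, fun α hα => Subgroup.eq_of_le_of_card_ge ?_ (le_of_eq ?_)⟩
      · rintro _ ⟨v, hv, rfl⟩
        replace hv : (v : Ω) ∈ Q := Subgroup.mem_subgroupOf.1 hv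
        refine Subgroup.mem_subgroupOf.2 ?_
        set vS : S := ⟨v, hPS v.2⟩
        have h1 : vS ∈ P.subgroupOf S := Subgroup.mem_subgroupOf.2 v.2
        have h2 := hinv (e ⟨α, hα⟩) vS (hQmem.1 hv)
        rw [s.app_of_mem _ h1] at h2
        have h3 := hQmem.2 h2
        rwa [he] at h3
      · exact Nat.card_congr ((Q.subgroupOf P).equivMapOfInjective _ α.injective).toEquiv
    rcases hP12 with rfl | rfl
    · exact main X.s1 (fun a => a) (fun a x => rfl) hT.inv1 hTle1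
    · exact main X.s2 (fun a => a) (fun a x => rfl) hT.inv2 hTle2
  have hle : Q ≤ F.core := le_sSup hQ
  rw [hO, le_bot_iff, hQdef, Subgroup.map_eq_bot_iff_of_injective _ S.subtype_injective] at hle
  exact hTb hle

end Cfsg.Agent.Lib.TwoEssential
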