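import Cfsg.Agent.Lib.TwoEssential.Outcome
import Cfsg.Agent.Lib.PGroups.UniqueInvolution

/-!
# A central subgroup invariant on both sides

The factor group cannot be of symplectic type; if it has abelian subgroups over a central cyclic one,
so has the group itself.
-/

set_option autoImplicit false
set_option linter.style.haveILetI false

universe u

namespace Cfsg.Agent.Lib.TwoEssential

open Subgroup
open scoped commutatorElement

variable {p : ℕ} [Fact p.Prime] {P : Type u} [Group P] [Finite P]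

omit [Finite P] in
/-- In a `p`-group of odd order an element equal to its inverse is trivial. -/
theorem eq_one_of_eq_inv (hP : IsPGroup p P) (hp2 : p ≠ 2) {c : P} (h : c = c⁻¹) : c = 1 := by
  obtain ⟨j, hj⟩ := hP c
  have h2 : c ^ 2 = 1 := by rw [sq]; exact mul_eq_one_iff_eq_inv.2 h
  have := pow_gcd_eq_one.2 ⟨h2, hj⟩
  rwa [(Nat.Coprime.pow_right j ((Nat.coprime_primes Nat.prime_two Fact.out).2 (Ne.symm hp2))).gcd_eq_one,
    pow_one] at this

variable {X : Pair p P} {N : Subgroup P} [N.Normal]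

/-- The factor group is not of symplectic type. -/
theorem no_sp_quotient (hP : IsPGroup p P) (hp2 : p ≠ 2) (hsr : SectionalPRankLE p 3 P) (h1 : X.s1.Inv N)
    (h2 : X.s2.Inv N) (hND : N ≤ X.D) (hNc : N ≤ center P) (hNp : ∀ x ∈ N, x ^ p = 1) (hN : N ≠ ⊥)
    (v1 : ¬ X.s1.CT N X.E1) (v2 : ¬ X.s2.CT N X.E2) : ¬ Sp (X.quot N h1 h2 hND v1 v2) := by
  intro hY
  have hp : p.Prime := Fact.out
  have hPq : IsPGroup p (P ⧸ N) := hP.to_quotient N
  set Y := X.quot N h1 h2 hND v1 v2 with hYdef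
  set q := QuotientGroup.mk' N with hq
  have hN1 : N ≤ X.E1 := hND.trans inf_le_left
  have hmemE : ∀ {x : P}, q x ∈ Y.E1 ↔ x ∈ X.E1 := fun {x} =>
    ⟨fun ⟨y, hy, e⟩ => by
      have := (QuotientGroup.eq).1 e
      have := X.E1.mul_mem hy (hN1 this)
      rwa [mul_inv_cancel_left] at this, fun hx => ⟨x, hx, rfl⟩⟩
  have hmemE2 : ∀ {x : P}, q x ∈ Y.E2 ↔ x ∈ X.E2 := fun {x} =>
    ⟨fun ⟨y, hy, e⟩ => by
      have := (QuotientGroup.eq).1 e
      have := X.E2.mul_mem hy ((hND.trans inf_le_right) this)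
      rwa [mul_inv_cancel_left] at this, fun hx => ⟨x, hx, rfl⟩⟩
  have hcomm : ∀ a ∈ X.E1, ∀ b ∈ X.E1, ⁅a, b⁆ ∈ N := fun a ha b hb => by
    rw [← QuotientGroup.eq_one_iff]
    show q ⁅a, b⁆ = 1
    rw [map_commutatorElement, commutatorElement_eq_one_iff_commute]
    exact hY.comm1 _ (hmemE.2 ha) _ (hmemE.2 hb)
  have hcc : ∀ {a b : P}, a ∈ X.E1 → b ∈ X.E1 → ⁅a, b⁆ ∈ Subgroup.center P :=
    fun ha hb => hNc (hcomm _ ha _ hb)
  -- the commutator form is trivial
  obtain ⟨x, hx, hx1⟩ := X.exists_out2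
  obtain ⟨e, he, he2⟩ := X.exists_out1
  have hxY : q x ∉ Y.E1 := fun hh => hx1 (hmemE.1 hh)
  have heY : q e ∉ Y.E2 := fun hh => he2 (hmemE2.1 hh)
  set d := ⁅x, e⁆ with hd
  set z := ⁅x, d⁆ with hz
  have hdD : d ∈ X.D := by rw [hd, ← commutatorElement_inv]; exact inv_mem (X.comm_mem_D he hx)
  have hdqD : q d ∈ Y.D := ⟨hmemE.2 hdD.1, hmemE2.2 hdD.2⟩
  have hdc : q d ∉ Subgroup.center (P ⧸ N) := by
    rw [hd, map_commutatorElement]
    exact hY.comm_not_center hPq (hmemE2.2 hx) hxY (hmemE.2 he) heY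
  have hzc : q z ∈ Subgroup.center (P ⧸ N) := by
    rw [hz, map_commutatorElement]; exact hY.comm_D hPq _ hdqD
  have hz1 : q z ≠ 1 := by
    rw [hz, map_commutatorElement]; exact hY.comm_ne_one hPq (hmemE2.2 hx) hxY hdqD hdc
  have hzD : q z ∈ Y.D := Y.center_le_D hPq hzc
  have hzE : z ∈ X.E1 := hmemE.1 hzD.1
  -- conjugation preserves the commutator values
  have hconj : ∀ g : P, ∀ a ∈ X.E1, ∀ b ∈ X.E1, ⁅g * a * g⁻¹, g * b * g⁻¹⁆ = ⁅a, b⁆ := by
    intro g a ha b hb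
    rw [show ⁅g * a * g⁻¹, g * b * g⁻¹⁆ = g * ⁅a, b⁆ * g⁻¹ by
      simp only [commutatorElement_def]; group, mem_center_iff.1 (hcc ha hb) g, mul_inv_cancel_right]
  have hNcomm : ∀ {a b : P}, a ∈ N → ⁅a, b⁆ = 1 := fun {a b} ha =>
    commutatorElement_eq_one_iff_commute.2 (commute_of_mem_center (hNc ha))
  have hzfix : ∀ g : P, ∀ b ∈ X.E1, ⁅z, g * b * g⁻¹⁆ = ⁅z, b⁆ := by
    intro g b hb
    have hn : ⁅g, z⁆ ∈ N := by
      rw [← QuotientGroup.eq_one_iff]
      show q ⁅g, z⁆ = 1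
      rw [map_commutatorElement, commutatorElement_eq_one_iff_commute]
      exact mem_center_iff.1 hzc (q g)
    have hgb : g * b * g⁻¹ ∈ X.E1 := X.n1.conj_mem b hb g
    rw [← hconj g z hzE b hb, show g * z * g⁻¹ = ⁅g, z⁆ * z by rw [commutatorElement_def]; group]
    have hc : Commute ⁅g, z⁆ (g * b * g⁻¹) := commute_of_mem_center (hNc hn)
    exact (comm_mul_left_abelian hc.eq (mem_center_iff.1 (hcc hzE hgb) _)).symm
  set C := X.E1 ⊓ centralizer ({z} : Set P) with hC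
  have hCmem : ∀ {y : P}, y ∈ C ↔ y ∈ X.E1 ∧ ⁅z, y⁆ = 1 := fun {y} => by
    rw [hC, mem_inf, mem_centralizer_singleton_iff, commutatorElement_eq_one_iff_mul_comm]
    exact and_congr_right fun _ => eq_comm
  haveI hCn : C.Normal := ⟨fun y hy g => by
    rw [hCmem] at hy ⊢
    exact ⟨X.n1.conj_mem y hy.1 g, (hzfix g y hy.1).trans hy.2⟩⟩
  have hdC : d ∈ C := by
    refine hCmem.2 ⟨hdD.1, ?_⟩
    have h := hzfix x e he
    rw [show x * e * x⁻¹ = d * e by rw [hd, commutatorElement_def]; group,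
      comm_mul_right' (hcc hzE he)] at h
    exact mul_eq_right.1 h
  have hzC : z ∈ C := hCmem.2 ⟨hzE, commutatorElement_self z⟩
  have hNC : ∀ n ∈ N, n ∈ C := fun n hn => hCmem.2 ⟨hN1 hn,
    commutatorElement_eq_one_iff_commute.2 (commute_of_mem_center (hNc hn)).symm⟩
  haveI := Y.D_normal
  have hDC : ∀ y ∈ X.D, y ∈ C := by
    intro y hy
    obtain ⟨c, hc, k, hk⟩ := exists_pow_mul_relIndex (hY.relIndex_center hPq) hdqD hdc
      (show q y ∈ Y.D from ⟨hmemE.2 hy.1, hmemE2.2 hy.2⟩)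
    obtain ⟨i, hi⟩ := Side.exists_pow_of_prime hY.center hzc hz1 hc
    have hn : (z ^ i * d ^ k)⁻¹ * y ∈ N := by
      rw [← QuotientGroup.eq_one_iff]
      show q _ = 1
      rw [map_mul, map_inv, map_mul, map_pow, map_pow, ← hi, ← hk, inv_mul_cancel]
    have := C.mul_mem (C.mul_mem (C.pow_mem hzC i) (C.pow_mem hdC k)) (hNC _ hn)
    rwa [mul_inv_cancel_left] at this
  have hzd : ∀ y ∈ X.D, ⁅z, y⁆ = 1 := fun y hy => (hCmem.1 (hDC y hy)).2
  have hze : ⁅z, e⁆ = 1 := by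
    have h := hconj x e he d hdD.1
    rw [show x * e * x⁻¹ = d * e by rw [hd, commutatorElement_def]; group,
      show x * d * x⁻¹ = z * d by rw [hz, commutatorElement_def]; group,
      comm_mul_right' (hcc (X.E1.mul_mem hdD.1 he) hdD.1)] at h
    have h1 : ⁅d * e, z⁆ = ⁅e, z⁆ := by
      refine comm_mul_left_abelian ?_ ?_
      · exact ((commutatorElement_eq_one_iff_mul_comm.1 (hzd d hdD)).symm)
      · exact mem_center_iff.1 (hcc he hzE) d
    have h2 : ⁅d * e, d⁆ = ⁅e, d⁆ :=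
      comm_mul_left_abelian rfl (mem_center_iff.1 (hcc he hdD.1) d)
    rw [h1, h2] at h
    have h3 : ⁅e, z⁆ = 1 := mul_eq_right.1 h
    rw [← commutatorElement_inv, h3, inv_one]
  have hzcE : ∀ y ∈ X.E1, ⁅z, y⁆ = 1 := by
    intro y hy
    haveI := X.D_normal
    obtain ⟨m, hm, k, rfl⟩ := exists_pow_mul_relIndex X.relIndex_D1 he (fun hh => he2 hh.2) hy
    exact (hCmem.1 (C.mul_mem (hDC m hm) (C.pow_mem (hCmem.2 ⟨he, hze⟩) k))).2
  have habel : ∀ a ∈ X.E1, ∀ b ∈ X.E1, a * b = b * a := by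
    set K := X.E1 ⊓ centralizer (X.E1 : Set P) with hK
    have hKi : X.s1.Inv K := X.s1.inv_cent X.s1.inv_self le_rfl
    have hKY := X.quot_inv_map1 N h1 h2 hND v1 v2 hKi inf_le_left
    have hzK : z ∈ K := ⟨hzE, mem_centralizer_iff.2 fun y hy =>
      (commutatorElement_eq_one_iff_mul_comm.1 (hzcE y hy)).symm⟩
    rcases hY.irred hPq hp2 (M := K.map q) hKY (map_mono inf_le_left) with hh | hh
    · exact absurd (mem_bot.1 (hh ▸ mem_map_of_mem q hzK)) hz1
    · intro a ha b hb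
      obtain ⟨a', ha', ea⟩ : q a ∈ K.map q := hh ▸ hmemE.2 ha
      have hn : a'⁻¹ * a ∈ N := (QuotientGroup.eq).1 ea
      have hab : Commute a' b := (mem_centralizer_iff.1 ha'.2 b hb).symm
      have hnb : Commute (a'⁻¹ * a) b := commute_of_mem_center (hNc hn)
      simpa using (hab.mul_left hnb).eq
  -- the exponent is `p`
  set K : Subgroup P :=
    { carrier := {y | y ∈ X.E1 ∧ y ^ p = 1}
      one_mem' := ⟨one_mem _, one_pow _⟩
      mul_mem' := fun {a b} ha hb => ⟨mul_mem ha.1 hb.1,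
        by rw [(show Commute a b from habel a ha.1 b hb.1).mul_pow, ha.2, hb.2, mul_one]⟩
      inv_mem' := fun {a} ha => ⟨inv_mem ha.1, by rw [inv_pow, ha.2, inv_one]⟩ } with hK
  have hKi : X.s1.Inv K := fun a y hy => ⟨X.s1.app_mem a hy.1, by rw [← X.s1.app_pow a hy.1, hy.2, X.s1.app_one']⟩
  have hpowN : ∀ y ∈ X.E1, y ^ p ∈ N := fun y hy => by
    rw [← QuotientGroup.eq_one_iff]
    show q (y ^ p) = 1
    rw [map_pow]; exact hY.pow1 _ (hmemE.2 hy)
  have hKE : K ≤ X.E1 := fun y hy => hy.1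
  have hct : X.s1.CT K X.E1 := by
    intro l hl _ y hy
    refine ⟨X.E1.mul_mem (X.s1.app_mem l hy) (X.E1.inv_mem hy), ?_⟩
    rw [(show Commute (X.s1.app l y) y⁻¹ from
      habel _ (X.s1.app_mem l hy) _ (X.E1.inv_mem hy)).mul_pow, ← X.s1.app_pow l hy,
      X.s1.fix_central h1 hN1 hNc hl (hpowN y hy), inv_pow, mul_inv_cancel]
  have hKY := X.quot_inv_map1 N h1 h2 hND v1 v2 hKi hKE
  have hNK : N ≤ K := fun n hn => ⟨hN1 hn, hNp n hn⟩
  have hKtop : K = X.E1 := by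
    rcases hY.irred hPq hp2 (M := K.map q) hKY (map_mono hKE) with hh | hh
    · exfalso
      refine v1 (X.s1.ct_mono (fun y hy => ?_) hct)
      have := mem_map_of_mem q hy
      rw [hh, mem_bot] at this
      exact (QuotientGroup.eq_one_iff y).1 this
    · refine le_antisymm hKE fun y hy => ?_
      obtain ⟨y', hy', ey⟩ : q y ∈ K.map q := hh ▸ hmemE.2 hy
      have := K.mul_mem hy' (hNK ((QuotientGroup.eq).1 ey))
      rwa [mul_inv_cancel_left] at this
  -- the rank is too large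
  have hrank : (⊥ : Subgroup P).relIndex X.E1 ≤ p ^ 3 := rank_le hsr
    (fun a ha b hb => by rw [mem_bot, habel a ha b hb, mul_inv_cancel_right, mul_inv_cancel])
    (fun a ha => mem_bot.2 (hKtop.symm ▸ ha : a ∈ K).2)
  have hcard : Nat.card Y.E1 = N.relIndex X.E1 := Side.relIndex_eq_card hN1
  have hmul := card_mul_relIndex hN1
  rw [← hcard, hY.card_E1] at hmul
  rw [relIndex_bot_left, ← hmul] at hrank
  have hN2 : 2 ≤ Nat.card N := (Finite.one_lt_card_iff_nontrivial.2 ((Subgroup.nontrivial_iff_ne_bot N).2 hN))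
  have := pow_pos hp.pos 3
  nlinarith

end Cfsg.Agent.Lib.TwoEssential
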