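import Cfsg.Agent.Lib.TwoEssential.Hull
import Cfsg.Agent.Lib.TwoEssential.CaseA

/-!
# The abelian hull does not occur

The centraliser of the hull lies over it with cyclic factor group, and the second Frattini subgroup
would be central in the second subgroup.
-/

set_option autoImplicit false
set_option linter.style.haveILetI false

universe u

namespace Cfsg.Agent.Lib.TwoEssential

open Subgroup
open scoped commutatorElement

variable {p : ℕ} [hp : Fact p.Prime] {P : Type u} [Group P] [Finite P] {X : Pair p P}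

/-- The situation left over by the first reductions is impossible. -/
theorem BData.false (h : BData X) (hP : IsPGroup p P) (hp2 : p ≠ 2) (hsr : SectionalPRankLE p 3 P)
    (IH : ∀ (N : Subgroup P) [N.Normal], N ≠ ⊥ → ∀ Y : Pair p (P ⧸ N), Outcome Y) : False := by
  obtain ⟨hV, hVE, hVp, hVz, hZV⟩ := X.s1.genZ_facts hP X.n1 X.i1
  obtain ⟨hUi, hUE, hVU, hUc, hUp, -⟩ := h.hull_facts hP hp2 hsr
  have hUab := h.hull_comm hP hp2 hsr
  obtain ⟨-, -, -, -, hirr⟩ := X.gen_facts hP hsr h.cardZ h.moved h.phi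
  have hVD := h.le_D hP hsr
  have hcV := h.comm_V hP hsr
  have hcardV := h.cardV
  have hmoved := h.moved
  have hmoved2 := h.moved2
  have hfixed2 := h.fixed2
  set V := X.s1.gen (Z1 p P) with hVdef
  set U := X.s2.gen V with hUdef
  haveI := X.n1
  haveI := X.n2
  haveI := X.D_normal
  haveI := X.s1.inv_normal hV hVE
  haveI := X.s2.inv_normal hUi hUE
  haveI : (Z1 p P).Normal := ⟨fun z hz g => by rwa [mem_center_iff.1 hz.1 g, mul_inv_cancel_right]⟩
  have hZU : Z1 p P ≤ U := hZV.trans hVU.le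
  have hUcard : Nat.card U = p ^ 3 := le_antisymm (card_elem_le hsr hUab hUp) (by
    have := mul_card_le_of_lt hP hVU
    rwa [hcardV, ← pow_succ'] at this)
  have hVne : ¬ V ≤ Z1 p P := fun hle => hmoved ((le_antisymm hle hZV) ▸ hV)
  have hUD : U ≤ X.D := by
    intro u hu
    refine ⟨?_, hUE hu⟩
    by_contra hu1
    refine hVne fun v hv => ⟨mem_center_iff.2 fun g => ?_, hVp v hv⟩
    obtain ⟨m, hm, k, rfl⟩ := X.exists_eq_mul hu1 g
    exact ((show Commute m v from hVz v hv m hm).mul_left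
      ((show Commute u v from hUab u hu v (hVU.le hv)).pow_left k)).eq
  have hVUi : V.relIndex U = p := by
    have := card_mul_relIndex hVU.le
    rw [hcardV, hUcard] at this
    exact Nat.eq_of_mul_eq_mul_left (pow_pos hp.out.pos 2) (this.trans (by ring))
  obtain ⟨hUi1, hor⟩ := lemmaA X.s1 hP hp2 hsr hV hVE hcardV hirr hVz hVp (hUD.trans inf_le_left) hVU.le
    hUcard hUab hUp fun e _ k hk => commutatorElement_def e k ▸ comm_mem_of_relIndex hP hVU.le hVUi e hk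
  have hVgen : V ≤ closure {c | ∃ e ∈ X.E1, ∃ k ∈ U, ⁅e, k⁆ = c} := by
    rcases hor with hall | hge
    · exfalso
      obtain ⟨x, hx, hx1⟩ := X.exists_out2
      have := X.card_le_of_small (K := U) (C := Z1 p P) (fun k hk y hy => hall y hy k hk) hUp hx1 h.cardZ
        Z1_le_center (fun k hk => hUc x hx k hk)
      rw [hUcard, h.cardZ] at this
      nlinarith [hp.out.one_lt, pow_pos hp.out.pos 2]
    · exact hge
  obtain ⟨u₁, hu₁, hu₁V⟩ := SetLike.exists_of_lt hVU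
  have hUdec : ∀ u ∈ U, ∃ v ∈ V, ∃ i : ℕ, u = v * u₁ ^ i :=
    fun u hu => exists_pow_mul_relIndex hVUi hu₁ hu₁V hu
  -- an element of the first subgroup centralising `u₁` centralises `U`
  have hcent : ∀ e ∈ X.E1, Commute e u₁ → ∀ u ∈ U, Commute e u := by
    intro e he hc u hu
    obtain ⟨v, hv, i, rfl⟩ := hUdec u hu
    exact (show Commute e v from hVz v hv e he).mul_right (hc.pow_right i)
  set C := X.D ⊓ centralizer (U : Set P) with hCdef
  have hCU : ∀ {c : P}, c ∈ C → ∀ u ∈ U, Commute u c := fun hc u hu => mem_centralizer_iff.1 hc.2 u hu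
  -- nothing outside `D` centralises `U`
  have hnot_single : ∀ e ∈ X.E1, ∀ c : P, (∀ f ∈ X.E1, ⁅f, u₁⁆ ∈ zpowers c) → c ^ p = 1 → False := by
    intro e _ c hall hcp
    have hle : V ≤ zpowers c := hVgen.trans ((closure_le _).2 (by
      rintro _ ⟨f, hf, k, hk, rfl⟩
      obtain ⟨v, hv, i, rfl⟩ := hUdec k hk
      have h1 : ⁅f, v * u₁ ^ i⁆ = ⁅f, u₁ ^ i⁆ := by
        rw [show ⁅f, v * u₁ ^ i⁆ = ⁅f, v⁆ * (v * ⁅f, u₁ ^ i⁆ * v⁻¹) by simp only [commutatorElement_def]; group,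
          commutatorElement_eq_one_iff_commute.2 (hVz v hv f hf), one_mul]
        have hmem : ⁅f, u₁ ^ i⁆ ∈ X.E1 := by
          rw [commutatorElement_def]
          exact X.E1.mul_mem (X.n1.conj_mem _ (X.E1.pow_mem (hUD hu₁).1 i) f)
            (X.E1.inv_mem (X.E1.pow_mem (hUD hu₁).1 i))
        rw [← hVz v hv _ hmem, mul_inv_cancel_right]
      have hf1 : ∀ i : ℕ, ⁅f, u₁ ^ i⁆ = ⁅f, u₁⁆ ^ i := by
        intro i
        have hfu : ⁅f, u₁⁆ ∈ V := commutatorElement_def f u₁ ▸ comm_mem_of_relIndex hP hVU.le hVUi f hu₁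
        induction i with
        | zero => rw [pow_zero, pow_zero, commutatorElement_one_right]
        | succ i ih =>
          rw [pow_succ, show ⁅f, u₁ ^ i * u₁⁆ = ⁅f, u₁ ^ i⁆ * (u₁ ^ i * ⁅f, u₁⁆ * (u₁ ^ i)⁻¹) by
            simp only [commutatorElement_def]; group, ih,
            hUab _ (U.pow_mem hu₁ i) _ (hVU.le hfu), mul_inv_cancel_right, ← pow_succ]
      rw [SetLike.mem_coe, h1, hf1]
      exact Subgroup.pow_mem _ (hall f hf) _))
    have h1 := Subgroup.card_le_of_le hle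
    rw [hcardV, Nat.card_zpowers] at h1
    have := Nat.le_of_dvd hp.out.pos (orderOf_dvd_of_pow_eq_one hcp)
    nlinarith [hp.out.one_lt]
  have hC1 : C = X.E1 ⊓ centralizer (U : Set P) := by
    refine le_antisymm (inf_le_inf_right _ inf_le_left) fun g hg => ⟨⟨hg.1, ?_⟩, hg.2⟩
    by_contra hg2
    -- then `V` is generated by one commutator
    have hgu : Commute g u₁ := (mem_centralizer_iff.1 hg.2 u₁ hu₁).symm
    refine hVne (hVgen.trans ((closure_le _).2 ?_))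
    rintro _ ⟨f, hf, k, hk, rfl⟩
    obtain ⟨m, hm, j, rfl⟩ := exists_pow_mul_relIndex X.relIndex_D1 hg.1 (fun hh => hg2 hh.2) hf
    have hgk : Commute (g ^ j) k := (show Commute g k from (mem_centralizer_iff.1 hg.2 k hk).symm).pow_left j
    rw [show ⁅m * g ^ j, k⁆ = m * ⁅g ^ j, k⁆ * m⁻¹ * ⁅m, k⁆ by simp only [commutatorElement_def]; group,
      commutatorElement_eq_one_iff_commute.2 hgk, mul_one, mul_inv_cancel, one_mul]
    exact hUc m hm.2 k hk
  have hC2 : C = X.E2 ⊓ centralizer (U : Set P) := by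
    refine le_antisymm (inf_le_inf_right _ inf_le_right) fun g hg => ⟨⟨?_, hg.1⟩, hg.2⟩
    by_contra hg1
    refine hVne fun v hv => ⟨mem_center_iff.2 fun y => ?_, hVp v hv⟩
    obtain ⟨m, hm, k, rfl⟩ := X.exists_eq_mul hg1 y
    have hgv : Commute g v := (mem_centralizer_iff.1 hg.2 v (hVU.le hv)).symm
    exact ((show Commute m v from hVz v hv m hm).mul_left (hgv.pow_left k)).eq
  have hCi1 : X.s1.Inv C := hC1 ▸ X.s1.inv_cent hUi1 (hUD.trans inf_le_left)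
  have hCi2 : X.s2.Inv C := hC2 ▸ X.s2.inv_cent hUi hUE
  have hUC : U ≤ C := fun u hu => ⟨hUD hu, mem_centralizer_iff.2 fun w hw => hUab w hw u hu⟩
  haveI hCn : C.Normal := X.s1.inv_normal hCi1 (inf_le_left.trans inf_le_left)
  -- the index of `C`
  obtain ⟨d₁, hd₁, hd₁C⟩ : ∃ d ∈ X.D, ⁅d, u₁⁆ ≠ 1 := by
    by_contra hh
    push Not at hh
    obtain ⟨e, he, he2⟩ := X.exists_out1
    refine hnot_single e he ⁅e, u₁⁆ (fun f hf => ?_) (hVp _ (commutatorElement_def e u₁ ▸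
      comm_mem_of_relIndex hP hVU.le hVUi e hu₁))
    obtain ⟨m, hm, k, rfl⟩ := exists_pow_mul_relIndex X.relIndex_D1 he (fun hh' => he2 hh'.2) hf
    have heV : ⁅e, u₁⁆ ∈ V := commutatorElement_def e u₁ ▸ comm_mem_of_relIndex hP hVU.le hVUi e hu₁
    have hek : ⁅e ^ k, u₁⁆ = ⁅e, u₁⁆ ^ k := by
      induction k with
      | zero => rw [pow_zero, pow_zero, commutatorElement_one_left]
      | succ k ih =>
        rw [pow_succ, show ⁅e ^ k * e, u₁⁆ = e ^ k * ⁅e, u₁⁆ * (e ^ k)⁻¹ * ⁅e ^ k, u₁⁆ by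
          simp only [commutatorElement_def]; group, hVz _ heV _ (X.E1.pow_mem he k), mul_inv_cancel_right,
          ih (X.E1.mul_mem hm.1 (X.E1.pow_mem he k)), ← pow_succ']
    rw [show ⁅m * e ^ k, u₁⁆ = m * ⁅e ^ k, u₁⁆ * m⁻¹ * ⁅m, u₁⁆ by simp only [commutatorElement_def]; group,
      hek, hVz _ (V.pow_mem heV k) _ hm.1, mul_inv_cancel_right, hh m hm, mul_one]
    exact Subgroup.pow_mem _ (mem_zpowers _) _
  let φ : X.D →* P :=
    { toFun := fun d => ⁅(d : P), u₁⁆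
      map_one' := commutatorElement_one_left u₁
      map_mul' := fun a b => by
        have hb : ⁅(b : P), u₁⁆ ∈ center P := (hUc b b.2.2 u₁ hu₁).1
        show ⁅(a : P) * b, u₁⁆ = ⁅(a : P), u₁⁆ * ⁅(b : P), u₁⁆
        rw [show ⁅(a : P) * b, u₁⁆ = a * ⁅(b : P), u₁⁆ * (a : P)⁻¹ * ⁅(a : P), u₁⁆ by
          simp only [commutatorElement_def]; group, mem_center_iff.1 hb (a : P), mul_inv_cancel_right,
          mem_center_iff.1 hb _] }
  have hker : φ.ker = C.subgroupOf X.D := by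
    ext d
    rw [MonoidHom.mem_ker, mem_subgroupOf]
    show ⁅(d : P), u₁⁆ = 1 ↔ _
    rw [commutatorElement_eq_one_iff_commute]
    exact ⟨fun hc => ⟨d.2, mem_centralizer_iff.2 fun u hu => (hcent d d.2.1 hc u hu).eq.symm⟩,
      fun hc => (hCU hc u₁ hu₁).symm⟩
  have hCD : C.relIndex X.D = p := by
    show (C.subgroupOf X.D).index = p
    rw [← hker, Subgroup.index_ker]
    have hr : φ.range ≤ Z1 p P := by rintro _ ⟨d, rfl⟩; exact hUc d d.2.2 u₁ hu₁
    rcases (Nat.dvd_prime hp.out).1 (h.cardZ ▸ card_dvd_of_le hr) with e | e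
    · exact absurd (Subgroup.mem_bot.1 ((Subgroup.eq_bot_of_card_eq _ e) ▸ (⟨⟨d₁, hd₁⟩, rfl⟩ : ⁅d₁, u₁⁆ ∈ φ.range)))
        hd₁C
    · exact e
  have hCindex : C.index = p ^ 3 := by
    rw [← relIndex_mul_index (inf_le_left : C ≤ X.D), hCD, X.index_D]; ring
  have hCE : ∀ {E : Subgroup P}, X.D ≤ E → X.D.relIndex E = p → C.relIndex E = p ^ 2 := by
    intro E hDE hi
    rw [← relIndex_mul_relIndex C X.D E inf_le_left hDE, hCD, hi, sq]
  have hCE2 := hCE inf_le_right X.relIndex_D2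
  -- both subgroups are elementary abelian modulo `C`
  have habel : ∀ {E : Subgroup P}, E ≤ X.E1 ∨ E ≤ X.E2 → ∀ u ∈ U, ∀ a ∈ E, ∀ b ∈ E,
      ⁅a * b, u⁆ = ⁅a, u⁆ * ⁅b, u⁆ ∧ ⁅a, u⁆ ^ p = 1 ∧ Commute ⁅a, u⁆ ⁅b, u⁆ := by
    intro E hE u hu a ha b hb
    have hau : ⁅a, u⁆ ∈ U := commutatorElement_def a u ▸ U.mul_mem ((inferInstance : U.Normal).conj_mem u hu a) (U.inv_mem hu)
    have hbu : ⁅b, u⁆ ∈ U := commutatorElement_def b u ▸ U.mul_mem ((inferInstance : U.Normal).conj_mem u hu b) (U.inv_mem hu)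
    refine ⟨?_, hUp _ hau, hUab _ hau _ hbu⟩
    have hfix : a * ⁅b, u⁆ * a⁻¹ = ⁅b, u⁆ := by
      rcases hE with hE | hE
      · have hbV : ⁅b, u⁆ ∈ V := by
          obtain ⟨v, hv, i, rfl⟩ := hUdec u hu
          rw [show ⁅b, v * u₁ ^ i⁆ = ⁅b, v⁆ * (v * ⁅b, u₁ ^ i⁆ * v⁻¹) by simp only [commutatorElement_def]; group,
            commutatorElement_eq_one_iff_commute.2 (hVz v hv b (hE hb)), one_mul]
          refine (inferInstance : V.Normal).conj_mem _ ?_ v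
          exact commutatorElement_def b (u₁ ^ i) ▸ comm_mem_of_relIndex hP hVU.le hVUi b (U.pow_mem hu₁ i)
        rw [hVz _ hbV a (hE ha), mul_inv_cancel_right]
      · rw [mem_center_iff.1 (hUc b (hE hb) u hu).1 a, mul_inv_cancel_right]
    rw [show ⁅a * b, u⁆ = a * ⁅b, u⁆ * a⁻¹ * ⁅a, u⁆ by simp only [commutatorElement_def]; group, hfix,
      hUab _ hbu _ hau]
  have helem : ∀ {E : Subgroup P}, E = X.E1 ∨ E = X.E2 →
      (∀ a ∈ E, ∀ b ∈ E, ⁅a, b⁆ ∈ C) ∧ ∀ a ∈ E, a ^ p ∈ C := by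
    intro E hE
    have hE' : E ≤ X.E1 ∨ E ≤ X.E2 := hE.imp le_of_eq le_of_eq
    have hCeq : C = E ⊓ centralizer (U : Set P) := by rcases hE with rfl | rfl; exacts [hC1, hC2]
    have hone : ∀ u ∈ U, ∀ a ∈ E, ⁅a⁻¹, u⁆ = ⁅a, u⁆⁻¹ := fun u hu a ha => by
      have := (habel hE' u hu a⁻¹ (E.inv_mem ha) a ha).1
      rw [inv_mul_cancel, commutatorElement_one_left] at this
      exact eq_inv_of_mul_eq_one_left this.symm
    constructor
    · intro a ha b hb
      have hab : ⁅a, b⁆ ∈ E := commutatorElement_def a b ▸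
        E.mul_mem (E.mul_mem (E.mul_mem ha hb) (E.inv_mem ha)) (E.inv_mem hb)
      rw [hCeq]
      refine ⟨hab, mem_centralizer_iff.2 fun u hu => ?_⟩
      refine (commutatorElement_eq_one_iff_mul_comm.1 ?_).symm
      have e : ⁅⁅a, b⁆, u⁆ = ⁅a * b * a⁻¹ * b⁻¹, u⁆ := by rw [← commutatorElement_def]
      rw [e, (habel hE' u hu _ (E.mul_mem (E.mul_mem ha hb) (E.inv_mem ha)) _ (E.inv_mem hb)).1,
        (habel hE' u hu _ (E.mul_mem ha hb) _ (E.inv_mem ha)).1, (habel hE' u hu a ha b hb).1,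
        hone u hu a ha, hone u hu b hb, mul_assoc ⁅a, u⁆, ← ((habel hE' u hu a ha b hb).2.2.inv_left).eq,
        mul_inv_cancel_left, mul_inv_cancel]
    · intro a ha
      rw [hCeq]
      refine ⟨E.pow_mem ha p, mem_centralizer_iff.2 fun u hu => ?_⟩
      refine (commutatorElement_eq_one_iff_mul_comm.1 ?_).symm
      have hk : ∀ k : ℕ, ⁅a ^ k, u⁆ = ⁅a, u⁆ ^ k := by
        intro k
        induction k with
        | zero => rw [pow_zero, pow_zero, commutatorElement_one_left]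
        | succ k ih => rw [pow_succ, (habel hE' u hu _ (E.pow_mem ha k) a ha).1, ih, ← pow_succ]
      rw [hk, (habel hE' u hu a ha a ha).2.1]
  -- `L` acts nontrivially modulo `C`
  have hctZ1 : ∀ {s : Subgroup P}, s ≤ Z1 p P → s ≤ center P := fun hs => hs.trans Z1_le_center
  have v1C : ¬ X.s1.CT C X.E1 := by
    intro hct
    have hVUct : X.s1.CT V U := X.s1.ct_step hP hV hUi1 hVU.le (hUD.trans inf_le_left) hVUi
    have hfix : X.s1.CT ⊥ V := by
      intro l hl hlc v hv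
      rw [mem_bot, mul_inv_eq_one]
      refine closure_induction (p := fun y _ => y ∈ X.E1 ∧ X.s1.app l y = y) ?_
        ⟨one_mem _, X.s1.app_one' l⟩
        (fun y w _ _ hy hw => ⟨mul_mem hy.1 hw.1, by rw [X.s1.app_mul l hy.1 hw.1, hy.2, hw.2]⟩)
        (fun y _ hy => ⟨inv_mem hy.1, by rw [X.s1.app_inv l hy.1, hy.2]⟩) (hVgen hv) |>.2
      rintro _ ⟨e, he, k, hk, rfl⟩
      have hkE : k ∈ X.E1 := (hUD hk).1
      refine ⟨commutatorElement_def e k ▸ X.E1.mul_mem (X.n1.conj_mem k hkE e) (X.E1.inv_mem hkE), ?_⟩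
      set c := X.s1.app l e * e⁻¹
      set w := X.s1.app l k * k⁻¹
      have hc : c ∈ C := hct l hl hlc e he
      have hw : w ∈ V := hVUct l hl hlc k hk
      rw [X.s1.app_comm l he hkE, show X.s1.app l e = c * e by simp [c],
        show X.s1.app l k = w * k by simp [w]]
      have hcE : c ∈ X.E1 := hc.1.1
      have h1 : ⁅c * e, w * k⁆ = ⁅c * e, k⁆ := by
        have hcomm : Commute (c * e) w := hVz w hw _ (X.E1.mul_mem hcE he)
        have hk' : ⁅c * e, k⁆ ∈ X.E1 := commutatorElement_def (c * e) k ▸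
          X.E1.mul_mem (X.n1.conj_mem k hkE _) (X.E1.inv_mem hkE)
        rw [show ⁅c * e, w * k⁆ = ⁅c * e, w⁆ * (w * ⁅c * e, k⁆ * w⁻¹) by simp only [commutatorElement_def]; group,
          commutatorElement_eq_one_iff_commute.2 hcomm, one_mul, ← hVz w hw _ hk', mul_inv_cancel_right]
      have hek : ⁅e, k⁆ ∈ U :=
        commutatorElement_def e k ▸ U.mul_mem ((inferInstance : U.Normal).conj_mem k hk e) (U.inv_mem hk)
      rw [h1]
      exact comm_mul_left_abelian (hCU hc k hk).symm.eq (hCU hc _ hek).symm.eq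
    have := X.s1.inv_of_ct hV hVE hfix hZV inferInstance fun b y hy => mem_Z1_map _ hy
    exact hmoved this
  -- elements of `U` centralised by the second side
  have hUcen : ∀ w ∈ U, (∀ e ∈ X.E2, Commute e w) → w ∈ Z1 p P := by
    intro w hw hwc
    by_cases hwV : w ∈ V
    · exact X.mem_Z1 (fun y hy => (hVz w hwV y hy).symm) (fun y hy => (hwc y hy).symm.eq) (hVp w hwV)
    · exfalso
      apply hd₁C
      obtain ⟨v, hv, i, he⟩ := exists_pow_mul_relIndex hVUi hw hwV hu₁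
      rw [commutatorElement_eq_one_iff_commute, he]
      exact (show Commute d₁ v from hVz v hv d₁ hd₁.1).mul_right ((hwc d₁ hd₁.2).pow_right i)
  have hnU : ¬ X.s2.CT (Z1 p P) U := by
    intro hct
    have hUct : X.s2.CT ⊥ U := X.s2.ct_trans hP X.s2.inv_bot bot_le (hZU.trans hUE) hUE hct
      (X.s2.ct_bot_of_central hfixed2 (hZU.trans hUE) Z1_le_center)
    exact hmoved2 (X.s2.inv_of_ct hUi hUE hUct hVU.le inferInstance fun b y hy => X.s1.inv_bact hV hVE b hy)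
  have v2C : ¬ X.s2.CT C X.E2 := by
    intro hct
    refine hnU fun l hl hlc u hu => ?_
    set w := X.s2.app l u * u⁻¹ with hw
    have huE := hUE hu
    have hwU : w ∈ U := U.mul_mem (hUi l u hu) (U.inv_mem hu)
    refine hUcen w hwU fun e he => ?_
    rw [← commutatorElement_eq_one_iff_commute]
    have h1 : ⁅e, X.s2.app l u⁆ = ⁅e, u⁆ := by
      set e' := X.s2.app l⁻¹ e with he'
      have he'E : e' ∈ X.E2 := X.s2.app_mem _ he
      have hce : e * e'⁻¹ ∈ C := by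
        have := hct l hl hlc e' he'E
        rwa [he', X.s2.app_app_inv l he] at this
      conv_lhs => rw [← X.s2.app_app_inv l he, ← he', ← X.s2.app_comm l he'E huE,
        X.s2.fix_central hfixed2 (hZU.trans hUE) Z1_le_center hl (hUc e' he'E u hu)]
      conv_rhs => rw [show e = (e * e'⁻¹) * e' by group]
      exact (comm_mul_left_abelian (hCU hce u hu).symm.eq
        (commute_of_mem_center (hUc e' he'E u hu).1).symm.eq).symm
    rw [hw, comm_mul_right' (hUc e he u⁻¹ (U.inv_mem hu)).1, comm_inv_right (hUc e he u hu).1, h1,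
      mul_inv_cancel]
  -- the factor group by `U`
  have v1 : ¬ X.s1.CT U X.E1 := fun hh => v1C (X.s1.ct_mono hUC hh)
  have v2 : ¬ X.s2.CT U X.E2 := fun hh => v2C (X.s2.ct_mono hUC hh)
  have hUb : U ≠ ⊥ := fun e => by
    rw [e, Subgroup.card_bot] at hUcard
    exact (Nat.one_lt_pow three_ne_zero hp.out.one_lt).ne hUcard
  have hPq : IsPGroup p (P ⧸ U) := hP.to_quotient U
  set Y := X.quot U hUi1 hUi hUD v1 v2 with hYdef
  set q := QuotientGroup.mk' U with hq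
  have hY : Outcome Y := IH U hUb Y
  have hCq1 : Y.s1.Inv (C.map q) := X.quot_inv_map1 U hUi1 hUi hUD v1 v2 hCi1 (inf_le_left.trans inf_le_left)
  have hCq2 : Y.s2.Inv (C.map q) := X.quot_inv_map2 U hUi1 hUi hUD v1 v2 hCi2 (inf_le_left.trans inf_le_right)
  have hCqi : (C.map q).index = p ^ 3 := by
    rw [Subgroup.index_map_eq _ (QuotientGroup.mk'_surjective U), hCindex]
    rw [QuotientGroup.ker_mk']; exact hUC
  have hCqD : C.map q ≤ Y.D := le_inf (map_mono (inf_le_left.trans inf_le_left))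
    (map_mono (inf_le_left.trans inf_le_right))
  have hCqcard : ∀ {k : ℕ}, Nat.card (P ⧸ U) = p ^ (k + 3) → Nat.card (C.map q) = p ^ k := fun hk => by
    have := (C.map q).card_mul_index
    rw [hCqi, hk, pow_add] at this
    exact Nat.eq_of_mul_eq_mul_right (pow_pos hp.out.pos 3) this
  obtain ⟨T, hT⟩ : ∃ T, LC Y T := by
    have hsp : ∀ Y' : Pair p (P ⧸ U), Sp Y' → Y'.s1.Inv (C.map q) → C.map q ≤ Y'.D → False := by
      intro Y' hS hinv hle
      rcases hS.irred hPq hp2 hinv (hle.trans inf_le_left) with e | e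
      · have := hCqcard (k := 1) hS.card
        rw [e, Subgroup.card_bot, pow_one] at this
        exact hp.out.one_lt.ne this
      · have := hS.card_E1
        rw [← e, hCqcard (k := 1) hS.card] at this
        exact absurd (Nat.pow_right_injective hp.out.two_le this) (by norm_num)
    rcases hY with hh | hh | hh
    · exact hh
    · exact (hsp Y hh hCq1 hCqD).elim
    · exact (hsp Y.swap hh hCq2 (Y.swap_D ▸ hCqD)).elim
  have hTC : C.map q ≤ T := by
    by_contra hh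
    haveI := Y.s1.inv_normal hT.inv1 (hT.le.trans inf_le_left)
    obtain ⟨c, hc, hcT⟩ := SetLike.not_le_iff_exists.1 hh
    have e : T ⊔ C.map q = Y.D := by
      refine le_antisymm (sup_le hT.le hCqD) fun y hy => ?_
      obtain ⟨t, ht, k, rfl⟩ := exists_pow_mul_relIndex hT.relIndex_D (hCqD hc) hcT hy
      exact mul_mem (le_sup_left (b := C.map q) ht) (le_sup_right (a := T) (pow_mem hc k))
    exact (hT.not_inv_D1 hPq) (e ▸ Y.s1.inv_sup hT.inv1 hCq1 (hT.le.trans inf_le_left) (hCqD.trans inf_le_left))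
  have hTeq : C.map q = T := by
    refine Subgroup.eq_of_le_of_card_ge hTC ?_
    have h1 := T.card_mul_index
    rw [hT.index, ← (C.map q).card_mul_index, hCqi] at h1
    exact (Nat.eq_of_mul_eq_mul_right (pow_pos hp.out.pos 3) h1).le
  -- `C` is abelian
  obtain ⟨⟨g₀q, hg₀T⟩, hgen⟩ := hT.cyclic.exists_generator
  obtain ⟨g₀, hg₀, hg₀e⟩ : g₀q ∈ C.map q := hTeq.symm ▸ hg₀T
  have hCdec : ∀ c ∈ C, ∃ i : ℤ, ∃ u ∈ U, c = g₀ ^ i * u := by
    intro c hc
    have hcT : q c ∈ T := hTeq ▸ mem_map_of_mem q hc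
    obtain ⟨i, hi⟩ := mem_zpowers_iff.1 (hgen ⟨q c, hcT⟩)
    refine ⟨i, (g₀ ^ i)⁻¹ * c, ?_, by group⟩
    rw [← QuotientGroup.eq_one_iff]
    show q ((g₀ ^ i)⁻¹ * c) = 1
    rw [map_mul, map_inv, map_zpow, hg₀e, inv_mul_eq_one]
    exact congrArg Subtype.val hi
  have hCab : ∀ a ∈ C, ∀ b ∈ C, Commute a b := by
    intro a ha b hb
    obtain ⟨i, u, hu, rfl⟩ := hCdec a ha
    obtain ⟨j, w, hw, rfl⟩ := hCdec b hb
    have hgu : ∀ u ∈ U, Commute g₀ u := fun u hu => (hCU hg₀ u hu).symm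
    exact (((Commute.refl g₀).zpow_zpow i j).mul_right ((hgu w hw).zpow_left i)).mul_left
      (((hgu u hu).zpow_left j).symm.mul_right (hUab u hu w hw))
  have hPC : ∀ g : P, ∀ c ∈ C, ⁅g, c⁆ ∈ U := fun g c hc => by
    rw [← QuotientGroup.eq_one_iff]
    show q ⁅g, c⁆ = 1
    rw [map_commutatorElement, commutatorElement_eq_one_iff_mul_comm]
    exact mem_center_iff.1 (hT.central (hTeq ▸ mem_map_of_mem q hc)) (q g)
  obtain ⟨hE2c, hE2p⟩ := helem (Or.inr rfl : X.E2 = X.E1 ∨ X.E2 = X.E2)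
  -- the trilinear form
  have hB0 : ∀ {y u : P}, y ∈ X.E2 → u ∈ Z1 p P → ⁅y, u⁆ = 1 := fun {y u} _ hu =>
    commutatorElement_eq_one_iff_mul_comm.2 (mem_center_iff.1 hu.1 y)
  have hBr : ∀ {y u w : P}, y ∈ X.E2 → u ∈ U → w ∈ U → ⁅y, u * w⁆ = ⁅y, u⁆ * ⁅y, w⁆ :=
    fun {y u w} hy _ hw => comm_mul_right' (hUc y hy w hw).1
  have hBx : ∀ {y x x' c : P}, y ∈ X.E2 → x ∈ X.E2 → x' ∈ X.E2 → c ∈ C →
      ⁅y, ⁅x * x', c⁆⁆ = ⁅y, ⁅x, c⁆⁆ * ⁅y, ⁅x', c⁆⁆ := by
    intro y x x' c hy hx hx' hc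
    have hxc := hPC x c hc
    have hx'c := hPC x' c hc
    have hz := hUc x hx _ hx'c
    rw [show ⁅x * x', c⁆ = ⁅x, ⁅x', c⁆⁆ * ⁅x', c⁆ * ⁅x, c⁆ by simp only [commutatorElement_def]; group,
      hBr hy (U.mul_mem (hZU hz) hx'c) hxc, hBr hy (hZU hz) hx'c, hB0 hy hz, one_mul,
      mem_center_iff.1 (hUc y hy _ hx'c).1 _]
  have hBy : ∀ {y y' u : P}, y ∈ X.E2 → y' ∈ X.E2 → u ∈ U → ⁅y * y', u⁆ = ⁅y, u⁆ * ⁅y', u⁆ := by
    intro y y' u hy hy' hu
    exact (habel (Or.inr le_rfl) u hu y hy y' hy').1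
  have hBsymm : ∀ {y x c : P}, y ∈ X.E2 → x ∈ X.E2 → c ∈ C → ⁅y, ⁅x, c⁆⁆ = ⁅x, ⁅y, c⁆⁆ := by
    intro y x c hy hx hc
    set n := ⁅y, x⁆ with hn
    have hnC : n ∈ C := hE2c y hy x hx
    have hcomm : (y * x) * c * (y * x)⁻¹ = (x * y) * c * (x * y)⁻¹ := by
      have : y * x = n * (x * y) := by rw [hn, commutatorElement_def]; group
      rw [this]
      have h1 : (x * y) * c * (x * y)⁻¹ ∈ C := hCn.conj_mem c hc _
      calc n * (x * y) * c * (n * (x * y))⁻¹ = n * ((x * y) * c * (x * y)⁻¹) * n⁻¹ := by group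
        _ = _ := by rw [(hCab n hnC _ h1).eq, mul_inv_cancel_right]
    have hxc := hPC x c hc
    have hyc := hPC y c hc
    have e1 : (y * x) * c * (y * x)⁻¹ = ⁅y, ⁅x, c⁆⁆ * (⁅x, c⁆ * ⁅y, c⁆) * c := by
      simp only [commutatorElement_def]; group
    have e2 : (x * y) * c * (x * y)⁻¹ = ⁅x, ⁅y, c⁆⁆ * (⁅y, c⁆ * ⁅x, c⁆) * c := by
      simp only [commutatorElement_def]; group
    rw [e1, e2, hUab _ hyc _ hxc] at hcomm
    exact mul_right_cancel (mul_right_cancel hcomm)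
  -- a rotated pair of elements
  obtain ⟨e₁, he₁, he₁2⟩ := X.exists_out1
  obtain ⟨y₀, hy₀, hy₀1⟩ := X.exists_out2
  set d₀ := ⁅e₁, y₀⁆ with hd₀
  have hd₀D : d₀ ∈ X.D := X.comm_mem_D he₁ hy₀
  have hconjy : e₁ * y₀ * e₁⁻¹ = d₀ * y₀ := by rw [hd₀, commutatorElement_def]; group
  obtain ⟨hE1c, -⟩ := helem (Or.inl rfl : X.E1 = X.E1 ∨ X.E1 = X.E2)
  have hDC : ∀ g : P, ∀ d ∈ X.D, ⁅g, d⁆ ∈ C := fun g d hd =>
    commutatorElement_def g d ▸ comm_mem_of_relIndex hP inf_le_left hCD g hd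
  have hd₀C : d₀ ∉ C := by
    intro hin
    apply v2C
    refine X.s2.ct_of_central X.s2.inv_self le_rfl hCi2 (inf_le_left.trans inf_le_right) fun g x hx => ?_
    rw [← QuotientGroup.eq_one_iff, ← commutatorElement_def]
    show QuotientGroup.mk' C ⁅g, x⁆ = 1
    rw [map_commutatorElement, commutatorElement_eq_one_iff_commute]
    set r := QuotientGroup.mk' C
    have hrc : ∀ {a b : P}, ⁅a, b⁆ ∈ C → Commute (r a) (r b) := fun hh => by
      rw [← commutatorElement_eq_one_iff_commute, ← map_commutatorElement]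
      exact (QuotientGroup.eq_one_iff _).2 hh
    obtain ⟨a, ha, b, hb, rfl⟩ := X.exists_mul g
    obtain ⟨m, hm, k, rfl⟩ := exists_pow_mul_relIndex X.relIndex_D2 hy₀ (fun hh => hy₀1 hh.1) hx
    obtain ⟨n, hn, j, rfl⟩ := exists_pow_mul_relIndex X.relIndex_D1 he₁ (fun hh => he₁2 hh.2) ha
    rw [map_mul r (n * e₁ ^ j) b]
    refine Commute.mul_left ?_ (hrc (hE2c b hb _ (mul_mem hm.2 (pow_mem hy₀ k))))
    rw [map_mul, map_mul, map_pow, map_pow]
    refine Commute.mul_left (Commute.mul_right (hrc (hDC n m hm)) ?_)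
      (Commute.mul_right ((hrc (hDC e₁ m hm)).pow_left j) ((hrc hin).pow_pow j k))
    exact ((hrc (hDC y₀ n hn)).symm.pow_right k)
  set c' := ⁅e₁, d₀⁆ with hc'
  have hc'C : c' ∈ C := hDC e₁ d₀ hd₀D
  have hconjd : e₁ * d₀ * e₁⁻¹ = c' * d₀ := by rw [hc', commutatorElement_def]; group
  have hd₀E : d₀ ∈ X.E2 := hd₀D.2
  have hCE2' : ∀ {c : P}, c ∈ C → c ∈ X.E2 := fun hc => hc.1.2
  have hBzero_x : ∀ {y x c : P}, y ∈ X.E2 → x ∈ C → c ∈ C → ⁅y, ⁅x, c⁆⁆ = 1 := fun {y x c} _ hx hc => by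
    rw [commutatorElement_eq_one_iff_commute.2 (hCab x hx c hc), commutatorElement_one_right]
  have hBzero_y : ∀ {y x c : P}, y ∈ C → c ∈ C → ⁅y, ⁅x, c⁆⁆ = 1 := fun {y x c} hy hc =>
    commutatorElement_eq_one_iff_commute.2 (hCU hy _ (hPC x c hc)).symm
  -- invariance under the outer element of the first side
  have hBinv : ∀ {y x c : P}, y ∈ X.E2 → x ∈ X.E2 → c ∈ C →
      ⁅e₁ * y * e₁⁻¹, ⁅e₁ * x * e₁⁻¹, c⁆⁆ = ⁅y, ⁅x, c⁆⁆ := by
    intro y x c hy hx hc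
    have hu : ⁅e₁, c⁆ ∈ U := hPC e₁ c hc
    have hy' : e₁ * y * e₁⁻¹ ∈ X.E2 := X.n2.conj_mem y hy e₁
    have hx' : e₁ * x * e₁⁻¹ ∈ X.E2 := X.n2.conj_mem x hx e₁
    have hB : ⁅e₁ * y * e₁⁻¹, ⁅e₁ * x * e₁⁻¹, e₁ * c * e₁⁻¹⁆⁆ = ⁅y, ⁅x, c⁆⁆ := by
      rw [show ⁅e₁ * x * e₁⁻¹, e₁ * c * e₁⁻¹⁆ = e₁ * ⁅x, c⁆ * e₁⁻¹ by simp only [commutatorElement_def]; group,
        show ⁅e₁ * y * e₁⁻¹, e₁ * ⁅x, c⁆ * e₁⁻¹⁆ = e₁ * ⁅y, ⁅x, c⁆⁆ * e₁⁻¹ by
          simp only [commutatorElement_def]; group,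
        mem_center_iff.1 (hUc y hy _ (hPC x c hc)).1 e₁, mul_inv_cancel_right]
    rw [show e₁ * c * e₁⁻¹ = ⁅e₁, c⁆ * c by rw [commutatorElement_def]; group] at hB
    set u := ⁅e₁, c⁆
    set x' := e₁ * x * e₁⁻¹
    have hz := hUc x' hx' u hu
    have hxc' := hPC x' c hc
    rw [show ⁅x', u * c⁆ = ⁅x', u⁆ * (u * ⁅x', c⁆ * u⁻¹) by simp only [commutatorElement_def]; group,
      hUab u hu _ hxc', mul_inv_cancel_right, hBr hy' (hZU hz) hxc', hB0 hy' hz, one_mul] at hB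
    exact hB
  have hsq1 : ∀ {w : P}, w * w = 1 → w = 1 := fun {w} hw => eq_one_of_eq_inv hP hp2 (mul_eq_one_iff_eq_inv.1 hw)
  have hBd : ∀ c ∈ C, ⁅d₀, ⁅d₀, c⁆⁆ = 1 ∧ ⁅y₀, ⁅d₀, c⁆⁆ = 1 := by
    intro c hc
    have hud := hPC d₀ c hc
    have huy := hPC y₀ c hc
    have huc' := hPC c' c hc
    have hsym := hBsymm hy₀ hd₀E hc
    have h1 := hBinv (y := y₀) (x := y₀) hy₀ hy₀ hc
    rw [hconjy, hBx (mul_mem hd₀E hy₀) hd₀E hy₀ hc, hBy hd₀E hy₀ hud, hBy hd₀E hy₀ huy, ← hsym,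
      ← mul_assoc] at h1
    have h1' : ⁅d₀, ⁅d₀, c⁆⁆ * ⁅y₀, ⁅d₀, c⁆⁆ * ⁅y₀, ⁅d₀, c⁆⁆ = 1 := mul_eq_right.1 h1
    have h2 := hBinv (y := y₀) (x := d₀) hy₀ hd₀E hc
    rw [hconjy, hconjd, hBx (mul_mem hd₀E hy₀) (hCE2' hc'C) hd₀E hc,
      hBzero_x (mul_mem hd₀E hy₀) hc'C hc, one_mul, hBy hd₀E hy₀ hud] at h2
    have h2' : ⁅d₀, ⁅d₀, c⁆⁆ = 1 := mul_eq_right.1 h2
    rw [h2', one_mul] at h1'
    exact ⟨h2', hsq1 h1'⟩
  have hE2dec : ∀ y ∈ X.E2, ∃ c ∈ C, ∃ i j : ℕ, y = c * d₀ ^ i * y₀ ^ j := by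
    intro y hy
    obtain ⟨m, hm, j, rfl⟩ := exists_pow_mul_relIndex X.relIndex_D2 hy₀ (fun hh => hy₀1 hh.1) hy
    obtain ⟨c, hc, i, rfl⟩ := exists_pow_mul_relIndex hCD hd₀D hd₀C hm
    exact ⟨c, hc, i, j, rfl⟩
  -- natural section
  have hnat : X.s2.Nat2 C X.E2 := ⟨hCi2, X.s2.inv_self, inf_le_left.trans inf_le_right, le_rfl, hCE2,
    fun a ha b hb => commutatorElement_def a b ▸ hE2c a ha b hb, hE2p, v2C⟩
  -- the radical of the form
  let Rad : Subgroup P :=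
    { carrier := {x | x ∈ X.E2 ∧ ∀ c ∈ C, ∀ y ∈ X.E2, ⁅y, ⁅x, c⁆⁆ = 1}
      one_mem' := ⟨one_mem _, fun c _ y _ => by rw [commutatorElement_one_left, commutatorElement_one_right]⟩
      mul_mem' := fun {a b} ha hb => ⟨mul_mem ha.1 hb.1, fun c hc y hy => by
        rw [hBx hy ha.1 hb.1 hc, ha.2 c hc y hy, hb.2 c hc y hy, one_mul]⟩
      inv_mem' := fun {a} ha => ⟨inv_mem ha.1, fun c hc y hy => by
        have := hBx hy (inv_mem ha.1) ha.1 hc
        rw [inv_mul_cancel, commutatorElement_one_left, commutatorElement_one_right, ha.2 c hc y hy, mul_one] at this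
        exact this.symm⟩ }
  have hRad : Rad = X.E2 := by
    have hi : X.s2.Inv Rad := by
      intro a x hx
      refine ⟨X.s2.app_mem a hx.1, fun c hc y hy => ?_⟩
      have hc' := hCi2 a⁻¹ c hc
      have hcE := hCE2' hc
      have hxc : ⁅x, X.s2.app a⁻¹ c⁆ ∈ X.E2 := hUE (hPC x _ hc')
      have := congrArg (X.s2.app a) (hx.2 _ hc' _ (X.s2.app_mem a⁻¹ hy))
      rwa [X.s2.app_comm a (X.s2.app_mem _ hy) hxc, X.s2.app_comm a hx.1 (X.s2.app_mem _ hcE),
        X.s2.app_app_inv a hy, X.s2.app_app_inv a hcE, X.s2.app_one'] at this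
    have hCR : C ≤ Rad := fun x hx => ⟨hCE2' hx, fun c hc y hy => hBzero_x hy hx hc⟩
    have hd₀R : d₀ ∈ Rad := by
      refine ⟨hd₀E, fun c hc y hy => ?_⟩
      obtain ⟨b, hb, i, j, rfl⟩ := hE2dec y hy
      have hud := hPC d₀ c hc
      rw [hBy (mul_mem (hCE2' hb) (pow_mem hd₀E i)) (pow_mem hy₀ j) hud,
        hBy (hCE2' hb) (pow_mem hd₀E i) hud, hBzero_y hb hc, one_mul,
        comm_pow_left (hUc d₀ hd₀E _ hud).1, (hBd c hc).1, one_pow, one_mul,
        comm_pow_left (hUc y₀ hy₀ _ hud).1, (hBd c hc).2, one_pow]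
    rcases hnat.irred X.s2 hP hi hCR (fun x hx => hx.1) with e | e
    · exact absurd (e ▸ hd₀R) hd₀C
    · exact e
  have hcen : ∀ x ∈ X.E2, ∀ c ∈ C, ⁅x, c⁆ ∈ Z1 p P := fun x hx c hc =>
    hUcen _ (hPC x c hc) fun e he => commutatorElement_eq_one_iff_commute.1
      ((hRad.symm ▸ hx : x ∈ Rad).2 c hc e he)
  -- all commutators in the second subgroup
  set c₀ := ⁅d₀, y₀⁆ with hc₀
  have hc₀C : c₀ ∈ C := hE2c d₀ hd₀E y₀ hy₀
  set G := Z1 p P ⊔ zpowers c₀ with hG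
  have hGC : G ≤ C := sup_le (hZU.trans hUC) (zpowers_le.2 hc₀C)
  have hZG : Z1 p P ≤ G := le_sup_left
  have hconjG : ∀ y ∈ X.E2, ∀ w ∈ G, y * w * y⁻¹ ∈ G := fun y hy w hw => by
    have := G.mul_mem (hZG (hcen y hy w (hGC hw))) hw
    rwa [commutatorElement_def, inv_mul_cancel_right] at this
  have hGsub : ∀ (a : P), a ∈ X.E2 → (∀ b ∈ ({d₀, y₀} : Set P) ∪ C, ⁅a, b⁆ ∈ G) →
      ∀ b ∈ X.E2, ⁅a, b⁆ ∈ G := by
    intro a _ hgen b hb
    let S : Subgroup P :=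
      { carrier := {b | b ∈ X.E2 ∧ ⁅a, b⁆ ∈ G}
        one_mem' := ⟨one_mem _, by rw [commutatorElement_one_right]; exact one_mem _⟩
        mul_mem' := fun {b c} hb hc => ⟨mul_mem hb.1 hc.1, by
          rw [show ⁅a, b * c⁆ = ⁅a, b⁆ * (b * ⁅a, c⁆ * b⁻¹) by simp only [commutatorElement_def]; group]
          exact mul_mem hb.2 (hconjG b hb.1 _ hc.2)⟩
        inv_mem' := fun {b} hb => ⟨inv_mem hb.1, by
          rw [show ⁅a, b⁻¹⁆ = b⁻¹ * ⁅a, b⁆⁻¹ * b⁻¹⁻¹ by simp only [commutatorElement_def]; group]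
          exact hconjG _ (inv_mem hb.1) _ (inv_mem hb.2)⟩ }
    obtain ⟨c, hc, i, j, rfl⟩ := hE2dec b hb
    exact (S.mul_mem (S.mul_mem ⟨hCE2' hc, hgen c (Or.inr hc)⟩
      (S.pow_mem ⟨hd₀E, hgen d₀ (Or.inl (Or.inl rfl))⟩ i)) (S.pow_mem ⟨hy₀, hgen y₀ (Or.inl (Or.inr rfl))⟩ j)).2
  have hcomG : ∀ a ∈ X.E2, ∀ b ∈ X.E2, ⁅a, b⁆ ∈ G := by
    have hinv : ∀ {a b : P}, ⁅b, a⁆ ∈ G → ⁅a, b⁆ ∈ G := fun hh => by
      rw [← commutatorElement_inv]; exact inv_mem hh
    have h0 : ∀ a ∈ ({d₀, y₀} : Set P) ∪ C, ∀ b ∈ X.E2, ⁅a, b⁆ ∈ G := by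
      intro a ha
      rcases ha with (rfl | rfl) | ha
      · refine hGsub _ hd₀E ?_
        rintro b ((rfl | rfl) | hb)
        · rw [commutatorElement_self]; exact one_mem _
        · exact le_sup_right (a := Z1 p P) (mem_zpowers _)
        · exact hZG (hcen _ hd₀E b hb)
      · refine hGsub _ hy₀ ?_
        rintro b ((rfl | rfl) | hb)
        · exact hinv (le_sup_right (a := Z1 p P) (mem_zpowers _))
        · rw [commutatorElement_self]; exact one_mem _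
        · exact hZG (hcen _ hy₀ b hb)
      · intro b hb; exact hinv (hZG (hcen b hb a ha))
    intro a ha b hb
    exact hGsub a ha (fun c hc => hinv (h0 c hc a ha)) b hb
  -- the commutator generator commutes with `d₀`
  have hd₀c₀ : ⁅d₀, c₀⁆ = 1 := by
    have hzc : ⁅d₀, c₀⁆ ∈ Z1 p P := hcen d₀ hd₀E c₀ hc₀C
    have h1 : ⁅e₁ * c₀ * e₁⁻¹, e₁ * y₀ * e₁⁻¹⁆ = ⁅c₀, y₀⁆ := by
      have hz : ⁅c₀, y₀⁆ ∈ center P := by
        rw [← commutatorElement_inv]; exact inv_mem (hcen y₀ hy₀ c₀ hc₀C).1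
      rw [show ⁅e₁ * c₀ * e₁⁻¹, e₁ * y₀ * e₁⁻¹⁆ = e₁ * ⁅c₀, y₀⁆ * e₁⁻¹ by
        simp only [commutatorElement_def]; group, mem_center_iff.1 hz e₁, mul_inv_cancel_right]
    -- the conjugate of the generator
    have hc₁ : ∃ z ∈ Z1 p P, e₁ * c₀ * e₁⁻¹ = z * c₀ := by
      rw [hc₀, show e₁ * ⁅d₀, y₀⁆ * e₁⁻¹ = ⁅e₁ * d₀ * e₁⁻¹, e₁ * y₀ * e₁⁻¹⁆ by
        simp only [commutatorElement_def]; group, hconjd, hconjy]
      refine ⟨⁅c' * d₀, d₀ * y₀⁆ * c₀⁻¹, ?_, by rw [inv_mul_cancel_right]⟩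
      rw [← QuotientGroup.eq_one_iff]
      show QuotientGroup.mk' (Z1 p P) _ = 1
      set r := QuotientGroup.mk' (Z1 p P) with hr
      have hrc : ∀ y ∈ X.E2, ∀ c ∈ C, Commute (r y) (r c) := fun y hy c hc => by
        rw [← commutatorElement_eq_one_iff_commute, ← map_commutatorElement]
        exact (QuotientGroup.eq_one_iff _).2 (hcen y hy c hc)
      rw [map_mul r ⁅c' * d₀, d₀ * y₀⁆ c₀⁻¹, map_inv r c₀, map_commutatorElement r (c' * d₀) (d₀ * y₀),
        map_mul r c' d₀, map_mul r d₀ y₀,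
        comm_mul_left_abelian
          (show r c' * (r d₀ * r y₀) = (r d₀ * r y₀) * r c' by
            rw [← map_mul r d₀ y₀]; exact (hrc _ (mul_mem hd₀E hy₀) c' hc'C).symm.eq)
          (show r c' * ⁅r d₀, r d₀ * r y₀⁆ = ⁅r d₀, r d₀ * r y₀⁆ * r c' by
            rw [← map_mul r d₀ y₀, ← map_commutatorElement]
            exact (hrc _ (hCE2' (hE2c d₀ hd₀E _ (mul_mem hd₀E hy₀))) c' hc'C).symm.eq)]
      rw [show ⁅r d₀, r d₀ * r y₀⁆ = r d₀ * ⁅r d₀, r y₀⁆ * (r d₀)⁻¹ by simp only [commutatorElement_def]; group,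
        show ⁅r d₀, r y₀⁆ = r c₀ from (map_commutatorElement r d₀ y₀).symm, (hrc d₀ hd₀E c₀ hc₀C).eq,
        mul_inv_cancel_right, mul_inv_cancel]
    obtain ⟨z, hz, hze⟩ := hc₁
    rw [hze, hconjy] at h1
    have hz1 : ⁅z * c₀, d₀ * y₀⁆ = ⁅c₀, d₀ * y₀⁆ :=
      comm_mul_left_abelian (commute_of_mem_center hz.1).eq (commute_of_mem_center hz.1).eq
    have hz2 : ⁅c₀, y₀⁆ ∈ center P := by
      rw [← commutatorElement_inv]; exact inv_mem (hcen y₀ hy₀ c₀ hc₀C).1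
    rw [hz1, comm_mul_right' hz2] at h1
    rw [← commutatorElement_inv, mul_eq_right.1 h1, inv_one]
  let Rad2 : Subgroup P :=
    { carrier := {y | y ∈ X.E2 ∧ ∀ a ∈ X.E2, ∀ b ∈ X.E2, Commute y ⁅a, b⁆}
      one_mem' := ⟨one_mem _, fun a _ b _ => Commute.one_left _⟩
      mul_mem' := fun {a b} ha hb => ⟨mul_mem ha.1 hb.1, fun u hu v hv => (ha.2 u hu v hv).mul_left (hb.2 u hu v hv)⟩
      inv_mem' := fun {a} ha => ⟨inv_mem ha.1, fun u hu v hv => (ha.2 u hu v hv).inv_left⟩ }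
  have hRad2 : Rad2 = X.E2 := by
    have hi : X.s2.Inv Rad2 := by
      intro a y hy
      refine ⟨X.s2.app_mem a hy.1, fun u hu v hv => ?_⟩
      have hu' := X.s2.app_mem a⁻¹ hu
      have hv' := X.s2.app_mem a⁻¹ hv
      have huv : ⁅X.s2.app a⁻¹ u, X.s2.app a⁻¹ v⁆ ∈ X.E2 := hCE2' (hE2c _ hu' _ hv')
      have := congrArg (X.s2.app a) (hy.2 _ hu' _ hv').eq
      rwa [X.s2.app_mul a hy.1 huv, X.s2.app_mul a huv hy.1, X.s2.app_comm a hu' hv',
        X.s2.app_app_inv a hu, X.s2.app_app_inv a hv] at this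
    have hCR : C ≤ Rad2 := fun x hx => ⟨hCE2' hx, fun a ha b hb => hCab x hx _ (hE2c a ha b hb)⟩
    have hd₀R : d₀ ∈ Rad2 := by
      refine ⟨hd₀E, fun a ha b hb => ?_⟩
      have hle : G ≤ centralizer ({d₀} : Set P) := sup_le
        (fun z hz => mem_centralizer_singleton_iff.2 (mem_center_iff.1 hz.1 d₀).symm)
        (zpowers_le.2 (mem_centralizer_singleton_iff.2 (commutatorElement_eq_one_iff_mul_comm.1 hd₀c₀).symm))
      exact (mem_centralizer_singleton_iff.1 (hle (hcomG a ha b hb))).symm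
    rcases hnat.irred X.s2 hP hi hCR (fun x hx => hx.1) with e | e
    · exact absurd (e ▸ hd₀R) hd₀C
    · exact e
  have hcomm2 : ∀ a ∈ X.E2, ∀ b ∈ X.E2, ∀ y ∈ X.E2, Commute y ⁅a, b⁆ := fun a ha b hb y hy =>
    (hRad2.symm ▸ hy : y ∈ Rad2).2 a ha b hb
  -- the centre is no power in `C`
  have hzpow : ∀ z ∈ Z1 p P, (∃ c ∈ C, c ^ p = z) → z = 1 := by
    rintro z hz ⟨c, hc, hcz⟩
    by_contra hz1
    set Cp := closure {w | ∃ x ∈ C, x ^ p = w} with hCp
    have hCpi : X.s1.Inv Cp := X.s1.inv_powClosure hCi1 (inf_le_left.trans inf_le_left) p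
    have hzC : z ∈ Cp := subset_closure ⟨c, hc, hcz⟩
    have hZle : Z1 p P ≤ Cp := fun y hy => by
      obtain ⟨k, rfl⟩ := Side.exists_pow_of_prime h.cardZ hz hz1 hy
      exact pow_mem hzC k
    have hVle : V ≤ Cp := X.s1.gen_min hZle hCpi
    have hle : Cp ≤ zpowers (g₀ ^ p) := (closure_le _).2 (by
      rintro _ ⟨x, hx, rfl⟩
      obtain ⟨i, u, hu, rfl⟩ := hCdec x hx
      have e : (g₀ ^ i) ^ p = (g₀ ^ p) ^ i := by
        rw [← zpow_natCast, ← zpow_natCast g₀ p, ← zpow_mul, ← zpow_mul, mul_comm]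
      rw [SetLike.mem_coe, ((hCU hg₀ u hu).symm.zpow_left i).mul_pow, hUp u hu, mul_one, e]
      exact zpow_mem (mem_zpowers _) i)
    haveI : IsCyclic V := Subgroup.isCyclic_of_le (hVle.trans hle)
    obtain ⟨⟨v, hv⟩, hvgen⟩ := IsCyclic.exists_generator (α := V)
    have h1 : Nat.card V = orderOf (⟨v, hv⟩ : V) := (orderOf_eq_card_of_forall_mem_zpowers hvgen).symm
    have h2 : orderOf (⟨v, hv⟩ : V) ∣ p := orderOf_dvd_of_pow_eq_one (Subtype.ext (by simpa using hVp v hv))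
    rw [hcardV] at h1
    have := Nat.le_of_dvd hp.out.pos h2
    nlinarith [hp.out.one_lt]
  -- the powers are central in the second subgroup
  have hpow2 : ∀ a ∈ X.E2, ∀ y ∈ X.E2, Commute (a ^ p) y := by
    intro a ha y hy
    rw [← commutatorElement_eq_one_iff_commute]
    have hz : ⁅a ^ p, y⁆ ∈ Z1 p P := by
      rw [← commutatorElement_inv]; exact inv_mem (hcen y hy _ (hE2p a ha))
    refine hzpow _ hz ⟨⁅a, y⁆, hE2c a ha y hy, ?_⟩
    have hcen' : ⁅(⟨a, ha⟩ : X.E2), (⟨y, hy⟩ : X.E2)⁆ ∈ center ↥X.E2 :=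
      mem_center_iff.2 fun w => Subtype.ext (hcomm2 a ha y hy w w.2).eq
    exact (congrArg Subtype.val (comm_pow_left hcen' p)).symm
  have hphicen : ∀ w ∈ X.s2.phi, ∀ y ∈ X.E2, Commute y w := by
    intro w hw y hy
    obtain ⟨hwE, hwm⟩ := X.s2.mem_phi.1 hw
    have hle : frattini ↥X.E2 ≤ center ↥X.E2 := by
      refine PGroups.frattini_le_of_pow_commutator (p := p) _ (fun a => mem_center_iff.2 fun b => ?_) ?_
      · exact Subtype.ext (by simpa using (hpow2 a a.2 b b.2).symm.eq)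
      · rw [_root_.commutator_def, Subgroup.commutator_le]
        intro a _ b _
        exact mem_center_iff.2 fun c => Subtype.ext (hcomm2 a a.2 b b.2 c c.2).eq
    exact congrArg Subtype.val (mem_center_iff.1 (hle hwm) ⟨y, hy⟩)
  -- the section `U / Z` is irreducible
  have hnatU : X.s2.Nat2 (Z1 p P) U := by
    refine ⟨hfixed2, hUi, hZU, hUE, ?_, fun a ha b hb => ?_, fun a ha => ?_, hnU⟩
    · have := card_mul_relIndex hZU
      rw [h.cardZ, hUcard] at this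
      exact Nat.eq_of_mul_eq_mul_left hp.out.pos (this.trans (by ring))
    · rw [hUab a ha b hb, mul_inv_cancel_right, mul_inv_cancel]; exact one_mem _
    · rw [hUp a ha]; exact one_mem _
  haveI := X.s2.inv_normal X.s2.inv_phi X.s2.phi_le
  have hphine : X.s2.phi ≠ ⊥ := by
    intro hb
    refine hVne fun v hv => X.mem_Z1 (fun y hy => (hVz v hv y hy).symm) (fun y hy => ?_) (hVp v hv)
    have := X.s2.comm_mem_phi hP (hVD hv).2 hy
    rw [hb, mem_bot, mul_inv_eq_one, mul_inv_eq_iff_eq_mul] at this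
    exact this
  have hZphi : Z1 p P ≤ X.s2.phi := Z1_le_of_normal hP h.cardZ hphine
  rcases hnatU.irred X.s2 hP (X.s2.inv_inf hUi X.s2.inv_phi) (le_inf hZU hZphi) inf_le_left with e | e
  · -- then the index of the Frattini subgroup is too large
    have hphiC : X.s2.phi ≤ C := fun w hw => by
      refine hC2.symm ▸ ⟨X.s2.phi_le hw, mem_centralizer_iff.2 fun u hu => ?_⟩
      exact (hphicen w hw u (hUE hu)).eq
    have hr : X.s2.phi.relIndex X.E2 ≤ p ^ 3 := rank_le hsr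
      (fun a ha b hb => X.s2.comm_mem_phi hP ha hb) (fun a ha => X.s2.pow_mem_phi hP ha)
    rw [← relIndex_mul_relIndex X.s2.phi C X.E2 hphiC (inf_le_left.trans inf_le_right), hCE2] at hr
    have h1 : X.s2.phi.relIndex U = p ^ 2 := by
      rw [← inf_relIndex_left, e, hnatU.card]
    have h2 : X.s2.phi.relIndex U ≤ X.s2.phi.relIndex C := relIndex_le_of_le_right hUC (by
      rw [Subgroup.relIndex]; exact Subgroup.index_ne_zero_of_finite)
    rw [h1] at h2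
    have := Nat.mul_le_mul_right (p ^ 2) h2
    have h4 : p ^ 2 * p ^ 2 ≤ p ^ 3 := this.trans hr
    rw [← pow_add] at h4
    exact absurd ((Nat.pow_le_pow_iff_right hp.out.one_lt).1 h4) (by norm_num)
  · refine hVne fun v hv => X.mem_Z1 (fun y hy => (hVz v hv y hy).symm) (fun y hy => ?_) (hVp v hv)
    exact (hphicen v (e.symm.le (hVU.le hv)).2 y hy).symm.eq

end Cfsg.Agent.Lib.TwoEssential
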