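import Cfsg.Prelude.Def_CaseTheorems
import Cfsg.Prelude.Def_Transfer
import Cfsg.Agent.Lib.PGroups.Frattini
import Cfsg.Agent.Lib.Resistant67.Basic
import Mathlib

/-!
# A pair of automiser data on two normal subgroups of index `p`

The abstract setting for two essential subgroups of index `p` in a `p`-group of sectional rank three:
groups acting on `E₁` and `E₂`, inducing there the conjugations by `P`, with the conjugations forming a
Sylow `p`-subgroup which is not normal.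
-/

set_option autoImplicit false
set_option linter.style.haveILetI false

universe u

namespace Cfsg.Agent.Lib.TwoEssential

open Subgroup
open scoped commutatorElement

variable {p : ℕ}

/-- Automiser data on a normal subgroup `E` of `P`; `B` acts on `P` and provides the extensions. -/
structure Side (p : ℕ) (P : Type u) [Group P] (E : Subgroup P) (B : Type u) [Group B]
    (bact : B →* MulAut P) : Type (u + 1) where
  A : Type u
  [grp : Group A]
  [fin : Finite A]
  act : A →* MulAut E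
  R : Sylow p A
  conjR : ∀ g : P, ∃ r ∈ (R : Subgroup A), ∀ x : E, ((act r x : E) : P) = g * x * g⁻¹
  innR : ∀ r ∈ (R : Subgroup A), ∃ g : P, ∀ x : E, ((act r x : E) : P) = g * x * g⁻¹
  ext : ∀ a ∈ normalizer ((R : Subgroup A) : Set A), ∃ b : B, ∀ x : E, bact b x = act a x
  res : ∀ b : B, ∃ a : A, ∀ x : E, bact b x = act a x
  notp : ∃ l ∈ normalClosure ((R : Subgroup A) : Set A), (orderOf (act l)).Coprime p ∧ act l ≠ 1

attribute [instance] Side.grp Side.fin

/-- Two sides. -/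
structure Pair (p : ℕ) (P : Type u) [Group P] : Type (u + 1) where
  E1 : Subgroup P
  E2 : Subgroup P
  n1 : E1.Normal
  n2 : E2.Normal
  i1 : E1.index = p
  i2 : E2.index = p
  ne : E1 ≠ E2
  B : Type u
  [grpB : Group B]
  bact : B →* MulAut P
  s1 : Side p P E1 B bact
  s2 : Side p P E2 B bact

attribute [instance] Pair.grpB

variable {P : Type u} [Group P]

/-- The pair with the sides exchanged. -/
def Pair.swap (X : Pair p P) : Pair p P where
  E1 := X.E2
  E2 := X.E1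
  n1 := X.n2
  n2 := X.n1
  i1 := X.i2
  i2 := X.i1
  ne := X.ne.symm
  B := X.B
  bact := X.bact
  s1 := X.s2
  s2 := X.s1

variable {E : Subgroup P} {B : Type u} [Group B] {bact : B →* MulAut P}

namespace Side

variable (s : Side p P E B bact)

/-- The subgroup generated by the conjugates of the Sylow subgroup. -/
abbrev L : Subgroup s.A := normalClosure ((s.R : Subgroup s.A) : Set s.A)

/-- The action on elements of `P`, trivial outside `E`. -/
noncomputable def app (a : s.A) (x : P) : P := by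
  classical exact if h : x ∈ E then ((s.act a ⟨x, h⟩ : E) : P) else x

theorem app_coe (a : s.A) (x : E) : s.app a x = (s.act a x : P) := by
  classical
  simp [app, x.2]

theorem app_of_mem (a : s.A) {x : P} (hx : x ∈ E) : s.app a x = (s.act a ⟨x, hx⟩ : P) :=
  s.app_coe a ⟨x, hx⟩

theorem app_mem (a : s.A) {x : P} (hx : x ∈ E) : s.app a x ∈ E := by
  rw [s.app_of_mem a hx]; exact SetLike.coe_mem _

theorem app_mul (a : s.A) {x y : P} (hx : x ∈ E) (hy : y ∈ E) :
    s.app a (x * y) = s.app a x * s.app a y := by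
  rw [s.app_of_mem a hx, s.app_of_mem a hy, s.app_of_mem a (E.mul_mem hx hy),
    show (⟨x * y, E.mul_mem hx hy⟩ : E) = ⟨x, hx⟩ * ⟨y, hy⟩ from rfl, map_mul, Subgroup.coe_mul]

theorem app_one' (a : s.A) : s.app a 1 = 1 := by
  rw [s.app_of_mem a E.one_mem, show (⟨1, E.one_mem⟩ : E) = 1 from rfl, map_one, Subgroup.coe_one]

theorem app_inv (a : s.A) {x : P} (hx : x ∈ E) : s.app a x⁻¹ = (s.app a x)⁻¹ :=
  eq_inv_of_mul_eq_one_left (by rw [← s.app_mul a (E.inv_mem hx) hx, inv_mul_cancel, s.app_one'])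

theorem app_pow (a : s.A) {x : P} (hx : x ∈ E) (k : ℕ) : s.app a (x ^ k) = s.app a x ^ k := by
  induction k with
  | zero => rw [pow_zero, pow_zero, s.app_one']
  | succ k ih => rw [pow_succ, pow_succ, s.app_mul a (E.pow_mem hx k) hx, ih]

theorem one_app (x : P) : s.app 1 x = x := by
  classical
  by_cases h : x ∈ E
  · rw [s.app_of_mem 1 h, map_one, MulAut.one_apply]
  · simp [app, h]

theorem mul_app (a b : s.A) {x : P} (hx : x ∈ E) : s.app (a * b) x = s.app a (s.app b x) := by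
  rw [s.app_of_mem (a * b) hx, map_mul, MulAut.mul_apply, ← s.app_coe a (s.act b ⟨x, hx⟩), ← s.app_coe b ⟨x, hx⟩]

theorem app_inj (a : s.A) {x y : P} (hx : x ∈ E) (hy : y ∈ E) (h : s.app a x = s.app a y) : x = y := by
  rw [s.app_of_mem a hx, s.app_of_mem a hy] at h
  exact congrArg Subtype.val ((s.act a).injective (Subtype.ext h))

theorem inv_app_app (a : s.A) {x : P} (hx : x ∈ E) : s.app a⁻¹ (s.app a x) = x := by
  rw [← s.mul_app _ _ hx, inv_mul_cancel, s.one_app]

theorem app_app_inv (a : s.A) {x : P} (hx : x ∈ E) : s.app a (s.app a⁻¹ x) = x := by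
  rw [← s.mul_app _ _ hx, mul_inv_cancel, s.one_app]

theorem exists_conj (g : P) : ∃ r ∈ (s.R : Subgroup s.A), ∀ x ∈ E, s.app r x = g * x * g⁻¹ := by
  obtain ⟨r, hr, he⟩ := s.conjR g
  exact ⟨r, hr, fun x hx => (s.app_of_mem r hx).trans (he ⟨x, hx⟩)⟩

theorem exists_of_R {r : s.A} (hr : r ∈ (s.R : Subgroup s.A)) :
    ∃ g : P, ∀ x ∈ E, s.app r x = g * x * g⁻¹ := by
  obtain ⟨g, he⟩ := s.innR r hr
  exact ⟨g, fun x hx => (s.app_of_mem r hx).trans (he ⟨x, hx⟩)⟩

theorem exists_ext {a : s.A} (ha : a ∈ normalizer ((s.R : Subgroup s.A) : Set s.A)) :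
    ∃ b : B, ∀ x ∈ E, bact b x = s.app a x := by
  obtain ⟨b, hb⟩ := s.ext a ha
  exact ⟨b, fun x hx => (hb ⟨x, hx⟩).trans (s.app_of_mem a hx).symm⟩

theorem exists_res (b : B) : ∃ a : s.A, ∀ x ∈ E, bact b x = s.app a x := by
  obtain ⟨a, ha⟩ := s.res b
  exact ⟨a, fun x hx => (ha ⟨x, hx⟩).trans (s.app_of_mem a hx).symm⟩

include s in
theorem bact_mem (b : B) {x : P} (hx : x ∈ E) : bact b x ∈ E := by
  obtain ⟨a, ha⟩ := s.exists_res b
  rw [ha x hx]; exact s.app_mem a hx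

/-- `N` is invariant. -/
def Inv (N : Subgroup P) : Prop := ∀ a, ∀ x ∈ N, s.app a x ∈ N

theorem inv_bact {N : Subgroup P} (hN : s.Inv N) (hNE : N ≤ E) (b : B) {x : P} (hx : x ∈ N) :
    bact b x ∈ N := by
  obtain ⟨a, ha⟩ := s.exists_res b
  rw [ha x (hNE hx)]; exact hN a x hx

theorem inv_self : s.Inv E := fun a _ hx => s.app_mem a hx

theorem inv_bot : s.Inv ⊥ := fun a x hx => by
  rw [mem_bot] at hx ⊢; rw [hx, s.app_one']

theorem inv_normal {N : Subgroup P} (hN : s.Inv N) (hNE : N ≤ E) : N.Normal := ⟨fun x hx g => by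
  obtain ⟨r, -, hr⟩ := s.exists_conj g
  rw [← hr x (hNE hx)]; exact hN r x hx⟩

theorem inv_inf {N M : Subgroup P} (hN : s.Inv N) (hM : s.Inv M) : s.Inv (N ⊓ M) :=
  fun a x hx => ⟨hN a x hx.1, hM a x hx.2⟩

theorem inv_sup {N M : Subgroup P} (hN : s.Inv N) (hM : s.Inv M) (hNE : N ≤ E) (hME : M ≤ E) :
    s.Inv (N ⊔ M) := by
  intro a x hx
  rw [Subgroup.sup_eq_closure] at hx
  refine (closure_induction (p := fun y _ => y ∈ E ∧ s.app a y ∈ N ⊔ M) (fun y hy => ?_)
    ⟨E.one_mem, by rw [s.app_one']; exact one_mem _⟩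
    (fun y z _ _ hy hz => ⟨E.mul_mem hy.1 hz.1, by rw [s.app_mul a hy.1 hz.1]; exact mul_mem hy.2 hz.2⟩)
    (fun y _ hy => ⟨E.inv_mem hy.1, by rw [s.app_inv a hy.1]; exact inv_mem hy.2⟩) hx).2
  rcases hy with hy | hy
  · exact ⟨hNE hy, le_sup_left (b := M) (hN a y hy)⟩
  · exact ⟨hME hy, le_sup_right (a := N) (hM a y hy)⟩

/-- The invariant subgroup generated by `N`. -/
noncomputable def gen (N : Subgroup P) : Subgroup P := closure {y | ∃ a, ∃ x ∈ N, s.app a x = y}

theorem le_gen (N : Subgroup P) : N ≤ s.gen N := fun x hx => subset_closure ⟨1, x, hx, s.one_app x⟩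

theorem app_mem_gen (a : s.A) {N : Subgroup P} {x : P} (hx : x ∈ N) : s.app a x ∈ s.gen N :=
  subset_closure ⟨a, x, hx, rfl⟩

theorem gen_le {N : Subgroup P} (hNE : N ≤ E) : s.gen N ≤ E := by
  refine (closure_le _).2 ?_
  rintro _ ⟨a, x, hx, rfl⟩
  exact s.app_mem a (hNE hx)

theorem gen_min {N M : Subgroup P} (hNM : N ≤ M) (hM : s.Inv M) : s.gen N ≤ M := by
  refine (closure_le _).2 ?_
  rintro _ ⟨a, x, hx, rfl⟩
  exact hM a x (hNM hx)

theorem gen_inv {N : Subgroup P} (hNE : N ≤ E) : s.Inv (s.gen N) := by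
  intro a y hy
  refine (closure_induction (p := fun y _ => y ∈ E ∧ s.app a y ∈ s.gen N) (fun y hy => ?_)
    ⟨E.one_mem, by rw [s.app_one']; exact one_mem _⟩
    (fun y z _ _ hy hz => ⟨E.mul_mem hy.1 hz.1, by rw [s.app_mul a hy.1 hz.1]; exact mul_mem hy.2 hz.2⟩)
    (fun y _ hy => ⟨E.inv_mem hy.1, by rw [s.app_inv a hy.1]; exact inv_mem hy.2⟩) hy).2
  obtain ⟨c, x, hx, rfl⟩ := hy
  refine ⟨s.app_mem c (hNE hx), ?_⟩
  rw [← s.mul_app a c (hNE hx)]
  exact s.app_mem_gen _ hx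

theorem conj_eq {x : P} (hx : x ∈ E) {y : P} (hy : y ∈ E) (a : s.A) :
    s.app a (x * y * x⁻¹ * y⁻¹) = s.app a x * s.app a y * (s.app a x)⁻¹ * (s.app a y)⁻¹ := by
  rw [s.app_mul a (E.mul_mem (E.mul_mem hx hy) (E.inv_mem hx)) (E.inv_mem hy),
    s.app_mul a (E.mul_mem hx hy) (E.inv_mem hx), s.app_mul a hx hy, s.app_inv a hx, s.app_inv a hy]

/-- The elements of `L` centralise a factor centralised by `P`. -/
theorem fix_of_central {N M : Subgroup P} (hN : s.Inv N) (hNE : N ≤ E) (hM : s.Inv M) (hME : M ≤ E)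
    (h : ∀ g : P, ∀ x ∈ N, g * x * g⁻¹ * x⁻¹ ∈ M) :
    ∀ l ∈ s.L, ∀ x ∈ N, s.app l x * x⁻¹ ∈ M := by
  have hMn := s.inv_normal hM hME
  intro l hl
  induction hl using Subgroup.closure_induction with
  | mem l hl =>
    obtain ⟨r, hr, hc⟩ := Group.mem_conjugatesOfSet_iff.1 hl
    obtain ⟨c, rfl⟩ := isConj_iff.1 hc
    intro x hx
    obtain ⟨g, hg⟩ := s.exists_of_R hr
    have hxE := hNE hx
    have hy := s.app_mem c⁻¹ hxE
    have h1 := hM c _ (h g _ (hN c⁻¹ x hx))
    rw [← hg _ hy, s.app_mul c (s.app_mem r hy) (E.inv_mem hy), s.app_inv c hy,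
      s.app_app_inv c hxE] at h1
    rwa [s.mul_app _ _ hxE, s.mul_app _ _ hy]
  | one => intro x hx; rw [s.one_app, mul_inv_cancel]; exact M.one_mem
  | mul a b _ _ ha hb =>
    intro x hx
    rw [s.mul_app a b (hNE hx)]
    have := M.mul_mem (ha _ (hN b x hx)) (hb x hx)
    simpa [mul_assoc] using this
  | inv a _ ha =>
    intro x hx
    have h1 := ha _ (hN a⁻¹ x hx)
    rw [s.app_app_inv a (hNE hx)] at h1
    have := M.inv_mem h1
    simpa using this

/-- The elements of `L` of order prime to `p` centralise the factor `N / M`. -/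
def CT (M N : Subgroup P) : Prop :=
  ∀ l ∈ s.L, (orderOf (s.act l)).Coprime p → ∀ x ∈ N, s.app l x * x⁻¹ ∈ M

theorem ct_of_central {N M : Subgroup P} (hN : s.Inv N) (hNE : N ≤ E) (hM : s.Inv M) (hME : M ≤ E)
    (h : ∀ g : P, ∀ x ∈ N, g * x * g⁻¹ * x⁻¹ ∈ M) : s.CT M N :=
  fun l hl _ => s.fix_of_central hN hNE hM hME h l hl

variable [Finite P]

theorem ct_trans (hP : IsPGroup p P) {K M N : Subgroup P} (hK : s.Inv K) (hKE : K ≤ E) (hME : M ≤ E)
    (hNE : N ≤ E) (h1 : s.CT M N) (h2 : s.CT K M) : s.CT K N := by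
  have hKn := s.inv_normal hK hKE
  intro l hl hc x hx
  set w := s.app l x * x⁻¹ with hw
  have hwM : w ∈ M := h1 l hl hc x hx
  have hwE := hME hwM
  have hxE := hNE hx
  have hfw : (s.app l w : P ⧸ K) = w := by
    rw [QuotientGroup.eq_iff_div_mem, div_eq_mul_inv]; exact h2 l hl hc w hwM
  have hpow : ∀ k : ℕ, (s.app (l ^ k) x : P ⧸ K) = (w : P ⧸ K) ^ k * x := by
    intro k
    induction k with
    | zero => rw [pow_zero, pow_zero, one_mul, s.one_app]
    | succ k ih =>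
      have e : s.app (l ^ k) x * x⁻¹ * (w ^ k)⁻¹ ∈ K := by
        rw [← QuotientGroup.eq_one_iff, QuotientGroup.mk_mul, QuotientGroup.mk_mul, QuotientGroup.mk_inv,
          QuotientGroup.mk_inv, QuotientGroup.mk_pow, ih]
        group
      set c := s.app (l ^ k) x * x⁻¹ * (w ^ k)⁻¹ with hc'
      have hcE := hKE e
      have hx' : s.app (l ^ k) x = c * (w ^ k) * x := by rw [hc']; group
      rw [pow_succ' l, s.mul_app _ _ hxE, hx', s.app_mul l (E.mul_mem hcE (E.pow_mem hwE k)) hxE,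
        s.app_mul l hcE (E.pow_mem hwE k), s.app_pow l hwE]
      have hl' : s.app l x = w * x := by rw [hw]; group
      rw [hl']
      simp only [QuotientGroup.mk_mul, QuotientGroup.mk_pow, hfw,
        (QuotientGroup.eq_one_iff _).2 (hK l c e), one_mul]
      rw [← mul_assoc, ← pow_succ]
  have h := hpow (orderOf (s.act l))
  have hone : s.app (l ^ orderOf (s.act l)) x = x := by
    rw [s.app_of_mem _ hxE, map_pow, pow_orderOf_eq_one, MulAut.one_apply]
  rw [hone] at h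
  have h' : ((w : P ⧸ K)) ^ orderOf (s.act l) = 1 := mul_eq_right.1 h.symm
  obtain ⟨j, hj⟩ := hP w
  have h'' : ((w : P ⧸ K)) ^ p ^ j = 1 := by rw [← QuotientGroup.mk_pow, hj, QuotientGroup.mk_one]
  have h1' := pow_gcd_eq_one.2 ⟨h', h''⟩
  rw [(Nat.Coprime.pow_right j hc).gcd_eq_one, pow_one] at h1'
  exact (QuotientGroup.eq_one_iff _).1 h1'

theorem not_ct : ¬ s.CT ⊥ E := by
  intro h
  obtain ⟨l, hl, hc, h1⟩ := s.notp
  refine h1 (MulEquiv.ext fun x => Subtype.ext ?_)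
  have := h l hl hc x x.2
  rw [mem_bot, mul_inv_eq_one, s.app_coe] at this
  exact this

/-- The Frattini subgroup of `E`. -/
def phi (_s : Side p P E B bact) : Subgroup P := (frattini ↥E).map E.subtype

theorem phi_le : s.phi ≤ E := map_subtype_le _

theorem mem_phi {x : P} : x ∈ s.phi ↔ ∃ h : x ∈ E, (⟨x, h⟩ : E) ∈ frattini ↥E := by
  constructor
  · rintro ⟨y, hy, rfl⟩; exact ⟨y.2, hy⟩
  · rintro ⟨h, hm⟩; exact ⟨⟨x, h⟩, hm, rfl⟩

theorem inv_phi : s.Inv s.phi := by
  intro a x hx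
  obtain ⟨h, hm⟩ := s.mem_phi.1 hx
  rw [s.app_of_mem a h]
  exact ⟨_, Resistant67.aut_mem_frattini (s.act a) hm, rfl⟩

theorem pow_mem_phi [Fact p.Prime] (hP : IsPGroup p P) {x : P} (hx : x ∈ E) : x ^ p ∈ s.phi :=
  ⟨⟨x, hx⟩ ^ p, PGroups.pow_mem_frattini (hP.to_subgroup E) _, rfl⟩

theorem comm_mem_phi [Fact p.Prime] (hP : IsPGroup p P) {x y : P} (hx : x ∈ E) (hy : y ∈ E) :
    x * y * x⁻¹ * y⁻¹ ∈ s.phi :=
  ⟨⁅(⟨x, hx⟩ : E), (⟨y, hy⟩ : E)⁆, PGroups.commutatorElement_mem_frattini (hP.to_subgroup E) _ _, rfl⟩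

/-- `L` acts nontrivially on the Frattini quotient. -/
theorem not_ct_phi [Fact p.Prime] (hP : IsPGroup p P) : ¬ s.CT s.phi E := by
  intro h
  obtain ⟨l, hl, hc, h1⟩ := s.notp
  refine h1 (Resistant67.eq_one_of_trivial_frattini (hP.to_subgroup E) hc fun x => ?_)
  have := h l hl hc x x.2
  rw [s.app_coe] at this
  obtain ⟨hm, hmem⟩ := s.mem_phi.1 this
  have he : x⁻¹ * s.act l x = x⁻¹ * (⟨_, hm⟩ : E) * x⁻¹⁻¹ := Subtype.ext (by simp [mul_assoc])
  rw [he]
  exact (inferInstance : (frattini ↥E).Normal).conj_mem _ hmem _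

/-- A power of an element of `L` of order prime to `p`. -/
theorem exists_coprime_pow [hp : Fact p.Prime] (l : s.A) :
    ∃ k : ℕ, (orderOf (s.act (l ^ p ^ k))).Coprime p := by
  haveI : Finite (MulAut E) :=
    Finite.of_injective (fun e : MulAut E => (e : E → E)) DFunLike.coe_injective
  refine ⟨(orderOf (s.act l)).factorization p, ?_⟩
  have hn : orderOf (s.act l) ≠ 0 := (orderOf_pos _).ne'
  rw [map_pow, orderOf_pow' _ (pow_ne_zero _ hp.out.ne_zero),
    Nat.gcd_eq_right (Nat.ordProj_dvd _ p)]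
  exact ((Nat.Prime.coprime_iff_not_dvd hp.out).2 (Nat.not_dvd_ordCompl hp.out hn)).symm

end Side

namespace Pair

variable (X : Pair p P)

/-- The intersection of the two subgroups. -/
abbrev D : Subgroup P := X.E1 ⊓ X.E2

theorem swap_D : X.swap.D = X.D := inf_comm ..

variable [Fact p.Prime]

theorem sup_eq_top : X.E1 ⊔ X.E2 = ⊤ := by
  have hd : (X.E1 ⊔ X.E2).index ∣ p := by
    have := Subgroup.index_dvd_of_le (le_sup_left : X.E1 ≤ X.E1 ⊔ X.E2)
    rwa [X.i1] at this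
  rcases (Nat.dvd_prime (Fact.out : p.Prime)).1 hd with h | h
  · exact Subgroup.index_eq_one.1 h
  · exfalso
    have h0 : X.E1.index ≠ 0 := by rw [X.i1]; exact (Fact.out : p.Prime).ne_zero
    have h1 := Subgroup.relIndex_mul_index (le_sup_left : X.E1 ≤ X.E1 ⊔ X.E2)
    have h2 := Subgroup.relIndex_mul_index (le_sup_right : X.E2 ≤ X.E1 ⊔ X.E2)
    rw [h, X.i1] at h1
    rw [h, X.i2] at h2
    have e1 := Subgroup.relIndex_eq_one.1 (Nat.eq_of_mul_eq_mul_right (Fact.out : p.Prime).pos (h1.trans (one_mul p).symm))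
    have e2 := Subgroup.relIndex_eq_one.1 (Nat.eq_of_mul_eq_mul_right (Fact.out : p.Prime).pos (h2.trans (one_mul p).symm))
    exact X.ne (le_antisymm (le_sup_left.trans e2) (le_sup_right.trans e1))

theorem exists_mul (g : P) : ∃ a ∈ X.E1, ∃ b ∈ X.E2, g = a * b := by
  haveI := X.n1
  have hg : g ∈ ((X.E1 ⊔ X.E2 : Subgroup P) : Set P) := by rw [X.sup_eq_top]; trivial
  rw [Subgroup.normal_mul] at hg
  obtain ⟨a, ha, b, hb, e⟩ := hg
  exact ⟨a, ha, b, hb, e.symm⟩

theorem index_D : X.D.index = p ^ 2 := by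
  haveI := X.n1
  haveI := X.n2
  have h1 : X.D.relIndex X.E1 = p := by
    show (X.E1 ⊓ X.E2).relIndex X.E1 = p
    rw [inf_comm, Subgroup.inf_relIndex_right, ← Subgroup.relIndex_sup_right, X.sup_eq_top,
      Subgroup.relIndex_top_right, X.i2]
  rw [← Subgroup.relIndex_mul_index (inf_le_left : X.D ≤ X.E1), h1, X.i1, sq]

end Pair

/-- An element outside a subgroup of index `p` generates modulo it. -/
theorem exists_pow_mul [hp : Fact p.Prime] {M : Subgroup P} [M.Normal] (hM : M.index = p) {x : P}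
    (hx : x ∉ M) (g : P) : ∃ m ∈ M, ∃ k : ℕ, g = m * x ^ k := by
  have hc : Nat.card (P ⧸ M) = p := hM
  haveI : Finite (P ⧸ M) := Nat.finite_of_card_ne_zero (hc ▸ hp.out.ne_zero)
  have hne : (x : P ⧸ M) ≠ 1 := fun h => hx ((QuotientGroup.eq_one_iff x).1 h)
  have := mem_powers_of_prime_card hc hne (g' := (g : P ⧸ M))
  obtain ⟨k, hk⟩ := this
  refine ⟨g * (x ^ k)⁻¹, ?_, k, by group⟩
  rw [← QuotientGroup.eq_one_iff, QuotientGroup.mk_mul, QuotientGroup.mk_inv, QuotientGroup.mk_pow]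
  exact mul_inv_eq_one.2 hk.symm

end Cfsg.Agent.Lib.TwoEssential
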