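import Cfsg.Agent.Lib.TwoEssential.CaseA

/-!
# Abelian subgroups over a central subgroup

If both subgroups are abelian modulo an invariant subgroup of index `p ^ 3`, which is centralised modulo
a central invariant subgroup, they are abelian and the subgroup is central and cyclic.
-/

set_option autoImplicit false
set_option linter.style.haveILetI false

universe u

namespace Cfsg.Agent.Lib.TwoEssential

open Subgroup
open scoped commutatorElement

variable {p : ℕ} [Fact p.Prime] {P : Type u} [Group P] [Finite P]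

omit [Fact p.Prime] [Finite P] in
/-- Commutators of a group generated by a central factor. -/
theorem mk_comm_of_mem {T : Subgroup P} [T.Normal] {a b : P} (h : ⁅a, b⁆ ∈ T) :
    Commute (a : P ⧸ T) (b : P ⧸ T) := by
  rw [← commutatorElement_eq_one_iff_commute]
  show ⁅QuotientGroup.mk' T a, QuotientGroup.mk' T b⁆ = 1
  rw [← map_commutatorElement]
  exact (QuotientGroup.eq_one_iff _).2 h

/-- The central subgroup is centralised by a natural side. -/
theorem central_of_natural {E : Subgroup P} {B : Type u} [Group B] {bact : B →* MulAut P}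
    (s : Side p P E B bact) (hP : IsPGroup p P) (hp2 : p ≠ 2) {N T : Subgroup P}
    (hN : s.Inv N) (hNT : N ≤ T) (hNc : N ≤ center P) (hT : s.Inv T)
    (hnat : s.Nat2 T E) (htc : ∀ g : P, ∀ t ∈ T, ⁅g, t⁆ ∈ N)
    (hTab : ∀ t ∈ T, ∀ u ∈ T, t * u = u * t) : ∀ t ∈ T, ∀ e ∈ E, t * e = e * t := by
  have hTE : T ≤ E := hnat.le
  have hNE : N ≤ E := hNT.trans hTE
  have hctT : s.CT ⊥ T := s.ct_trans hP s.inv_bot bot_le hNE hTE
    (s.ct_of_central hT hTE hN hNE fun g x hx => commutatorElement_def g x ▸ htc g x hx)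
    (s.ct_bot_of_central hN hNE hNc)
  obtain ⟨n, hn, -, hnc, hneg⟩ := hnat.exists_neg s hP hp2
  intro t ht e he
  have htE := hTE ht
  have hfix : s.app n t = t := mul_inv_eq_one.1 (mem_bot.1 (hctT n hn hnc t ht))
  have hcN : ⁅t, e⁆ ∈ N := by rw [← commutatorElement_inv]; exact N.inv_mem (htc e t ht)
  have hc : ⁅t, e⁆ ∈ center P := hNc hcN
  have hu : s.app n e * e ∈ T := hneg e he
  have h1 : ⁅t, e⁆ = ⁅t, e⁆⁻¹ := by
    conv_lhs => rw [← s.fix_central hN hNE hNc hn hcN, s.app_comm n htE he, hfix,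
      show s.app n e = s.app n e * e * e⁻¹ by group]
    have hci : ⁅t, e⁻¹⁆ = ⁅t, e⁆⁻¹ := comm_inv_right hc
    rw [comm_mul_right' (by rw [hci]; exact inv_mem hc), hci,
      commutatorElement_eq_one_iff_mul_comm.2 (hTab t ht _ hu), one_mul]
  exact commutatorElement_eq_one_iff_mul_comm.1 (eq_one_of_eq_inv hP hp2 h1)

/-- An element of one subgroup centralises the commutator with the other. -/
theorem comm_comm_eq_one (X : Pair p P) (hP : IsPGroup p P) (hp2 : p ≠ 2) {T : Subgroup P}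
    (hT1 : X.s1.Inv T) (hT2 : X.s2.Inv T) (hTD : T ≤ X.D) (hTc : T ≤ center P) (hTD' : T.relIndex X.D = p)
    (hnat : X.s2.Nat2 T X.E2) (hc1 : ∀ a ∈ X.E1, ∀ b ∈ X.E1, ⁅a, b⁆ ∈ T) (hp1 : ∀ a ∈ X.E1, a ^ p ∈ T)
    {x y : P} (hx : x ∈ X.E1) (hxD : x ∉ X.D) (hy : y ∈ X.E2) (hz : ⁅x, y⁆ ∉ T) :
    ⁅x, ⁅x, y⁆⁆ = 1 := by
  have hp : p.Prime := Fact.out
  haveI : T.Normal := X.s1.inv_normal hT1 (hTD.trans inf_le_left)
  haveI := X.D_normal
  set z := ⁅x, y⁆ with hzdef
  have hzD : z ∈ X.D := X.comm_mem_D hx hy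
  have hTE2 : T ≤ X.E2 := hTD.trans inf_le_right
  obtain ⟨n, hn, hnN, -, hneg⟩ := hnat.exists_neg X.s2 hP hp2
  obtain ⟨b, hb⟩ := X.s2.exists_ext hnN
  have hbT : ∀ t ∈ T, X.bact b t = t := fun t ht =>
    (hb t (hTE2 ht)).trans (X.s2.fix_central hT2 hTE2 hTc hn ht)
  have hbx : X.bact b x ∈ X.E1 := X.s1.bact_mem b hx
  obtain ⟨m, hm, k, hk⟩ := exists_pow_mul_relIndex X.relIndex_D1 hx hxD hbx
  set q := QuotientGroup.mk' T with hq
  have hqD : ∀ d ∈ X.D, q d ∈ center (P ⧸ T) := fun d hd => mem_center_iff.2 fun gq => by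
    obtain ⟨g, rfl⟩ := QuotientGroup.mk'_surjective T gq
    exact (mk_comm_of_mem (commutatorElement_def g d ▸ comm_mem_of_relIndex hP hTD hTD' g hd)).eq
  have hqz1 : q z ≠ 1 := fun e => hz ((QuotientGroup.eq_one_iff z).1 e)
  have hqzp : q z ^ p = 1 := by rw [← map_pow]; exact (QuotientGroup.eq_one_iff _).2 (hp1 z hzD.1)
  have hneg' : ∀ v ∈ X.E2, q (X.bact b v) = (q v)⁻¹ := fun v hv => by
    refine eq_inv_of_mul_eq_one_left ?_
    rw [← map_mul, hb v hv]
    exact (QuotientGroup.eq_one_iff _).2 (hneg v hv)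
  have hqc : ⁅q x, q y⁆ ∈ center (P ⧸ T) := by rw [← map_commutatorElement]; exact hqD z hzD
  -- the weight on the outer element is one
  have hk1 : k % p = 1 := by
    have h := hneg' z hzD.2
    have hl : q (X.bact b z) = ⁅q (X.bact b x), q (X.bact b y)⁆ := by
      rw [← map_commutatorElement, ← map_commutatorElement, hzdef]
    have hcm : Commute (q m) (q y)⁻¹ := commute_of_mem_center (hqD m hm)
    have hcy : ⁅q x ^ k, (q y)⁻¹⁆ = ((q z) ^ k)⁻¹ := by
      rw [comm_inv_right (by rw [comm_pow_left hqc]; exact pow_mem hqc k), comm_pow_left hqc,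
        ← map_commutatorElement]
    rw [hl, hneg' y hy, hk, map_mul, map_pow, comm_mul_left_abelian hcm.eq
      (commute_of_mem_center (hqD m hm)).eq, hcy, inv_inj] at h
    have h' : k ≡ 1 [MOD p] := by
      have := pow_eq_pow_iff_modEq.1 (show q z ^ k = q z ^ 1 by rw [pow_one, h])
      rwa [orderOf_eq_prime hqzp hqz1] at this
    rw [Nat.ModEq, Nat.mod_eq_of_lt hp.one_lt] at h'
    exact h'
  obtain ⟨d, hd, hbd⟩ : ∃ d ∈ X.D, X.bact b x = d * x := by
    refine ⟨m * (x ^ p) ^ (k / p), X.D.mul_mem hm (X.D.pow_mem (hTD (hp1 x hx)) _), ?_⟩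
    rw [hk, mul_assoc, ← pow_mul, ← pow_succ, ← hk1, Nat.div_add_mod]
  have hDab : ∀ a ∈ X.D, Commute z a := by
    intro a ha
    obtain ⟨t, ht, i, rfl⟩ := exists_pow_mul_relIndex hTD' hzD hz ha
    exact ((commute_of_mem_center (hTc ht)).symm).mul_right ((Commute.refl z).pow_right i)
  set c := ⁅x, z⁆ with hc
  have hcT : c ∈ T := hc1 x hx z hzD.1
  have hu : X.bact b z * z ∈ T := by rw [hb z hzD.2]; exact hneg z hzD.2
  have h1 : c = c⁻¹ := by
    have hci : ⁅x, z⁻¹⁆ = c⁻¹ := comm_inv_right (hTc hcT)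
    conv_lhs => rw [← hbT c hcT, hc, map_commutatorElement, hbd,
      show X.bact b z = X.bact b z * z * z⁻¹ by group]
    have hdz : Commute d z⁻¹ := (hDab d hd).symm.inv_right
    have hdx : ⁅d * x, z⁻¹⁆ = c⁻¹ := by
      rw [← hci]
      refine comm_mul_left_abelian hdz.eq ?_
      rw [hci]
      exact (commute_of_mem_center (inv_mem (hTc hcT))).symm.eq
    rw [comm_mul_right' (by rw [hdx]; exact inv_mem (hTc hcT)), hdx,
      commutatorElement_eq_one_iff_commute.2 (commute_of_mem_center (hTc hu)).symm, one_mul]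
  exact eq_one_of_eq_inv hP hp2 h1

variable {X : Pair p P} {N : Subgroup P} [N.Normal]

/-- The abelian configuration lifts. -/
theorem lc_of_quotient (hP : IsPGroup p P) (hp2 : p ≠ 2) (hsr : SectionalPRankLE p 3 P) (h1 : X.s1.Inv N)
    (h2 : X.s2.Inv N) (hND : N ≤ X.D) (hNc : N ≤ center P) (v1 : ¬ X.s1.CT N X.E1) (v2 : ¬ X.s2.CT N X.E2)
    {T₀ : Subgroup (P ⧸ N)} (hY : LC (X.quot N h1 h2 hND v1 v2) T₀) :
    LC X (T₀.comap (QuotientGroup.mk' N)) := by
  have hp : p.Prime := Fact.out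
  set Y := X.quot N h1 h2 hND v1 v2 with hYdef
  set q := QuotientGroup.mk' N with hq
  set T := T₀.comap q with hTdef
  have hTD : T ≤ X.D := (comap_mono hY.le).trans (X.quot_D N h1 h2 hND v1 v2).le
  have hNT : N ≤ T := fun n hn => by
    show q n ∈ T₀
    rw [show q n = 1 from (QuotientGroup.eq_one_iff n).2 hn]; exact one_mem _
  have hT1 : X.s1.Inv T := X.quot_inv_comap1 N h1 h2 hND v1 v2 hY.inv1 (hTD.trans inf_le_left)
  have hT2 : X.s2.Inv T := X.quot_inv_comap2 N h1 h2 hND v1 v2 hY.inv2 (hTD.trans inf_le_right)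
  haveI : T.Normal := X.s1.inv_normal hT1 (hTD.trans inf_le_left)
  have hindex : T.index = p ^ 3 := by
    rw [hTdef, Subgroup.index_comap_of_surjective _ (QuotientGroup.mk'_surjective N), hY.index]
  have hTDi : T.relIndex X.D = p := by
    have := relIndex_mul_index hTD
    rw [X.index_D, hindex] at this
    exact Nat.eq_of_mul_eq_mul_right (pow_pos hp.pos 2) (this.trans (by ring))
  have hc1 : ∀ a ∈ X.E1, ∀ b ∈ X.E1, ⁅a, b⁆ ∈ T := fun a ha b hb => by
    show q ⁅a, b⁆ ∈ T₀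
    rw [map_commutatorElement, commutatorElement_eq_one_iff_mul_comm.2
      (hY.comm1 _ ⟨a, ha, rfl⟩ _ ⟨b, hb, rfl⟩)]
    exact one_mem _
  have hc2 : ∀ a ∈ X.E2, ∀ b ∈ X.E2, ⁅a, b⁆ ∈ T := fun a ha b hb => by
    show q ⁅a, b⁆ ∈ T₀
    rw [map_commutatorElement, commutatorElement_eq_one_iff_mul_comm.2
      (hY.comm2 _ ⟨a, ha, rfl⟩ _ ⟨b, hb, rfl⟩)]
    exact one_mem _
  have hp1 : ∀ a ∈ X.E1, a ^ p ∈ T := fun a ha => by
    show q (a ^ p) ∈ T₀
    rw [map_pow]; exact hY.pow1 _ ⟨a, ha, rfl⟩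
  have hp2' : ∀ a ∈ X.E2, a ^ p ∈ T := fun a ha => by
    show q (a ^ p) ∈ T₀
    rw [map_pow]; exact hY.pow2 _ ⟨a, ha, rfl⟩
  have htc : ∀ g : P, ∀ t ∈ T, ⁅g, t⁆ ∈ N := fun g t ht => by
    rw [← QuotientGroup.eq_one_iff]
    show q ⁅g, t⁆ = 1
    rw [map_commutatorElement, commutatorElement_eq_one_iff_mul_comm]
    exact mem_center_iff.1 (hY.central ht) (q g)
  have hTab : ∀ t ∈ T, ∀ u ∈ T, t * u = u * t := by
    obtain ⟨⟨g₀, hg₀T⟩, hg⟩ := hY.cyclic.exists_generator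
    obtain ⟨g, rfl⟩ := QuotientGroup.mk'_surjective N g₀
    have hdec : ∀ t ∈ T, ∃ i : ℤ, ∃ m ∈ N, t = g ^ i * m := by
      intro t ht
      obtain ⟨i, hi⟩ := Subgroup.mem_zpowers_iff.1 (hg ⟨q t, ht⟩)
      refine ⟨i, (g ^ i)⁻¹ * t, ?_, by group⟩
      rw [← QuotientGroup.eq_one_iff]
      show q ((g ^ i)⁻¹ * t) = 1
      rw [map_mul, map_inv, map_zpow, inv_mul_eq_one]
      exact congrArg Subtype.val hi
    intro t ht u hu
    obtain ⟨i, m, hm, rfl⟩ := hdec t ht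
    obtain ⟨j, k, hk, rfl⟩ := hdec u hu
    exact (((Commute.refl g).zpow_zpow i j).mul_right (commute_of_mem_center (hNc hk)).symm).mul_left
      ((commute_of_mem_center (hNc hm)).mul_right (commute_of_mem_center (hNc hm))) |>.eq
  have hnat : ∀ {E : Subgroup P} (s : Side p P E X.B X.bact), s.Inv N → s.Inv T → T ≤ E → E.index = p →
      (∀ a ∈ E, ∀ b ∈ E, ⁅a, b⁆ ∈ T) → (∀ a ∈ E, a ^ p ∈ T) → s.Nat2 T E := by
    intro E s hNi hTi hTE hEi hc hpw
    refine ⟨hTi, s.inv_self, hTE, le_rfl, ?_, fun a ha b hb => commutatorElement_def a b ▸ hc a ha b hb,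
      hpw, ?_⟩
    · have := relIndex_mul_index hTE
      rw [hEi, hindex, pow_succ] at this
      exact Nat.eq_of_mul_eq_mul_right hp.pos this
    · exact s.not_ct_of_ct_bot hP hTE (s.ct_trans hP s.inv_bot bot_le (hNT.trans hTE) hTE
        (s.ct_of_central hTi hTE hNi (hNT.trans hTE) fun g x hx => commutatorElement_def g x ▸ htc g x hx)
        (s.ct_bot_of_central hNi (hNT.trans hTE) hNc))
  have hn1 := hnat X.s1 h1 hT1 (hTD.trans inf_le_left) X.i1 hc1 hp1
  have hn2 := hnat X.s2 h2 hT2 (hTD.trans inf_le_right) X.i2 hc2 hp2'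
  have hTc : T ≤ center P := fun t ht => X.mem_center
    (central_of_natural X.s1 hP hp2 h1 hNT hNc hT1 hn1 htc hTab t ht)
    (central_of_natural X.s2 hP hp2 h2 hNT hNc hT2 hn2 htc hTab t ht)
  -- the commutator of the outer elements
  obtain ⟨x₀, ⟨x, hx, rfl⟩, y₀, ⟨y, hy, rfl⟩, -, -, hzT₀⟩ := hY.z0
  have hzT : ⁅x, y⁆ ∉ T := fun hh => hzT₀ (by rw [← map_commutatorElement]; exact hh)
  have hxD : x ∉ X.D := fun hh => hzT (hc2 x hh.2 y hy)
  have hyD : y ∉ X.D := fun hh => hzT (hc1 x hx y hh.1)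
  have hzD := X.comm_mem_D hx hy
  have hxz := comm_comm_eq_one X hP hp2 hT1 hT2 hTD hTc hTDi hn2 hc1 hp1 hx hxD hy hzT
  have hyz : ⁅y, ⁅x, y⁆⁆ = 1 := by
    have h := comm_comm_eq_one X.swap hP hp2 hT2 hT1 (X.swap_D.symm ▸ hTD) hTc (X.swap_D.symm ▸ hTDi) hn1
      hc2 hp2' hy (X.swap_D.symm ▸ hyD) hx
      (fun hh => hzT (by rw [← commutatorElement_inv]; exact inv_mem hh))
    rw [← commutatorElement_inv x y] at h
    exact commutatorElement_eq_one_iff_commute.2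
      (Commute.inv_right_iff.1 (commutatorElement_eq_one_iff_commute.1 h))
  haveI := X.D_normal
  have hDgen : ∀ a ∈ X.D, ∃ t ∈ T, ∃ i : ℕ, a = t * ⁅x, y⁆ ^ i :=
    fun a ha => exists_pow_mul_relIndex hTDi hzD hzT ha
  have hab : ∀ {E : Subgroup P} {g : P}, g ∈ E → g ∉ X.D → X.D.relIndex E = p →
      Commute g ⁅x, y⁆ → ∀ a ∈ E, ∀ b ∈ E, Commute a b := by
    intro E g hg hgD hi hgz a ha b hb
    obtain ⟨m, hm, i, rfl⟩ := exists_pow_mul_relIndex hi hg hgD ha
    obtain ⟨n, hn, j, rfl⟩ := exists_pow_mul_relIndex hi hg hgD hb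
    obtain ⟨t, ht, k, rfl⟩ := hDgen m hm
    obtain ⟨u, hu, l, rfl⟩ := hDgen n hn
    have ct : ∀ (t : P), t ∈ T → ∀ v : P, Commute t v := fun t ht v => commute_of_mem_center (hTc ht)
    refine (Commute.mul_left (Commute.mul_left (ct t ht _) ?_) ?_)
    · exact (Commute.mul_right (Commute.mul_right (ct u hu _).symm
        ((Commute.refl _).pow_pow k l)) ((hgz.pow_pow j k).symm))
    · exact (Commute.mul_right (Commute.mul_right (ct u hu _).symm (hgz.pow_pow i l))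
        ((Commute.refl g).pow_pow i j))
  have hxz' : Commute x ⁅x, y⁆ := commutatorElement_eq_one_iff_commute.1 hxz
  have hyz' : Commute y ⁅x, y⁆ := commutatorElement_eq_one_iff_commute.1 hyz
  have hab1 : ∀ a ∈ X.E1, ∀ b ∈ X.E1, a * b = b * a := hab hx hxD X.relIndex_D1 hxz'
  have hab2 : ∀ a ∈ X.E2, ∀ b ∈ X.E2, a * b = b * a := hab hy hyD X.relIndex_D2 hyz'
  have hDc : X.D ≤ center P := fun a ha => X.mem_center (hab1 a ha.1) (hab2 a ha.2)
  have hzp : ⁅x, y⁆ ^ p = 1 := by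
    rw [← comm_pow_left (hDc hzD), commutatorElement_eq_one_iff_commute]
    exact commute_of_mem_center (hTc (hp1 x hx))
  refine ⟨hTD, hT1, hT2, hTc, ?_, hindex, hab1, hab2, hp1, hp2', x, hx, y, hy, hDc hzD, hzp, hzT⟩
  -- the subgroup is cyclic
  by_contra hnc
  have hTcomm : IsMulCommutative T := ⟨⟨fun a b => Subtype.ext (hTab _ a.2 _ b.2)⟩⟩
  have hbig : p < Nat.card (Cfsg.omegaOne p T) := by
    by_contra hh
    exact hnc (PGroups.isCyclic_of_comm_omega hTcomm (hP.to_subgroup T) (not_lt.1 hh))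
  obtain ⟨i, hi⟩ := IsPGroup.iff_card.1 (hP.to_subgroup (Cfsg.omegaOne p T))
  have hi2 : 2 ≤ i := by
    by_contra hh
    rw [hi] at hbig
    exact absurd (Nat.pow_le_pow_right hp.pos (by omega : i ≤ 1)) (by rw [pow_one]; omega)
  set W : Subgroup P :=
    { carrier := {v | v ∈ X.E1 ∧ v ^ p = 1}
      one_mem' := ⟨one_mem _, one_pow _⟩
      mul_mem' := fun {a b} ha hb => ⟨mul_mem ha.1 hb.1,
        by rw [(show Commute a b from hab1 a ha.1 b hb.1).mul_pow, ha.2, hb.2, mul_one]⟩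
      inv_mem' := fun {a} ha => ⟨inv_mem ha.1, by rw [inv_pow, ha.2, inv_one]⟩ } with hW
  have hWE : W ≤ X.E1 := fun v hv => hv.1
  have hWrank : Nat.card W ≤ p ^ 3 := by
    have := rank_le hsr (H := W) (K := (⊥ : Subgroup P))
      (fun a ha b hb => by rw [mem_bot, hab1 a ha.1 b hb.1, mul_inv_cancel_right, mul_inv_cancel])
      (fun a ha => mem_bot.2 ha.2)
    rwa [relIndex_bot_left] at this
  have hOW : Cfsg.omegaOne p T ≤ W ⊓ X.D := fun v hv => by
    obtain ⟨hvT, hvp⟩ := (PGroups.mem_omegaOne_iff_of_comm hTcomm).1 hv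
    exact ⟨⟨(hTD hvT).1, hvp⟩, hTD hvT⟩
  have hlt : Cfsg.omegaOne p T < W ⊓ X.D := lt_of_le_of_ne hOW fun e => hzT (PGroups.omegaOne_le p T
    (by rw [e]; exact ⟨⟨hzD.1, hzp⟩, hzD⟩))
  obtain ⟨j, hj⟩ := IsPGroup.iff_card.1 (hP.to_subgroup (W ⊓ X.D : Subgroup P))
  have hij : i < j := by
    by_contra hh
    refine hlt.ne (Subgroup.eq_of_le_of_card_ge hOW ?_)
    rw [hi, hj]; exact Nat.pow_le_pow_right hp.pos (not_lt.1 hh)
  have hWc : W ≤ center P := by
    have he : W ⊓ X.D = W := Subgroup.eq_of_le_of_card_ge inf_le_left (hWrank.trans (by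
      rw [hj]; exact Nat.pow_le_pow_right hp.pos (by omega)))
    exact he ▸ inf_le_right.trans hDc
  have hWi : X.s1.Inv W := fun a v hv => ⟨X.s1.app_mem a hv.1,
    by rw [← X.s1.app_pow a hv.1, hv.2, X.s1.app_one']⟩
  have hWct : X.s1.CT ⊥ W := X.s1.ct_bot_of_central hWi hWE hWc
  have key : ∀ m : ℕ, ∀ l ∈ X.s1.L, (orderOf (X.s1.act l)).Coprime p → ∀ v ∈ X.E1, v ^ p ^ m = 1 →
      X.s1.app l v = v := by
    intro m
    induction m with
    | zero =>
      intro l _ _ v _ hv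
      rw [pow_zero, pow_one] at hv
      rw [hv, X.s1.app_one']
    | succ m ih =>
      intro l hl hlc v hv hvm
      let M : Subgroup P :=
        { carrier := {v | v ∈ X.E1 ∧ v ^ p ^ (m + 1) = 1}
          one_mem' := ⟨one_mem _, one_pow _⟩
          mul_mem' := fun {a b} ha hb => ⟨mul_mem ha.1 hb.1,
            by rw [(show Commute a b from hab1 a ha.1 b hb.1).mul_pow, ha.2, hb.2, mul_one]⟩
          inv_mem' := fun {a} ha => ⟨inv_mem ha.1, by rw [inv_pow, ha.2, inv_one]⟩ }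
      have hME : M ≤ X.E1 := fun v hv => hv.1
      have h' : X.s1.CT W M := fun l hl hlc w hw => by
        refine ⟨X.E1.mul_mem (X.s1.app_mem l hw.1) (X.E1.inv_mem hw.1), ?_⟩
        rw [(show Commute (X.s1.app l w) w⁻¹ from
          hab1 _ (X.s1.app_mem l hw.1) _ (X.E1.inv_mem hw.1)).mul_pow, ← X.s1.app_pow l hw.1,
          ih l hl hlc _ (X.E1.pow_mem hw.1 p) (by rw [← pow_mul, ← pow_succ']; exact hw.2), inv_pow,
          mul_inv_cancel]
      exact mul_inv_eq_one.1 (mem_bot.1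
        (X.s1.ct_trans hP X.s1.inv_bot bot_le hWE hME h' hWct l hl hlc v ⟨hv, hvm⟩))
  refine X.s1.not_ct fun l hl hlc v hv => ?_
  obtain ⟨m, hm⟩ := hP v
  rw [mem_bot, key m l hl hlc v hv hm, mul_inv_cancel]

end Cfsg.Agent.Lib.TwoEssential
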