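import Cfsg.Agent.Lib.TwoEssential.GenCenter

/-!
# A cyclic centre: the first reductions

Either the first subgroup is elementary, or the conjugates of the centre span a subgroup of order `p ^ 2`
below the Frattini subgroup which is moved by the second side, while the centre is fixed by it.
-/

set_option autoImplicit false
set_option linter.style.haveILetI false

universe u

namespace Cfsg.Agent.Lib.TwoEssential

open Subgroup
open scoped commutatorElement

variable {p : ℕ} [hp : Fact p.Prime] {P : Type u} [Group P] [Finite P]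

/-- A nontrivial normal subgroup contains the central subgroup of order `p`. -/
theorem Z1_le_of_normal (hP : IsPGroup p P) (hZ : Nat.card (Z1 p P) = p) {N : Subgroup P} [N.Normal]
    (hN : N ≠ ⊥) : Z1 p P ≤ N := by
  obtain ⟨z, hz, hzZ, hz1⟩ := exists_mem_Z1 hP hN
  intro y hy
  obtain ⟨k, rfl⟩ := Side.exists_pow_of_prime hZ hzZ hz1 hy
  exact N.pow_mem hz k

/-- An element of exponent `p` centralised by both sides lies in `Z1`. -/
theorem Pair.mem_Z1 (X : Pair p P) {g : P} (h1 : ∀ y ∈ X.E1, g * y = y * g)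
    (h2 : ∀ y ∈ X.E2, g * y = y * g) (hg : g ^ p = 1) : g ∈ Z1 p P :=
  ⟨X.mem_center h1 h2, hg⟩

theorem Pair.phi_le_D (X : Pair p P) (hP : IsPGroup p P) : X.s1.phi ≤ X.D := by
  haveI := X.D_normal
  haveI := X.n1
  intro x hx
  obtain ⟨hxE, hxm⟩ := X.s1.mem_phi.1 hx
  refine mem_subgroupOf.1 (PGroups.frattini_le_of_pow_commutator (p := p) (X.D.subgroupOf X.E1) (fun y => ?_)
    ?_ hxm)
  · have h := pow_card_eq_one' (x := (y : ↥X.E1 ⧸ X.D.subgroupOf X.E1))
    rw [show Nat.card (↥X.E1 ⧸ X.D.subgroupOf X.E1) = p from X.relIndex_D1, ← QuotientGroup.mk_pow,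
      QuotientGroup.eq_one_iff] at h
    exact h
  · rw [commutator_def, Subgroup.commutator_le]
    intro a _ b _
    exact mem_subgroupOf.2 (by
      simpa [commutatorElement_def] using comm_mem_of_relIndex hP inf_le_left X.relIndex_D1 (a : P) b.2)

/-- The facts on the conjugates of the centre on a side with nontrivial Frattini subgroup. -/
theorem Pair.gen_facts (X : Pair p P) (hP : IsPGroup p P) (hsr : SectionalPRankLE p 3 P)
    (hZ : Nat.card (Z1 p P) = p) (hm : ¬ X.s1.Inv (Z1 p P)) (hphi : X.s1.phi ≠ ⊥) :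
    X.s1.gen (Z1 p P) ≤ X.s1.phi ∧ X.s1.gen (Z1 p P) ≤ X.D ∧ p ^ 2 ≤ Nat.card (X.s1.gen (Z1 p P)) ∧
      Nat.card (X.s1.gen (Z1 p P)) ≤ p ^ 3 ∧
      (∀ M : Subgroup P, X.s1.Inv M → M ≤ X.s1.gen (Z1 p P) → M = ⊥ ∨ M = X.s1.gen (Z1 p P)) := by
  obtain ⟨hV, hVE, hVp, hVz, hZV⟩ := X.s1.genZ_facts hP X.n1 X.i1
  haveI := X.s1.inv_normal X.s1.inv_phi X.s1.phi_le
  have hle : X.s1.gen (Z1 p P) ≤ X.s1.phi := X.s1.gen_min (Z1_le_of_normal hP hZ hphi) X.s1.inv_phi
  obtain ⟨h1, h2⟩ := X.s1.genZ_card hP hsr X.n1 X.i1 hm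
  refine ⟨hle, hle.trans (X.phi_le_D hP), by rwa [hZ, ← sq] at h1, h2, fun M hM hMV => ?_⟩
  by_cases hMb : M = ⊥
  · exact Or.inl hMb
  · haveI := X.s1.inv_normal hM (hMV.trans hVE)
    exact Or.inr (le_antisymm hMV (X.s1.gen_min (Z1_le_of_normal hP hZ hMb) hM))

/-- The case of an elementary first subgroup. -/
theorem outcome_of_phi_eq_bot (X : Pair p P) (hP : IsPGroup p P) (hp2 : p ≠ 2)
    (hsr : SectionalPRankLE p 3 P) (hZ : Nat.card (Z1 p P) = p) (hm : ¬ X.s1.Inv (Z1 p P))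
    (hphi : X.s1.phi = ⊥) : Outcome X := by
  haveI := X.D_normal
  have hab : ∀ a ∈ X.E1, ∀ b ∈ X.E1, a * b = b * a := fun a ha b hb => by
    have := X.s1.comm_mem_phi hP ha hb
    rw [hphi, mem_bot, mul_inv_eq_one, mul_inv_eq_iff_eq_mul] at this
    exact this
  have hpw : ∀ a ∈ X.E1, a ^ p = 1 := fun a ha => mem_bot.1 (hphi ▸ X.s1.pow_mem_phi hP ha)
  have hcD := X.center_le_D hP
  have hcen : center P = Z1 p P := le_antisymm (fun g hg => ⟨hg, hpw g (hcD hg).1⟩) Z1_le_center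
  obtain ⟨hb, -⟩ := X.s1.genZ_card hP hsr X.n1 X.i1 hm
  have hV1 : p ^ 2 ≤ Nat.card X.E1 := by
    rw [hZ, ← sq] at hb
    exact hb.trans (Subgroup.card_le_of_le (X.s1.genZ_facts hP X.n1 X.i1).2.1)
  have hE13 := card_elem_le hsr hab hpw
  obtain ⟨i, hi⟩ := IsPGroup.iff_card.1 (hP.to_subgroup X.E1)
  rw [hi] at hV1 hE13
  have hi2 := (Nat.pow_le_pow_iff_right hp.out.one_lt).1 hV1
  have hi3 := (Nat.pow_le_pow_iff_right hp.out.one_lt).1 hE13
  have hPcard : Nat.card P = p ^ (i + 1) := by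
    rw [← X.E1.card_mul_index, hi, X.i1, ← pow_succ]
  have hE2card : Nat.card X.E2 = p ^ i := by
    have := X.E2.card_mul_index
    rw [X.i2, hPcard, pow_succ] at this
    exact Nat.eq_of_mul_eq_mul_right hp.out.pos this
  have hDcard : Nat.card X.D * p = p ^ i := by
    rw [← hi, ← card_mul_relIndex (inf_le_left : X.D ≤ X.E1), X.relIndex_D1]
  interval_cases i
  · -- order `p ^ 3`
    left
    have hD : X.D = center P := by
      refine (Subgroup.eq_of_le_of_card_ge hcD ?_).symm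
      rw [hcen, hZ]
      exact le_of_eq (Nat.eq_of_mul_eq_mul_right hp.out.pos (hDcard.trans (by ring)))
    have hab2 : ∀ a ∈ X.E2, ∀ b ∈ X.E2, a * b = b * a := by
      intro a ha b hb
      obtain ⟨x, hx, hx1⟩ := X.exists_out2
      obtain ⟨m, hm, k, rfl⟩ := exists_pow_mul_relIndex X.relIndex_D2 hx (fun hh => hx1 hh.1) ha
      obtain ⟨n, hn, l, rfl⟩ := exists_pow_mul_relIndex X.relIndex_D2 hx (fun hh => hx1 hh.1) hb
      have hmc := fun (m : P) (hm : m ∈ X.D) (y : P) => commute_of_mem_center (y := y) (hD ▸ hm)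
      exact ((hmc m hm _).mul_left ((hmc n hn _).symm.mul_right ((Commute.refl x).pow_pow k l))).eq
    have hpw2 : ∀ a ∈ X.E2, a ^ p = 1 := by
      let M : Subgroup P :=
        { carrier := {v | v ∈ X.E2 ∧ v ^ p = 1}
          one_mem' := ⟨one_mem _, one_pow _⟩
          mul_mem' := fun {a b} ha hb => ⟨mul_mem ha.1 hb.1,
            by rw [(show Commute a b from hab2 a ha.1 b hb.1).mul_pow, ha.2, hb.2, mul_one]⟩
          inv_mem' := fun {a} ha => ⟨inv_mem ha.1, by rw [inv_pow, ha.2, inv_one]⟩ }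
      have hMi : X.s2.Inv M := fun a v hv => ⟨X.s2.app_mem a hv.1,
        by rw [← X.s2.app_pow a hv.1, hv.2, X.s2.app_one']⟩
      have hME : M ≤ X.E2 := fun v hv => hv.1
      intro a ha
      by_contra hne
      have haM : a ∉ M := fun hh => hne hh.2
      have hZM : Z1 p P ≤ M := fun z hz => ⟨(hcD hz.1).2, hz.2⟩
      obtain ⟨j, hj⟩ := IsPGroup.iff_card.1 (hP.to_subgroup M)
      have hlt := mul_card_le_of_lt hP (lt_of_le_of_ne hME fun e => haM (e.symm ▸ ha))
      have hge := Subgroup.card_le_of_le hZM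
      rw [hj, hZ] at hge
      rw [hj, hE2card, ← pow_succ'] at hlt
      have h1 := (Nat.pow_le_pow_iff_right hp.out.one_lt).1 hlt
      have h2 : 1 ≤ j := (Nat.pow_le_pow_iff_right hp.out.one_lt).1 (by rwa [pow_one])
      have hMi' : M.relIndex X.E2 = p := by
        have := card_mul_relIndex hME
        rw [hj, hE2card, show j = 1 by omega, pow_one, sq] at this
        exact Nat.eq_of_mul_eq_mul_left hp.out.pos this
      refine X.s2.no_flag hP X.s2.inv_bot hMi bot_le hME hMi' ?_ bot_le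
      rw [relIndex_bot_left, hj, show j = 1 by omega, pow_one]
    obtain ⟨e, he, he2⟩ := X.exists_out1
    obtain ⟨x, hx, hx1⟩ := X.exists_out2
    refine ⟨⊥, bot_le, X.s1.inv_bot, X.s2.inv_bot, bot_le, inferInstance,
      by rw [index_bot, hPcard], hab, hab2, fun a ha => mem_bot.2 (hpw a ha),
      fun a ha => mem_bot.2 (hpw2 a ha), e, he, x, hx, ?_, ?_, ?_⟩
    · exact hD ▸ X.comm_mem_D he hx
    · exact hpw _ (X.comm_mem_D he hx).1
    · rw [mem_bot, commutatorElement_eq_one_iff_commute]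
      intro hc
      refine he2 (hcD (X.mem_center (hab e he) fun y hy => ?_)).2
      obtain ⟨m, hm, k, rfl⟩ := exists_pow_mul_relIndex X.relIndex_D2 hx (fun hh => hx1 hh.1) hy
      exact ((show Commute e m from hab e he m hm.1).mul_right (hc.pow_right k)).eq
  · -- order `p ^ 4`
    right; left
    have hZc : Nat.card (center P) = p := hcen ▸ hZ
    have hnc2 : ∃ a ∈ X.E2, ∃ b ∈ X.E2, a * b ≠ b * a := by
      by_contra hh
      push Not at hh
      have hle : X.D ≤ center P := fun d hd => X.mem_center (hab d hd.1) (hh d hd.2)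
      have := Subgroup.card_le_of_le hle
      rw [hZc] at this
      have hD2 : Nat.card X.D = p ^ 2 := Nat.eq_of_mul_eq_mul_right hp.out.pos (hDcard.trans (by ring))
      rw [hD2] at this
      nlinarith [hp.out.one_lt]
    refine ⟨hPcard, hab, hpw, ?_, hnc2, hZc⟩
    -- the exponent of the second subgroup
    have hD2 : Nat.card X.D = p ^ 2 := Nat.eq_of_mul_eq_mul_right hp.out.pos (hDcard.trans (by ring))
    have hci : (center P).relIndex X.D = p := by
      have := card_mul_relIndex hcD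
      rw [hZc, hD2, sq] at this
      exact Nat.eq_of_mul_eq_mul_left hp.out.pos this
    have hcomD : ∀ a ∈ X.E2, ∀ b ∈ X.E2, ⁅a, b⁆ ∈ center P := by
      obtain ⟨x, hx, hx1⟩ := X.exists_out2
      intro a ha b hb
      obtain ⟨m, hm, k, rfl⟩ := exists_pow_mul_relIndex X.relIndex_D2 hx (fun hh => hx1 hh.1) ha
      obtain ⟨n, hn, l, rfl⟩ := exists_pow_mul_relIndex X.relIndex_D2 hx (fun hh => hx1 hh.1) hb
      rw [← QuotientGroup.eq_one_iff]
      show QuotientGroup.mk' (center P) ⁅m * x ^ k, n * x ^ l⁆ = 1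
      rw [map_commutatorElement, map_mul, map_mul, map_pow, map_pow, commutatorElement_eq_one_iff_commute]
      have hqc : ∀ d ∈ X.D, ∀ g : P, Commute (QuotientGroup.mk' (center P) d) (QuotientGroup.mk' (center P) g) :=
        fun d hd g => by
          rw [← commutatorElement_eq_one_iff_commute, ← map_commutatorElement, ← commutatorElement_inv,
            map_inv, inv_eq_one, commutatorElement_def]
          exact (QuotientGroup.eq_one_iff _).2 (comm_mem_of_relIndex hP hcD hci g hd)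
      exact Commute.mul_left ((hqc m hm n).mul_right ((hqc m hm x).pow_right l))
        (((hqc n hn x).symm.pow_left k).mul_right ((Commute.refl _).pow_pow k l))
    let M : Subgroup P :=
      { carrier := {v | v ∈ X.E2 ∧ v ^ p = 1}
        one_mem' := ⟨one_mem _, one_pow _⟩
        mul_mem' := fun {a b} ha hb => ⟨mul_mem ha.1 hb.1, by
          have hc := hcomD b hb.1 a ha.1
          rw [mul_pow_p hp2 (commute_of_mem_center hc).symm (commute_of_mem_center hc).symm
            (hpw _ (hcD hc).1), ha.2, hb.2, mul_one]⟩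
        inv_mem' := fun {a} ha => ⟨inv_mem ha.1, by rw [inv_pow, ha.2, inv_one]⟩ }
    have hMi : X.s2.Inv M := fun a v hv => ⟨X.s2.app_mem a hv.1,
      by rw [← X.s2.app_pow a hv.1, hv.2, X.s2.app_one']⟩
    have hME : M ≤ X.E2 := fun v hv => hv.1
    intro a ha
    by_contra hne
    have hDM : X.D ≤ M := fun d hd => ⟨hd.2, hpw d hd.1⟩
    have hMD : M = X.D := by
      refine (Subgroup.eq_of_le_of_card_ge hDM ?_).symm
      obtain ⟨j, hj⟩ := IsPGroup.iff_card.1 (hP.to_subgroup M)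
      have hlt := mul_card_le_of_lt hP (lt_of_le_of_ne hME fun e => hne (e.symm ▸ ha : a ∈ M).2)
      rw [hj, hE2card, ← pow_succ'] at hlt
      have h1 := (Nat.pow_le_pow_iff_right hp.out.one_lt).1 hlt
      rw [hj, hD2]
      exact Nat.pow_le_pow_right hp.out.pos (by omega)
    have hKi : X.s2.Inv (center P) := by
      have e : X.E2 ⊓ centralizer (X.E2 : Set P) = center P := by
        refine le_antisymm ?_ fun g hg =>
          ⟨(hcD hg).2, mem_centralizer_iff.2 fun y _ => mem_center_iff.1 hg y⟩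
        rintro g ⟨hg2, hg⟩
        by_contra hgc
        have hg' : ∀ y ∈ X.E2, g * y = y * g := fun y hy => (mem_centralizer_iff.1 hg y hy).symm
        have hgD : g ∉ X.D := fun hh => hgc (X.mem_center (hab g hh.1) hg')
        obtain ⟨u, hu, v, hv, huv⟩ := hnc2
        apply huv
        obtain ⟨m, hm, k, rfl⟩ := exists_pow_mul_relIndex X.relIndex_D2 hg2 hgD hu
        obtain ⟨n, hn, l, rfl⟩ := exists_pow_mul_relIndex X.relIndex_D2 hg2 hgD hv
        have hmg : ∀ d ∈ X.D, Commute d g := fun d hd => (hg' d hd.2).symm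
        exact ((show Commute m n from hab m hm.1 n hn.1).mul_right ((hmg m hm).pow_right l)).mul_left
          (((hmg n hn).symm.pow_left k).mul_right ((Commute.refl g).pow_pow k l)) |>.eq
      exact e ▸ X.s2.inv_cent X.s2.inv_self le_rfl
    exact X.s2.no_flag hP hKi (hMD ▸ hMi) hcD inf_le_right X.relIndex_D2 hci le_rfl

variable (X : Pair p P) (hP : IsPGroup p P) (hsr : SectionalPRankLE p 3 P)
  (hZ : Nat.card (Z1 p P) = p) (hm : ¬ X.s1.Inv (Z1 p P)) (hphi : X.s1.phi ≠ ⊥)
include hP hsr hZ hm hphi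

/-- The conjugates of the centre are not invariant on the second side. -/
theorem not_inv2_gen (hp2 : p ≠ 2)
    (IH : ∀ (N : Subgroup P) [N.Normal], N ≠ ⊥ → ∀ Y : Pair p (P ⧸ N), Outcome Y) :
    ¬ X.s2.Inv (X.s1.gen (Z1 p P)) := by
  intro h2
  obtain ⟨hle, hVD, hV2, -, -⟩ := X.gen_facts hP hsr hZ hm hphi
  obtain ⟨hV, hVE, hVp, hVz, hZV⟩ := X.s1.genZ_facts hP X.n1 X.i1
  set V := X.s1.gen (Z1 p P)
  have hVb : V ≠ ⊥ := fun e => by
    rw [e, Subgroup.card_bot] at hV2
    exact absurd hV2 (not_le.2 (Nat.one_lt_pow two_ne_zero hp.out.one_lt))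
  haveI := X.s1.inv_normal hV hVE
  obtain ⟨x, hx, hx1⟩ := X.exists_out2
  have hVE2 : V ≤ X.E2 := hVD.trans inf_le_right
  have hct : X.s2.CT ⊥ V := X.s2.ct_of_inner hP h2 hVE2 fun g => by
    obtain ⟨m, hm, k, rfl⟩ := X.exists_eq_mul hx1 g
    refine ⟨x ^ k, X.E2.pow_mem hx k, fun v hv => ?_⟩
    have h' : x ^ k * v * (x ^ k)⁻¹ ∈ V := (inferInstance : V.Normal).conj_mem v hv _
    calc m * x ^ k * v * (m * x ^ k)⁻¹ = m * (x ^ k * v * (x ^ k)⁻¹) * m⁻¹ := by group
      _ = _ := by rw [hVz _ h' m hm, mul_inv_cancel_right]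
  have v1 := X.s1.not_ct_of_le_phi hP hle
  have v2 := X.s2.not_ct_of_ct_bot hP hVE2 hct
  have hY := (IH V hVb (X.quot V hV h2 hVD v1 v2)).not_inv_D (hP.to_quotient V) hp2
  apply hY.2
  have hDi : X.s2.Inv X.D := by
    intro a d hd
    refine ⟨?_, X.s2.app_mem a hd.2⟩
    by_contra hne
    have hc : ∀ v ∈ V, Commute (X.s2.app a d) v := fun v hv => by
      have hv' := h2 a⁻¹ v hv
      have := congrArg (X.s2.app a) (hVz _ hv' d hd.1)
      rwa [X.s2.app_mul a hd.2 (hVE2 hv'), X.s2.app_mul a (hVE2 hv') hd.2,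
        X.s2.app_app_inv a (hVE2 hv)] at this
    have hVZ : V ≤ Z1 p P := fun v hv => ⟨mem_center_iff.2 fun g => by
      obtain ⟨m, hm, k, rfl⟩ := X.exists_eq_mul hne g
      exact ((show Commute m v from hVz v hv m hm).mul_left ((hc v hv).pow_left k)).eq, hVp v hv⟩
    exact hm ((le_antisymm hVZ hZV) ▸ hV)
  have e : (X.quot V hV h2 hVD v1 v2).D = X.D.map (QuotientGroup.mk' V) := by
    conv_rhs => rw [← X.quot_D V hV h2 hVD v1 v2, Subgroup.map_comap_eq_self_of_surjective
      (QuotientGroup.mk'_surjective V)]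
  rw [e]
  exact X.quot_inv_map2 V hV h2 hVD v1 v2 hDi inf_le_right

/-- The centre is fixed by the second side. -/
theorem inv2_Z1 (hp2 : p ≠ 2) (h2 : ¬ X.s2.Inv (X.s1.gen (Z1 p P))) : X.s2.Inv (Z1 p P) := by
  by_contra hm2
  obtain ⟨hle, hVD, hV2, hV3, hirr⟩ := X.gen_facts hP hsr hZ hm hphi
  obtain ⟨hV, hVE, hVp, hVz, hZV⟩ := X.s1.genZ_facts hP X.n1 X.i1
  set V := X.s1.gen (Z1 p P)
  have hphi2 : X.s2.phi ≠ ⊥ := fun hb => by
    have hVZ : V ≤ Z1 p P := fun v hv => X.mem_Z1 (fun y hy => (hVz v hv y hy).symm) (fun y hy => by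
      have := X.s2.comm_mem_phi hP (hVD hv).2 hy
      rw [hb, mem_bot, mul_inv_eq_one, mul_inv_eq_iff_eq_mul] at this
      exact this) (hVp v hv)
    exact hm ((le_antisymm hVZ hZV) ▸ hV)
  obtain ⟨hle', hVD', hV2', hV3', -⟩ := X.swap.gen_facts hP hsr hZ hm2 hphi2
  obtain ⟨hV', hVE', hVp', hVz', hZV'⟩ := X.swap.s1.genZ_facts hP X.n2 X.i2
  set V' := X.swap.s1.gen (Z1 p P)
  have hVD'' : V' ≤ X.D := X.swap_D ▸ hVD'
  set S : Set P := (V : Set P) ∪ (V' : Set P) with hS
  have hSc : ∀ a ∈ S, ∀ b ∈ S, a * b = b * a := by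
    rintro a (ha | ha) b (hb | hb)
    · exact hVz b hb a (hVE ha)
    · exact (hVz a ha b (hVD'' hb).1).symm
    · exact hVz b hb a (hVD'' ha).1
    · exact hVz' b hb a (hVE' ha)
  have hSp : ∀ a ∈ S, a ^ p = 1 := by
    rintro a (ha | ha)
    · exact hVp a ha
    · exact hVp' a ha
  set K := closure S with hK
  have hKle := card_elem_le hsr (closure_comm hSc) (closure_pow hSc hSp)
  have hVK : V ≤ K := fun a ha => subset_closure (Or.inl ha)
  have hVK' : V' ≤ K := fun a ha => subset_closure (Or.inr ha)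
  have hnot : ¬ V' ≤ V := fun hle' => by
    have hVZ : V' ≤ Z1 p P := fun v hv => X.mem_Z1 (fun y hy => (hVz v (hle' hv) y hy).symm)
      (fun y hy => (hVz' v hv y hy).symm) (hVp' v hv)
    exact hm2 ((le_antisymm hVZ hZV') ▸ hV')
  have hlt : V < K := lt_of_le_of_ne hVK fun e => hnot (e ▸ hVK')
  have hVc : Nat.card V = p ^ 2 := by
    refine le_antisymm ?_ hV2
    have h1 := (mul_card_le_of_lt hP hlt).trans hKle
    rw [pow_succ'] at h1
    exact Nat.le_of_mul_le_mul_left h1 hp.out.pos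
  have hVc' : Nat.card V' = p ^ 2 := by
    refine le_antisymm ?_ hV2'
    have hlt' : V' < K := lt_of_le_of_ne hVK' fun e => by
      have hVV' : V ≤ V' := e.symm ▸ hVK
      have hVZ : V ≤ Z1 p P := fun v hv => X.mem_Z1 (fun y hy => (hVz v hv y hy).symm)
        (fun y hy => (hVz' v (hVV' hv) y hy).symm) (hVp v hv)
      exact hm ((le_antisymm hVZ hZV) ▸ hV)
    have h1 := (mul_card_le_of_lt hP hlt').trans hKle
    rw [pow_succ'] at h1
    exact Nat.le_of_mul_le_mul_left h1 hp.out.pos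
  have hKc : Nat.card K = p ^ 3 := le_antisymm hKle (by
    have := mul_card_le_of_lt hP hlt
    rwa [hVc, ← pow_succ'] at this)
  haveI := X.s1.inv_normal hV hVE
  haveI : V'.Normal := X.swap.s1.inv_normal hV' hVE'
  haveI : (Z1 p P).Normal := ⟨fun z hz g => by rwa [mem_center_iff.1 hz.1 g, mul_inv_cancel_right]⟩
  have hcomm : ∀ g : P, ∀ k ∈ K, ⁅g, k⁆ ∈ Z1 p P := by
    intro g k hk
    have hi : ∀ {W : Subgroup P}, Z1 p P ≤ W → Nat.card W = p ^ 2 → (Z1 p P).relIndex W = p := by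
      intro W hW hWc
      have := card_mul_relIndex hW
      rw [hZ, hWc, sq] at this
      exact Nat.eq_of_mul_eq_mul_left hp.out.pos this
    have hkc : k ∈ (center (P ⧸ Z1 p P)).comap (QuotientGroup.mk' (Z1 p P)) := by
      refine (closure_le ((center (P ⧸ Z1 p P)).comap (QuotientGroup.mk' (Z1 p P)))).2
        (fun a ha => mem_center_iff.2 fun gq => ?_) hk
      induction gq using QuotientGroup.induction_on with | H g' =>
      have hga : g' * a * g'⁻¹ * a⁻¹ ∈ Z1 p P := by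
        rcases ha with ha | ha
        · exact comm_mem_of_relIndex hP hZV (hi hZV hVc) g' ha
        · exact comm_mem_of_relIndex hP hZV' (hi hZV' hVc') g' ha
      rw [← QuotientGroup.eq_one_iff] at hga
      simpa [mul_inv_eq_one, mul_inv_eq_iff_eq_mul] using hga
    rw [← QuotientGroup.eq_one_iff]
    show QuotientGroup.mk' (Z1 p P) ⁅g, k⁆ = 1
    rw [map_commutatorElement, commutatorElement_eq_one_iff_mul_comm]
    exact mem_center_iff.1 hkc (g : P ⧸ Z1 p P)
  have hKE : K ≤ X.E1 := (closure_le _).2 (by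
    rintro a (ha | ha)
    exacts [hVE ha, (hVD'' ha).1])
  obtain ⟨-, hor⟩ := lemmaA X.s1 hP hp2 hsr hV hVE hVc hirr hVz hVp hKE hVK hKc (closure_comm hSc)
    (closure_pow hSc hSp) fun e _ k hk => hZV (hcomm e k hk)
  rcases hor with hall | hge
  · obtain ⟨x, -, hx1⟩ := X.exists_out2
    have := X.card_le_of_small (K := K) (C := Z1 p P) (fun k hk y hy => (hall y hy k hk).symm.symm)
      (closure_pow hSc hSp) hx1 hZ Z1_le_center (fun k hk => hcomm x k hk)
    rw [hKc, hZ] at this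
    nlinarith [hp.out.one_lt, pow_pos hp.out.pos 2]
  · have : V ≤ Z1 p P := hge.trans ((closure_le _).2 (by
      rintro _ ⟨e, -, k, hk, rfl⟩; exact hcomm e k hk))
    exact hm ((le_antisymm this hZV) ▸ hV)

/-- The conjugates of the centre span a subgroup of order `p ^ 2`. -/
theorem card_gen_eq (h2 : ¬ X.s2.Inv (X.s1.gen (Z1 p P))) :
    Nat.card (X.s1.gen (Z1 p P)) = p ^ 2 := by
  obtain ⟨hle, hVD, hV2, hV3, -⟩ := X.gen_facts hP hsr hZ hm hphi
  obtain ⟨hV, hVE, hVp, hVz, hZV⟩ := X.s1.genZ_facts hP X.n1 X.i1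
  set V := X.s1.gen (Z1 p P)
  obtain ⟨i, hi⟩ := IsPGroup.iff_card.1 (hP.to_subgroup V)
  rw [hi] at hV2 hV3 ⊢
  have h2' := (Nat.pow_le_pow_iff_right hp.out.one_lt).1 hV2
  have h3' := (Nat.pow_le_pow_iff_right hp.out.one_lt).1 hV3
  by_contra hne
  have hi3 : i = 3 := by
    rcases (show i = 2 ∨ i = 3 by omega) with rfl | rfl
    exacts [absurd rfl hne, rfl]
  subst hi3
  have hVn := X.s1.inv_normal hV hVE
  have hVE2 : V ≤ X.E2 := hVD.trans inf_le_right
  -- an image outside the first subgroup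
  obtain ⟨a, v, hv, hout⟩ : ∃ a : X.s2.A, ∃ v ∈ V, X.s2.app a v ∉ X.E1 := by
    unfold Side.Inv at h2
    push Not at h2
    obtain ⟨a, v, hv, hne'⟩ := h2
    by_contra hh
    push Not at hh
    have hy := hh a v hv
    set S : Set P := (V : Set P) ∪ {X.s2.app a v} with hS
    have hSc : ∀ b ∈ S, ∀ c ∈ S, b * c = c * b := by
      rintro b (hb | rfl) c (hc | rfl)
      · exact hVz c hc b (hVE hb)
      · exact (hVz b hb _ hy).symm
      · exact hVz c hc _ hy
      · rfl
    have hSp : ∀ b ∈ S, b ^ p = 1 := by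
      rintro b (hb | rfl)
      · exact hVp b hb
      · rw [← X.s2.app_pow a (hVE2 hv), hVp v hv, X.s2.app_one']
    have hlt : V < closure S := lt_of_le_of_ne (fun b hb => subset_closure (Or.inl hb))
      fun e => hne' (e ▸ subset_closure (Or.inr rfl))
    have := (mul_card_le_of_lt hP hlt).trans (card_elem_le hsr (closure_comm hSc) (closure_pow hSc hSp))
    rw [hi] at this
    nlinarith [hp.out.one_lt, pow_pos hp.out.pos 3]
  set y := X.s2.app a v with hy
  have hyE2 : y ∈ X.E2 := X.s2.app_mem a (hVE2 hv)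
  have hfin : ∀ w ∈ V, ⁅y, w⁆ ∈ Z1 p P := by
    intro w hw
    have hc1 : ⁅y, w⁆ ∈ V := by
      rw [commutatorElement_def]; exact V.mul_mem (hVn.conj_mem w hw y) (V.inv_mem hw)
    refine ⟨mem_center_iff.2 fun g => ?_, hVp _ hc1⟩
    obtain ⟨m, hm, k, rfl⟩ := X.exists_eq_mul hout g
    -- the commutator also lies in the image, which is commutative
    have hwE := hVE2 hw
    set w' := X.s2.app a⁻¹ w with hw'
    have hw'E : w' ∈ X.E2 := X.s2.app_mem _ hwE
    have hu : ⁅v, w'⁆ ∈ V := by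
      rw [commutatorElement_def, mul_assoc v, mul_assoc v]
      exact V.mul_mem hv (hVn.conj_mem _ (V.inv_mem hv) w')
    have himg : ⁅y, w⁆ = X.s2.app a ⁅v, w'⁆ := by
      rw [X.s2.app_comm a (hVE2 hv) hw'E, hw', X.s2.app_app_inv a hwE]
    have hyc : Commute y ⁅y, w⁆ := by
      have := congrArg (X.s2.app a) (hVz _ hu v (hVE hv))
      rw [X.s2.app_mul a (hVE2 hv) (hVE2 hu), X.s2.app_mul a (hVE2 hu) (hVE2 hv), ← himg] at this
      exact this
    exact ((show Commute m ⁅y, w⁆ from hVz _ hc1 m hm).mul_left (hyc.pow_left k)).eq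
  have := X.card_le_of_small (K := V) (C := Z1 p P) (fun k hk y hy => (hVz k hk y hy).symm.symm) hVp hout hZ
    Z1_le_center hfin
  rw [hi, hZ] at this
  nlinarith [hp.out.one_lt, pow_pos hp.out.pos 2]

end Cfsg.Agent.Lib.TwoEssential
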