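import Cfsg.Agent.Lib.TwoEssential.Quot
import Cfsg.Agent.Lib.PGroups.MaxAbelian

/-!
# General facts about automiser data

Series with central factors, groups acting like inner automorphisms and the consequences for invariant
subgroups.
-/

set_option autoImplicit false
set_option linter.style.haveILetI false

universe u

namespace Cfsg.Agent.Lib.TwoEssential

open Subgroup
open scoped commutatorElement

variable {p : ℕ} {P : Type u} [Group P]

/-- The powers of a product with a central commutator of order dividing an odd prime. -/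
theorem mul_pow_p [hp : Fact p.Prime] (hp2 : p ≠ 2) {x y : P} (hx : Commute x ⁅y, x⁆)
    (hy : Commute y ⁅y, x⁆) (h : ⁅y, x⁆ ^ p = 1) : (x * y) ^ p = x ^ p * y ^ p := by
  rw [PGroups.mul_pow_of_central_commutator x y hx hy]
  obtain ⟨m, hm⟩ := hp.out.dvd_choose_self two_ne_zero (lt_of_le_of_ne hp.out.two_le (Ne.symm hp2))
  rw [hm, pow_mul, h, one_pow, mul_one]

/-- A factor of order `p` is central. -/
theorem comm_mem_of_relIndex [Fact p.Prime] [Finite P] (hP : IsPGroup p P) {M N : Subgroup P} [hM : M.Normal]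
    [hN : N.Normal] (h : M ≤ N) (hi : M.relIndex N = p) (g : P) {x : P} (hx : x ∈ N) :
    g * x * g⁻¹ * x⁻¹ ∈ M := by
  haveI := hN.map (QuotientGroup.mk' M) (QuotientGroup.mk'_surjective M)
  have hc := PGroups.le_center_of_normal_card_prime (hP.to_quotient M) _
    ((Side.relIndex_eq_card h).trans hi) (mem_map_of_mem (QuotientGroup.mk' M) hx)
  rw [← QuotientGroup.eq_one_iff]
  simp only [QuotientGroup.mk_mul, QuotientGroup.mk_inv]
  have := mem_center_iff.1 hc (g : P ⧸ M)
  change (g : P ⧸ M) * x = x * g at this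
  rw [this, mul_inv_cancel_right, mul_inv_cancel]

/-- An element outside a subgroup of relative index `p` generates modulo it. -/
theorem exists_pow_mul_relIndex [Fact p.Prime] {M N : Subgroup P} [M.Normal] (hi : M.relIndex N = p)
    {x : P} (hx : x ∈ N) (hxM : x ∉ M) {y : P} (hy : y ∈ N) : ∃ m ∈ M, ∃ k : ℕ, y = m * x ^ k := by
  obtain ⟨m, hm, k, hk⟩ := exists_pow_mul (P := N) (M := M.subgroupOf N) hi (x := ⟨x, hx⟩) hxM ⟨y, hy⟩
  exact ⟨m, mem_subgroupOf.1 hm, k, by simpa using congrArg Subtype.val hk⟩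

/-- The orders along an inclusion. -/
theorem card_mul_relIndex {M N : Subgroup P} (h : M ≤ N) : Nat.card M * M.relIndex N = Nat.card N := by
  have := relIndex_mul_relIndex ⊥ M N bot_le h
  rwa [relIndex_bot_left, relIndex_bot_left] at this

/-- Two subgroups of the same order in an inclusion are equal. -/
theorem eq_of_relIndex_eq_one {M N : Subgroup P} (h : M ≤ N) (hi : M.relIndex N = 1) : M = N :=
  le_antisymm h (relIndex_eq_one.1 hi)

/-- The central elements of order dividing `p`. -/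
def Z1 (p : ℕ) (P : Type u) [Group P] : Subgroup P where
  carrier := {x | x ∈ center P ∧ x ^ p = 1}
  one_mem' := ⟨one_mem _, one_pow _⟩
  mul_mem' := by
    rintro x y ⟨hx, hx'⟩ ⟨hy, hy'⟩
    have hc : Commute x y := mem_center_iff.1 hy x
    exact ⟨mul_mem hx hy, by rw [hc.mul_pow, hx', hy', mul_one]⟩
  inv_mem' := by
    rintro x ⟨hx, hx'⟩
    exact ⟨inv_mem hx, by rw [inv_pow, hx', inv_one]⟩

theorem mem_Z1 {x : P} : x ∈ Z1 p P ↔ x ∈ center P ∧ x ^ p = 1 := Iff.rfl

theorem Z1_le_center : Z1 p P ≤ center P := fun _ hx => hx.1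

/-- A nontrivial normal subgroup meets `Z1`. -/
theorem exists_mem_Z1 [Fact p.Prime] [Finite P] (hP : IsPGroup p P) {N : Subgroup P} [N.Normal] (h : N ≠ ⊥) :
    ∃ z ∈ N, z ∈ Z1 p P ∧ z ≠ 1 := by
  obtain ⟨z, hz, hzo⟩ := PGroups.exists_orderOf_eq_prime_of_ne_bot (hP.to_subgroup _)
    (PGroups.normal_inf_center_ne_bot hP N h)
  refine ⟨z, hz.1, ⟨hz.2, hzo ▸ pow_orderOf_eq_one z⟩, fun e => ?_⟩
  rw [e, orderOf_one] at hzo
  exact (Fact.out : p.Prime).one_lt.ne hzo

/-- Central elements commute with all elements. -/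
theorem commute_of_mem_center {x y : P} (hx : x ∈ center P) : Commute x y :=
  (mem_center_iff.1 hx y).symm

variable {E : Subgroup P} {B : Type u} [Group B] {bact : B →* MulAut P}

namespace Side

variable (s : Side p P E B bact)

theorem inv_closure {S : Set P} (hS : S ⊆ E) (h : ∀ a, ∀ x ∈ S, s.app a x ∈ closure S) :
    s.Inv (closure S) := by
  intro a y hy
  refine (closure_induction (p := fun y _ => y ∈ E ∧ s.app a y ∈ closure S) (fun y hy => ?_)
    ⟨E.one_mem, by rw [s.app_one']; exact one_mem _⟩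
    (fun y z _ _ hy hz => ⟨E.mul_mem hy.1 hz.1, by rw [s.app_mul a hy.1 hz.1]; exact mul_mem hy.2 hz.2⟩)
    (fun y _ hy => ⟨E.inv_mem hy.1, by rw [s.app_inv a hy.1]; exact inv_mem hy.2⟩) hy).2
  exact ⟨hS hy, h a y hy⟩

theorem app_comm (a : s.A) {x y : P} (hx : x ∈ E) (hy : y ∈ E) :
    s.app a ⁅x, y⁆ = ⁅s.app a x, s.app a y⁆ := by
  rw [commutatorElement_def, commutatorElement_def]
  exact s.conj_eq hx hy a

/-- The centraliser in `E` of an invariant subgroup is invariant. -/
theorem inv_cent {V : Subgroup P} (hV : s.Inv V) (hVE : V ≤ E) : s.Inv (E ⊓ centralizer (V : Set P)) := by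
  rintro a x ⟨hxE, hx⟩
  refine ⟨s.app_mem a hxE, mem_centralizer_iff.2 fun v hv => ?_⟩
  have hv' := hV a⁻¹ v hv
  have hc := mem_centralizer_iff.1 hx _ hv'
  have := congrArg (s.app a) hc
  rwa [s.app_mul a (hVE hv') hxE, s.app_mul a hxE (hVE hv'), s.app_app_inv a (hVE hv)] at this

/-- Commutators of invariant subgroups generate an invariant subgroup. -/
theorem inv_commClosure {H K : Subgroup P} (hH : s.Inv H) (hK : s.Inv K) (hHE : H ≤ E) (hKE : K ≤ E) :
    s.Inv (closure {c | ∃ x ∈ H, ∃ y ∈ K, ⁅x, y⁆ = c}) := by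
  refine s.inv_closure ?_ ?_
  · rintro _ ⟨x, hx, y, hy, rfl⟩
    exact commutatorElement_def x y ▸ E.mul_mem (E.mul_mem (E.mul_mem (hHE hx) (hKE hy))
      (E.inv_mem (hHE hx))) (E.inv_mem (hKE hy))
  · rintro a _ ⟨x, hx, y, hy, rfl⟩
    exact subset_closure ⟨_, hH a x hx, _, hK a y hy, (s.app_comm a (hHE hx) (hKE hy)).symm⟩

/-- Powers in an invariant subgroup generate an invariant subgroup. -/
theorem inv_powClosure {H : Subgroup P} (hH : s.Inv H) (hHE : H ≤ E) (k : ℕ) :
    s.Inv (closure {c | ∃ x ∈ H, x ^ k = c}) := by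
  refine s.inv_closure ?_ ?_
  · rintro _ ⟨x, hx, rfl⟩
    exact E.pow_mem (hHE hx) k
  · rintro a _ ⟨x, hx, rfl⟩
    exact subset_closure ⟨_, hH a x hx, (s.app_pow a (hHE hx) k).symm⟩

theorem ct_mono {M M' N : Subgroup P} (hM : M ≤ M') (h : s.CT M N) : s.CT M' N :=
  fun l hl hc x hx => hM (h l hl hc x hx)

theorem ct_mono_right {M N N' : Subgroup P} (hN : N' ≤ N) (h : s.CT M N) : s.CT M N' :=
  fun l hl hc x hx => h l hl hc x (hN hx)

theorem ct_self (N : Subgroup P) (hN : s.Inv N) : s.CT N N :=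
  fun l _ _ x hx => N.mul_mem (hN l x hx) (N.inv_mem hx)

/-- `L` fixes central elements of an invariant subgroup. -/
theorem fix_central {N : Subgroup P} (hN : s.Inv N) (hNE : N ≤ E) (hc : N ≤ center P) {l : s.A}
    (hl : l ∈ s.L) {x : P} (hx : x ∈ N) : s.app l x = x := by
  have := s.fix_of_central hN hNE s.inv_bot bot_le (fun g y hy => by
    rw [mem_bot, mem_center_iff.1 (hc hy) g, mul_inv_cancel_right, mul_inv_cancel]) l hl x hx
  rwa [mem_bot, mul_inv_eq_one] at this

theorem ct_bot_of_central {N : Subgroup P} (hN : s.Inv N) (hNE : N ≤ E) (hc : N ≤ center P) :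
    s.CT ⊥ N := fun l hl _ x hx => by
  rw [mem_bot, mul_inv_eq_one, s.fix_central hN hNE hc hl hx]

variable [Finite P]

theorem not_ct_of_ct_bot (hP : IsPGroup p P) {N : Subgroup P} (hNE : N ≤ E) (h : s.CT ⊥ N) :
    ¬ s.CT N E := fun h' =>
  s.not_ct (s.ct_trans hP s.inv_bot bot_le hNE le_rfl h' h)

variable [Fact p.Prime]

/-- A factor of order `p` is centralised. -/
theorem ct_step (hP : IsPGroup p P) {M N : Subgroup P} (hM : s.Inv M) (hN : s.Inv N) (h : M ≤ N)
    (hNE : N ≤ E) (hi : M.relIndex N = p) : s.CT M N := by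
  haveI := s.inv_normal hM (h.trans hNE)
  haveI := s.inv_normal hN hNE
  exact s.ct_of_central hN hNE hM (h.trans hNE) fun g x hx => comm_mem_of_relIndex hP h hi g hx

theorem not_ct_of_le_phi (hP : IsPGroup p P) {N : Subgroup P} (h : N ≤ s.phi) : ¬ s.CT N E :=
  fun h' => s.not_ct_phi hP (s.ct_mono h h')

/-- An invariant subgroup of index `p` in `E`, with an invariant central subgroup of index `p` in it,
is impossible. -/
theorem no_flag (hP : IsPGroup p P) {K M : Subgroup P} (hK : s.Inv K) (hM : s.Inv M) (hKM : K ≤ M)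
    (hME : M ≤ E) (h1 : M.relIndex E = p) (h2 : K.relIndex M = p) (hc : K ≤ center P) : False := by
  refine s.not_ct_of_ct_bot hP (hKM.trans hME) (s.ct_bot_of_central hK (hKM.trans hME) hc) ?_
  exact s.ct_trans hP hK (hKM.trans hME) hME le_rfl (s.ct_step hP hM s.inv_self hME le_rfl h1)
    (s.ct_step hP hK hM hKM hME h2)

include s in
/-- The subgroup `E` is centric. -/
theorem centric (hP : IsPGroup p P) (hn : E.Normal) (hi : E.index = p) {g : P}
    (h : ∀ x ∈ E, g * x = x * g) : g ∈ E := by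
  by_contra hg
  refine s.not_ct_phi hP (s.ct_of_central s.inv_self le_rfl s.inv_phi s.phi_le fun y x hx => ?_)
  haveI := hn
  obtain ⟨m, hm, k, rfl⟩ := exists_pow_mul hi hg y
  have hk : g ^ k * x = x * g ^ k := ((show Commute g x from h x hx).pow_left k).eq
  have e : m * g ^ k * x * (m * g ^ k)⁻¹ * x⁻¹ = m * x * m⁻¹ * x⁻¹ := by
    rw [mul_assoc m (g ^ k), hk]; group
  rw [e]
  exact s.comm_mem_phi hP hm hx

include s in
theorem center_le (hP : IsPGroup p P) (hn : E.Normal) (hi : E.index = p) : center P ≤ E :=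
  fun _ hg => s.centric hP hn hi fun x _ => (mem_center_iff.1 hg x).symm

/-- A group on which `P` acts as `E` does is centralised. -/
theorem ct_of_inner (hP : IsPGroup p P) {V : Subgroup P} (hV : s.Inv V) (hVE : V ≤ E)
    (h : ∀ g : P, ∃ e ∈ E, ∀ v ∈ V, g * v * g⁻¹ = e * v * e⁻¹) : s.CT ⊥ V := by
  obtain ⟨M, ⟨hMi, hMV, hMc⟩, hmax⟩ :=
    (Set.toFinite {M : Subgroup P | s.Inv M ∧ M ≤ V ∧ s.CT ⊥ M}).exists_maximal
      ⟨⊥, s.inv_bot, bot_le, s.ct_self ⊥ s.inv_bot⟩
  by_contra hne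
  have hMV' : M ≠ V := fun e => hne (e ▸ hMc)
  have hME := hMV.trans hVE
  haveI := s.inv_normal hMi hME
  haveI := s.inv_normal hV hVE
  set U := V ⊓ (center (P ⧸ M)).comap (QuotientGroup.mk' M) with hU
  have hmem : ∀ {x : P}, x ∈ U → ∀ g : P, g * x * g⁻¹ * x⁻¹ ∈ M := fun {x} hx g => by
    rw [← QuotientGroup.eq_one_iff]
    simp only [QuotientGroup.mk_mul, QuotientGroup.mk_inv]
    have := mem_center_iff.1 (show (x : P ⧸ M) ∈ center (P ⧸ M) from hx.2) (g : P ⧸ M)
    rw [this, mul_inv_cancel_right, mul_inv_cancel]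
  have hUi : s.Inv U := by
    intro a x hx
    have hxE := hVE hx.1
    refine ⟨hV a x hx.1, mem_center_iff.2 fun gq => ?_⟩
    induction gq using QuotientGroup.induction_on with | H g =>
    show ((g * s.app a x : P) : P ⧸ M) = (s.app a x * g : P)
    obtain ⟨e, he, heq⟩ := h g
    have h1 : g * s.app a x * g⁻¹ * (s.app a x)⁻¹ ∈ M := by
      rw [heq _ (hV a x hx.1), ← s.app_app_inv a he, ← s.app_inv a (s.app_mem _ he)]
      have he' := s.app_mem a⁻¹ he
      rw [← s.app_mul a he' hxE, ← s.app_mul a (E.mul_mem he' hxE) (E.inv_mem he'), ← s.app_inv a hxE,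
        ← s.app_mul a (E.mul_mem (E.mul_mem he' hxE) (E.inv_mem he')) (E.inv_mem hxE)]
      exact hMi a _ (hmem hx _)
    rw [← QuotientGroup.eq_one_iff] at h1
    rw [QuotientGroup.mk_mul, QuotientGroup.mk_mul]
    simp only [QuotientGroup.mk_mul, QuotientGroup.mk_inv] at h1
    rwa [mul_inv_eq_one, mul_inv_eq_iff_eq_mul] at h1
  have hMU : M ≤ U := fun x hx => ⟨hMV hx, by
    show (x : P ⧸ M) ∈ center (P ⧸ M)
    rw [(QuotientGroup.eq_one_iff x).2 hx]; exact one_mem _⟩
  have hUE : U ≤ E := inf_le_left.trans hVE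
  have hUM : U ≤ M := hmax ⟨hUi, inf_le_left, s.ct_trans hP s.inv_bot bot_le hME hUE
    (s.ct_of_central hUi hUE hMi hME fun g x hx => hmem hx g) hMc⟩ hMU
  haveI := (inferInstance : V.Normal).map (QuotientGroup.mk' M) (QuotientGroup.mk'_surjective M)
  refine PGroups.normal_inf_center_ne_bot (hP.to_quotient M) (V.map (QuotientGroup.mk' M))
    (fun hb => hMV' (le_antisymm hMV fun x hx => ?_)) (eq_bot_iff.2 fun y hy => ?_)
  · have := mem_map_of_mem (QuotientGroup.mk' M) hx
    rw [hb, mem_bot] at this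
    exact (QuotientGroup.eq_one_iff x).1 this
  · obtain ⟨x, hx, rfl⟩ := hy.1
    exact (QuotientGroup.eq_one_iff x).2 (hUM ⟨hx, hy.2⟩)

/-- If `L` is a `p`-group on `V`, the normal `B`-invariant subgroups in `V` are invariant. -/
theorem inv_of_ct {V : Subgroup P} (hV : s.Inv V) (hVE : V ≤ E) (hct : s.CT ⊥ V)
    {M : Subgroup P} (hMV : M ≤ V) (hMn : M.Normal) (hMB : ∀ b, ∀ x ∈ M, bact b x ∈ M) : s.Inv M := by
  set K : Subgroup s.A :=
    { carrier := {a | ∀ x ∈ V, s.app a x = x}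
      one_mem' := fun x _ => s.one_app x
      mul_mem' := fun {a b} ha hb x hx => by rw [s.mul_app a b (hVE hx), hb x hx, ha x hx]
      inv_mem' := fun {a} ha x hx => by
        have := s.inv_app_app a (hVE hx)
        rwa [ha x hx] at this } with hK
  haveI : K.Normal := ⟨fun a ha c x hx => by
    have hxE := hVE hx
    rw [s.mul_app _ _ hxE, s.mul_app _ _ (s.app_mem _ hxE), ha _ (hV c⁻¹ x hx), s.app_app_inv c hxE]⟩
  set π := QuotientGroup.mk' K with hπ
  haveI : (s.L.map π).Normal := Subgroup.normalClosure_normal.map π (QuotientGroup.mk'_surjective K)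
  have hQ : IsPGroup p (s.L.map π) := by
    rintro ⟨_, l, hl, rfl⟩
    obtain ⟨k, hk⟩ := s.exists_coprime_pow l
    refine ⟨k, Subtype.ext ?_⟩
    rw [SubgroupClass.coe_pow, Subgroup.coe_one, ← map_pow]
    refine (QuotientGroup.eq_one_iff _).2 fun x hx => ?_
    have := hct _ (Subgroup.pow_mem _ hl _) hk x hx
    rwa [mem_bot, mul_inv_eq_one] at this
  set R' : Sylow p (s.A ⧸ K) := s.R.mapSurjective (QuotientGroup.mk'_surjective K)
  have hR' : (R' : Subgroup (s.A ⧸ K)) = (s.R : Subgroup s.A).map π := rfl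
  have hle : s.L.map π ≤ (s.R : Subgroup s.A).map π := by
    have := R'.is_maximal' (R'.2.to_sup_of_normal_right hQ) le_sup_left
    rw [← hR', ← this]
    exact le_sup_right
  have hLM : ∀ l ∈ s.L, ∀ x ∈ M, s.app l x ∈ M := by
    intro l hl x hx
    obtain ⟨r, hr, hrl⟩ := hle (mem_map_of_mem π hl)
    have hk : r⁻¹ * l ∈ K := (QuotientGroup.eq).1 hrl
    obtain ⟨g, hg⟩ := s.exists_of_R hr
    have h1 : s.app l x = g * x * g⁻¹ := by
      rw [show l = r * (r⁻¹ * l) by group, s.mul_app _ _ (hVE (hMV hx)), hk x (hMV hx), hg x (hVE (hMV hx))]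
    rw [h1]
    exact hMn.conj_mem x hx g
  have hRL : (s.R : Subgroup s.A) ≤ s.L := Subgroup.le_normalClosure
  intro a x hx
  have hfr := Sylow.normalizer_sup_eq_top' s.R hRL
  have ha : a ∈ normalizer ((s.R : Subgroup s.A) : Set s.A) ⊔ s.L := by
    exact hfr ▸ mem_top a
  obtain ⟨m, hm, l, hl, rfl⟩ := Subgroup.mem_sup_of_normal_right.1 ha
  rw [s.mul_app _ _ (hVE (hMV hx))]
  obtain ⟨b, hb⟩ := s.exists_ext hm
  rw [← hb _ (hVE (hMV (hLM l hl x hx)))]
  exact hMB b _ (hLM l hl x hx)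

end Side

end Cfsg.Agent.Lib.TwoEssential
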