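import Cfsg.Agent.Lib.TwoEssential.RankTwoCenter

/-!
# The conjugates of the central elements of order `p`

If no nontrivial central subgroup is invariant on both sides, the centre has a single subgroup of
order `p`.
-/

set_option autoImplicit false
set_option linter.style.haveILetI false

universe u

namespace Cfsg.Agent.Lib.TwoEssential

open Subgroup
open scoped commutatorElement

variable {p : ℕ} [hp : Fact p.Prime] {P : Type u} [Group P] [Finite P]

/-- No nontrivial central elementary subgroup is invariant on both sides. -/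
def NoCentral (X : Pair p P) : Prop :=
  ∀ N : Subgroup P, N ≤ Z1 p P → X.s1.Inv N → X.s2.Inv N → N = ⊥

omit hp [Finite P] in
theorem NoCentral.swap {X : Pair p P} (h : NoCentral X) : NoCentral X.swap :=
  fun N hN h1 h2 => h N hN h2 h1

variable {E : Subgroup P} {B : Type u} [Group B] {bact : B →* MulAut P}

namespace Side

variable (s : Side p P E B bact)

theorem genZ_facts (hP : IsPGroup p P) (hn : E.Normal) (hi : E.index = p) :
    s.Inv (s.gen (Z1 p P)) ∧ s.gen (Z1 p P) ≤ E ∧ (∀ v ∈ s.gen (Z1 p P), v ^ p = 1) ∧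
      (∀ v ∈ s.gen (Z1 p P), ∀ e ∈ E, e * v = v * e) ∧ Z1 p P ≤ s.gen (Z1 p P) := by
  have hZE : Z1 p P ≤ E := Z1_le_center.trans (s.center_le hP hn hi)
  let W : Subgroup P :=
    { carrier := {v | v ∈ E ∧ (∀ e ∈ E, e * v = v * e) ∧ v ^ p = 1}
      one_mem' := ⟨one_mem _, fun e _ => by rw [mul_one, one_mul], one_pow _⟩
      mul_mem' := fun {a b} ha hb => ⟨mul_mem ha.1 hb.1,
        fun e he => by rw [← mul_assoc, ha.2.1 e he, mul_assoc, hb.2.1 e he, mul_assoc],
        by rw [(show Commute a b from hb.2.1 a ha.1).mul_pow, ha.2.2, hb.2.2, mul_one]⟩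
      inv_mem' := fun {a} ha => ⟨inv_mem ha.1,
        fun e he => (Commute.inv_right (show Commute e a from ha.2.1 e he)).eq,
        by rw [inv_pow, ha.2.2, inv_one]⟩ }
  have hWi : s.Inv W := by
    intro a v hv
    refine ⟨s.app_mem a hv.1, fun e he => ?_, by rw [← s.app_pow a hv.1, hv.2.2, s.app_one']⟩
    rw [← s.app_app_inv a he, ← s.app_mul a (s.app_mem _ he) hv.1, hv.2.1 _ (s.app_mem _ he),
      s.app_mul a hv.1 (s.app_mem _ he)]
  have hle : s.gen (Z1 p P) ≤ W := s.gen_min (fun z hz => ⟨hZE hz,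
    fun e _ => (mem_center_iff.1 hz.1 e), hz.2⟩) hWi
  exact ⟨s.gen_inv hZE, s.gen_le hZE, fun v hv => (hle hv).2.2, fun v hv => (hle hv).2.1, s.le_gen _⟩

theorem genZ_card (hP : IsPGroup p P) (hsr : SectionalPRankLE p 3 P) (hn : E.Normal) (hi : E.index = p)
    (hZ : ¬ s.Inv (Z1 p P)) :
    p * Nat.card (Z1 p P) ≤ Nat.card (s.gen (Z1 p P)) ∧ Nat.card (s.gen (Z1 p P)) ≤ p ^ 3 := by
  obtain ⟨hV, hVE, hVp, hVz, hZV⟩ := s.genZ_facts hP hn hi
  exact ⟨mul_card_le_of_lt hP (lt_of_le_of_ne hZV fun e => hZ (e ▸ hV)),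
    card_elem_le hsr (fun a ha b hb => hVz b hb a (hVE ha)) hVp⟩

end Side

/-- Then the centre has a single subgroup of order `p`. -/
theorem card_Z1_of_noCentral (X : Pair p P) (hP : IsPGroup p P) (hp2 : p ≠ 2)
    (hsr : SectionalPRankLE p 3 P) (hA : NoCentral X) (hZ : ¬ X.s1.Inv (Z1 p P)) :
    Nat.card (Z1 p P) = p := by
  have hne : Z1 p P ≠ ⊥ := fun h => hZ (h ▸ X.s1.inv_bot)
  obtain ⟨hb, ht⟩ := X.s1.genZ_card hP hsr X.n1 X.i1 hZ
  obtain ⟨i, hi⟩ := IsPGroup.iff_card.1 (hP.to_subgroup (Z1 p P))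
  have h1 : i ≠ 0 := fun h => hne (Subgroup.eq_bot_of_card_eq _ (by rw [hi, h, pow_zero]))
  by_contra hne1
  have h2 : i = 2 := by
    have h3 : p ^ (i + 1) ≤ p ^ 3 := by rw [pow_succ', ← hi]; exact hb.trans ht
    have := (Nat.pow_le_pow_iff_right hp.out.one_lt).1 h3
    rcases (show i = 1 ∨ i = 2 by omega) with rfl | rfl
    · exact absurd (hi.trans (pow_one p)) hne1
    · rfl
  subst h2
  obtain ⟨hV, hVE, hVp, hVz, hZV⟩ := X.s1.genZ_facts hP X.n1 X.i1
  set V := X.s1.gen (Z1 p P) with hVdef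
  have hVcard : Nat.card V = p ^ 3 := le_antisymm ht (by rw [pow_succ', ← hi]; exact hb)
  obtain ⟨F, W, hFc, hFZ, hFi, hnat, hWV, hFW, hcW⟩ :=
    transvection_split X.s1 hP hp2 X.n1 X.i1 hV hVE hVp hVz hVcard hZV hi hZ
  have hFne : F ≠ ⊥ := fun h => by rw [h, Subgroup.card_bot] at hFc; exact hp.out.one_lt.ne hFc
  have hFn : F.Normal := ⟨fun w hw g => by rwa [mem_center_iff.1 (hFZ hw).1 g, mul_inv_cancel_right]⟩
  have hFB : ∀ b, ∀ y ∈ F, X.bact b y ∈ F := fun b y hy =>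
    X.s1.inv_bact hFi (hFZ.trans (hZV.trans hVE)) b hy
  by_cases hZ2 : X.s2.Inv (Z1 p P)
  · have hZE2 : Z1 p P ≤ X.E2 := Z1_le_center.trans (X.s2.center_le hP X.n2 X.i2)
    exact hFne (hA F hFZ hFi (X.s2.inv_of_ct hZ2 hZE2 (X.s2.ct_bot_of_central hZ2 hZE2 Z1_le_center)
      hFZ hFn hFB))
  obtain ⟨hV', hVE', hVp', hVz', hZV'⟩ := X.s2.genZ_facts hP X.n2 X.i2
  set V' := X.s2.gen (Z1 p P) with hV'def
  obtain ⟨hb', ht'⟩ := X.s2.genZ_card hP hsr X.n2 X.i2 hZ2
  have hVcard' : Nat.card V' = p ^ 3 := le_antisymm ht' (by rw [pow_succ', ← hi]; exact hb')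
  obtain ⟨F', W', hFc', hFZ', hFi', hnat', hWV', hFW', hcW'⟩ :=
    transvection_split X.s2 hP hp2 X.n2 X.i2 hV' hVE' hVp' hVz' hVcard' hZV' hi hZ2
  -- the first module is not inside the second subgroup
  obtain ⟨v, hv, hvE⟩ : ∃ v ∈ V, v ∉ X.E2 := by
    by_contra hh
    push Not at hh
    set S : Set P := (V : Set P) ∪ (V' : Set P) with hS
    have hSc : ∀ a ∈ S, ∀ b ∈ S, a * b = b * a := by
      rintro a (ha | ha) b (hb | hb)
      · exact (hVz b hb a (hVE ha))
      · exact hVz' b hb a (hh a ha)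
      · exact (hVz' a ha b (hh b hb)).symm
      · exact hVz' b hb a (hVE' ha)
    have hSp : ∀ a ∈ S, a ^ p = 1 := by
      rintro a (ha | ha)
      · exact hVp a ha
      · exact hVp' a ha
    have hle := card_elem_le hsr (closure_comm hSc) (closure_pow hSc hSp)
    have e1 : V = closure S := Subgroup.eq_of_le_of_card_ge (fun a ha => subset_closure (Or.inl ha))
      (hle.trans hVcard.ge)
    have e2 : V' = closure S := Subgroup.eq_of_le_of_card_ge (fun a ha => subset_closure (Or.inr ha))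
      (hle.trans hVcard'.ge)
    have hVZ : V ≤ Z1 p P := fun a ha =>
      ⟨X.mem_center (fun y hy => (hVz a ha y hy).symm)
        (fun y hy => (hVz' a ((e2.trans e1.symm) ▸ ha) y hy).symm), hVp a ha⟩
    have := Subgroup.card_le_of_le hVZ
    rw [hVcard, hi] at this
    exact absurd ((Nat.pow_le_pow_iff_right hp.out.one_lt).1 this) (by norm_num)
  obtain ⟨v', hv', hne'⟩ : ∃ v' ∈ V', ⁅v, v'⁆ ≠ 1 := by
    by_contra hh
    push Not at hh
    have hVZ : V' ≤ Z1 p P := fun a ha => ⟨mem_center_iff.2 fun g => by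
      haveI := X.n2
      obtain ⟨m, hm, k, rfl⟩ := exists_pow_mul X.i2 hvE g
      exact ((show Commute m a from hVz' a ha m hm).mul_left
        ((commutatorElement_eq_one_iff_commute.1 (hh a ha)).pow_left k)).eq, hVp' a ha⟩
    have := Subgroup.card_le_of_le hVZ
    rw [hVcard', hi] at this
    exact absurd ((Nat.pow_le_pow_iff_right hp.out.one_lt).1 this) (by norm_num)
  set c := ⁅v, v'⁆ with hc
  have hc2 : c ∈ W' := hcW' v v' hv'
  have hc1 : c ∈ W := by rw [hc, ← commutatorElement_inv]; exact inv_mem (hcW v' v hv)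
  have hcZ : c ∈ Z1 p P :=
    ⟨X.mem_center (fun y hy => (hVz c (hWV hc1) y hy).symm)
      (fun y hy => (hVz' c (hWV' hc2) y hy).symm), hVp c (hWV hc1)⟩
  -- decomposition of the centre
  have hcF : c ∉ F := fun h => hne' (mem_bot.1 (hFW ▸ ⟨h, hc1⟩))
  haveI := hFn
  have hFi1 : F.relIndex (Z1 p P) = p := by
    have := card_mul_relIndex hFZ
    rw [hFc, hi, sq] at this
    exact Nat.eq_of_mul_eq_mul_left hp.out.pos this
  -- the element inverting the natural section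
  obtain ⟨n, hn, hnN, -, hneg⟩ := hnat.exists_neg X.s1 hP hp2
  obtain ⟨b, hb⟩ := X.s1.exists_ext hnN
  have hFF : F' ≤ F := by
    intro f hf
    obtain ⟨f₁, hf₁, j, rfl⟩ := exists_pow_mul_relIndex hFi1 hcZ hcF (hFZ' hf)
    have hbf : X.bact b (f₁ * c ^ j) = f₁ * (c ^ j)⁻¹ := by
      have h1 : X.bact b f₁ = f₁ := by
        rw [hb _ (hVE (hZV (hFZ hf₁))), X.s1.fix_central hFi (hFZ.trans (hZV.trans hVE))
          (hFZ.trans Z1_le_center) hn hf₁]
      rw [map_mul, h1, map_pow, hb c (hVE (hWV hc1)),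
        eq_inv_of_mul_eq_one_left (mem_bot.1 (hneg c hc1)), inv_pow]
    have h2 : f₁ * (c ^ j)⁻¹ ∈ F' :=
      hbf ▸ X.s2.inv_bact hFi' (hFZ'.trans (hZV'.trans hVE')) b hf
    have h3 : c ^ j * c ^ j ∈ F' := by
      have hcom : Commute f₁ (c ^ j) := commute_of_mem_center (hFZ hf₁).1
      have h := F'.mul_mem (F'.inv_mem h2) hf
      rwa [mul_inv_rev, inv_inv, mul_assoc, inv_mul_cancel_left] at h
    have h4 : c ^ j * c ^ j = 1 :=
      mem_bot.1 (hFW' ▸ ⟨h3, W'.mul_mem (W'.pow_mem hc2 j) (W'.pow_mem hc2 j)⟩)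
    have h5 : c ^ j = 1 := eq_one_of_eq_inv' hP hp2 (mul_eq_one_iff_eq_inv.1 h4)
    rwa [h5, mul_one]
  have he : F' = F := Subgroup.eq_of_le_of_card_ge hFF (by rw [hFc, hFc'])
  exact hFne (hA F hFZ hFi (he ▸ hFi'))
where
  eq_one_of_eq_inv' {c : P} (hP : IsPGroup p P) (hp2 : p ≠ 2) (h : c = c⁻¹) : c = 1 := by
    obtain ⟨j, hj⟩ := hP c
    have h2 : c ^ 2 = 1 := by rw [sq]; exact mul_eq_one_iff_eq_inv.2 h
    have := pow_gcd_eq_one.2 ⟨h2, hj⟩
    rwa [(Nat.Coprime.pow_right j ((Nat.coprime_primes Nat.prime_two hp.out).2 (Ne.symm hp2))).gcd_eq_one,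
      pow_one] at this

end Cfsg.Agent.Lib.TwoEssential
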