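import Cfsg.Agent.Lib.TwoEssential.CaseB

/-!
# The hull on the second side

When the conjugates `V` of the centre are moved by the second side and the centre is fixed, the conjugates
of `V` generate a subgroup `U` of exponent `p` with `[E₂, U]` in the centre.  Such a `U` is abelian.
-/

set_option autoImplicit false
set_option linter.style.haveILetI false

universe u

namespace Cfsg.Agent.Lib.TwoEssential

open Subgroup
open scoped commutatorElement

variable {p : ℕ} [hp : Fact p.Prime] {P : Type u} [Group P] [Finite P]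

/-- The situation left over by the first reductions. -/
structure BData (X : Pair p P) : Prop where
  cardZ : Nat.card (Z1 p P) = p
  moved : ¬ X.s1.Inv (Z1 p P)
  phi : X.s1.phi ≠ ⊥
  cardV : Nat.card (X.s1.gen (Z1 p P)) = p ^ 2
  moved2 : ¬ X.s2.Inv (X.s1.gen (Z1 p P))
  fixed2 : X.s2.Inv (Z1 p P)

variable {X : Pair p P} (h : BData X) (hP : IsPGroup p P) (hp2 : p ≠ 2) (hsr : SectionalPRankLE p 3 P)
include h hP hsr

theorem BData.le_D : X.s1.gen (Z1 p P) ≤ X.D :=
  (X.gen_facts hP hsr h.cardZ h.moved h.phi).2.1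

theorem BData.comm_V (g : P) {v : P} (hv : v ∈ X.s1.gen (Z1 p P)) : ⁅g, v⁆ ∈ Z1 p P := by
  obtain ⟨hV, hVE, -, -, hZV⟩ := X.s1.genZ_facts hP X.n1 X.i1
  haveI := X.s1.inv_normal hV hVE
  haveI : (Z1 p P).Normal := ⟨fun z hz g => by rwa [mem_center_iff.1 hz.1 g, mul_inv_cancel_right]⟩
  have hi : (Z1 p P).relIndex (X.s1.gen (Z1 p P)) = p := by
    have := card_mul_relIndex hZV
    rw [h.cardZ, h.cardV, sq] at this
    exact Nat.eq_of_mul_eq_mul_left hp.out.pos this
  exact commutatorElement_def g v ▸ comm_mem_of_relIndex hP hZV hi g hv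

include hp2 in
theorem BData.hull_facts :
    X.s2.Inv (X.s2.gen (X.s1.gen (Z1 p P))) ∧ X.s2.gen (X.s1.gen (Z1 p P)) ≤ X.E2 ∧
      X.s1.gen (Z1 p P) < X.s2.gen (X.s1.gen (Z1 p P)) ∧
      (∀ e ∈ X.E2, ∀ u ∈ X.s2.gen (X.s1.gen (Z1 p P)), ⁅e, u⁆ ∈ Z1 p P) ∧
      (∀ u ∈ X.s2.gen (X.s1.gen (Z1 p P)), u ^ p = 1) ∧
      (Z1 p P).relIndex (X.s2.gen (X.s1.gen (Z1 p P))) ≤ p ^ 3 := by
  obtain ⟨hV, hVE, hVp, hVz, hZV⟩ := X.s1.genZ_facts hP X.n1 X.i1
  have hVE2 : X.s1.gen (Z1 p P) ≤ X.E2 := (h.le_D hP hsr).trans inf_le_right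
  let U0 : Subgroup P :=
    { carrier := {y | y ∈ X.E2 ∧ (∀ e ∈ X.E2, ⁅e, y⁆ ∈ Z1 p P) ∧ y ^ p = 1}
      one_mem' := ⟨one_mem _, fun e _ => by rw [commutatorElement_one_right]; exact one_mem _, one_pow _⟩
      mul_mem' := fun {y w} hy hw => ⟨mul_mem hy.1 hw.1, fun e he => by
          rw [comm_mul_right' (hw.2.1 e he).1]
          exact mul_mem (hy.2.1 e he) (hw.2.1 e he), by
          have hc := hy.2.1 w hw.1
          rw [mul_pow_p hp2 (commute_of_mem_center hc.1).symm (commute_of_mem_center hc.1).symm hc.2,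
            hy.2.2, hw.2.2, mul_one]⟩
      inv_mem' := fun {y} hy => ⟨inv_mem hy.1, fun e he => by
          rw [comm_inv_right (hy.2.1 e he).1]
          exact inv_mem (hy.2.1 e he), by rw [inv_pow, hy.2.2, inv_one]⟩ }
  have hU0i : X.s2.Inv U0 := by
    intro a y hy
    refine ⟨X.s2.app_mem a hy.1, fun e he => ?_, by rw [← X.s2.app_pow a hy.1, hy.2.2, X.s2.app_one']⟩
    rw [← X.s2.app_app_inv a he, ← X.s2.app_comm a (X.s2.app_mem _ he) hy.1]
    exact h.fixed2 a _ (hy.2.1 _ (X.s2.app_mem _ he))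
  have hle : X.s2.gen (X.s1.gen (Z1 p P)) ≤ U0 := X.s2.gen_min
    (fun v hv => ⟨hVE2 hv, fun e _ => h.comm_V hP hsr e hv, hVp v hv⟩) hU0i
  have hUi := X.s2.gen_inv hVE2
  refine ⟨hUi, X.s2.gen_le hVE2, ?_, fun e he u hu => (hle hu).2.1 e he, fun u hu => (hle hu).2.2, ?_⟩
  · exact lt_of_le_of_ne (X.s2.le_gen _) fun e => h.moved2 (e.symm ▸ hUi)
  · haveI : (Z1 p P).Normal := ⟨fun z hz g => by rwa [mem_center_iff.1 hz.1 g, mul_inv_cancel_right]⟩
    exact rank_le hsr (fun a ha b hb => commutatorElement_def a b ▸ (hle hb).2.1 a (hle ha).1)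
      (fun a ha => by rw [(hle ha).2.2]; exact one_mem _)

include hp2 in
/-- No normal elementary subgroup of order `p ^ 2` centralising `V` other than `V`. -/
theorem BData.no_normal {M : Subgroup P} [hMn : M.Normal] (hMc : Nat.card M = p ^ 2)
    (hMp : ∀ a ∈ M, a ^ p = 1) (hMD : M ≤ X.D) (hne : M ≠ X.s1.gen (Z1 p P)) : False := by
  obtain ⟨hV, hVE, hVp, hVz, hZV⟩ := X.s1.genZ_facts hP X.n1 X.i1
  obtain ⟨-, -, -, -, hirr⟩ := X.gen_facts hP hsr h.cardZ h.moved h.phi
  set V := X.s1.gen (Z1 p P)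
  have hMb : M ≠ ⊥ := fun e => by
    rw [e, Subgroup.card_bot] at hMc
    exact (Nat.one_lt_pow two_ne_zero hp.out.one_lt).ne hMc
  have hZM : Z1 p P ≤ M := Z1_le_of_normal hP h.cardZ hMb
  haveI : (Z1 p P).Normal := ⟨fun z hz g => by rwa [mem_center_iff.1 hz.1 g, mul_inv_cancel_right]⟩
  have hi : (Z1 p P).relIndex M = p := by
    have := card_mul_relIndex hZM
    rw [h.cardZ, hMc, sq] at this
    exact Nat.eq_of_mul_eq_mul_left hp.out.pos this
  have hMcomm : ∀ a ∈ M, ∀ b ∈ M, a * b = b * a := by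
    haveI := IsPGroup.isMulCommutative_of_card_eq_prime_sq hMc
    exact fun a ha b hb => setLike_mul_comm ha hb
  set S : Set P := (V : Set P) ∪ (M : Set P) with hS
  have hSc : ∀ a ∈ S, ∀ b ∈ S, a * b = b * a := by
    rintro a (ha | ha) b (hb | hb)
    · exact hVz b hb a (hVE ha)
    · exact (hVz a ha b (hMD hb).1).symm
    · exact hVz b hb a (hMD ha).1
    · exact hMcomm a ha b hb
  have hSp : ∀ a ∈ S, a ^ p = 1 := by
    rintro a (ha | ha)
    exacts [hVp a ha, hMp a ha]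
  set K := closure S with hK
  have hVK : V ≤ K := fun a ha => subset_closure (Or.inl ha)
  have hnot : ¬ M ≤ V := fun hle => hne (Subgroup.eq_of_le_of_card_ge hle (h.cardV.trans hMc.symm).le)
  have hlt : V < K := lt_of_le_of_ne hVK fun e => hnot (e ▸ fun a ha => subset_closure (Or.inr ha))
  have hKc : Nat.card K = p ^ 3 := le_antisymm (card_elem_le hsr (closure_comm hSc) (closure_pow hSc hSp))
    (by
      have := mul_card_le_of_lt hP hlt
      rwa [h.cardV, ← pow_succ'] at this)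
  have hcomm : ∀ g : P, ∀ k ∈ K, ⁅g, k⁆ ∈ Z1 p P := by
    intro g k hk
    refine closure_induction (p := fun k _ => ⁅g, k⁆ ∈ Z1 p P) (fun a ha => ?_)
      (by rw [commutatorElement_one_right]; exact one_mem _)
      (fun a b _ _ ha hb => by rw [comm_mul_right' hb.1]; exact mul_mem ha hb)
      (fun a _ ha => by rw [comm_inv_right ha.1]; exact inv_mem ha) hk
    rcases ha with ha | ha
    · exact h.comm_V hP hsr g ha
    · exact commutatorElement_def g a ▸ comm_mem_of_relIndex hP hZM hi g ha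
  have hKE : K ≤ X.E1 := (closure_le _).2 (by
    rintro a (ha | ha)
    exacts [hVE ha, (hMD ha).1])
  obtain ⟨-, hor⟩ := lemmaA X.s1 hP hp2 hsr hV hVE h.cardV hirr hVz hVp hKE hVK hKc (closure_comm hSc)
    (closure_pow hSc hSp) fun e _ k hk => hZV (hcomm e k hk)
  rcases hor with hall | hge
  · obtain ⟨x, -, hx1⟩ := X.exists_out2
    have := X.card_le_of_small (K := K) (C := Z1 p P) (fun k hk y hy => hall y hy k hk)
      (closure_pow hSc hSp) hx1 h.cardZ Z1_le_center (fun k hk => hcomm x k hk)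
    rw [hKc, h.cardZ] at this
    nlinarith [hp.out.one_lt, pow_pos hp.out.pos 2]
  · have : V ≤ Z1 p P := hge.trans ((closure_le _).2 (by
      rintro _ ⟨e, -, k, hk, rfl⟩; exact hcomm e k hk))
    exact h.moved ((le_antisymm this hZV) ▸ hV)

include hp2 in
/-- The hull is abelian. -/
theorem BData.hull_comm : ∀ a ∈ X.s2.gen (X.s1.gen (Z1 p P)), ∀ b ∈ X.s2.gen (X.s1.gen (Z1 p P)),
    a * b = b * a := by
  obtain ⟨hV, hVE, hVp, hVz, hZV⟩ := X.s1.genZ_facts hP X.n1 X.i1
  obtain ⟨hUi, hUE, hVU, hUc, hUp, hUrank⟩ := h.hull_facts hP hp2 hsr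
  have hVD := h.le_D hP hsr
  set V := X.s1.gen (Z1 p P)
  set U := X.s2.gen V
  by_contra hab
  haveI := X.D_normal
  haveI := X.s1.inv_normal hV hVE
  haveI := X.s2.inv_normal hUi hUE
  haveI : (Z1 p P).Normal := ⟨fun z hz g => by rwa [mem_center_iff.1 hz.1 g, mul_inv_cancel_right]⟩
  have hZU : Z1 p P ≤ U := hZV.trans hVU.le
  -- the centre of the hull and its centraliser
  set C := X.E2 ⊓ centralizer (U : Set P) with hCdef
  have hCi : X.s2.Inv C := X.s2.inv_cent hUi hUE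
  haveI hCn : C.Normal := X.s2.inv_normal hCi inf_le_left
  have hCmem : ∀ {c : P}, c ∈ C → ∀ u ∈ U, Commute u c := fun hc u hu => mem_centralizer_iff.1 hc.2 u hu
  obtain ⟨v, hv, hvZ, hvU⟩ : ∃ v ∈ V, v ∉ Z1 p P ∧ ∃ u ∈ U, ⁅v, u⁆ ≠ 1 := by
    by_contra hh
    push Not at hh
    apply hab
    -- then `V` is central in `U`
    have hW : X.s2.Inv (U ⊓ centralizer (U : Set P)) := by
      intro a w hw
      exact ⟨hUi a w hw.1, (X.s2.inv_cent hUi hUE a w ⟨hUE hw.1, hw.2⟩).2⟩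
    have hVW : V ≤ U ⊓ centralizer (U : Set P) := fun w hw => ⟨hVU.le hw, mem_centralizer_iff.2 fun u hu => by
      by_cases hwZ : w ∈ Z1 p P
      · exact mem_center_iff.1 hwZ.1 u
      · exact (commutatorElement_eq_one_iff_mul_comm.1 (hh w hw hwZ u hu)).symm⟩
    have hle : U ≤ U ⊓ centralizer (U : Set P) := X.s2.gen_min hVW hW
    exact fun a ha b hb => mem_centralizer_iff.1 (hle hb).2 a ha
  obtain ⟨u, hu, hvu⟩ := hvU
  have hCV : C ≤ X.D := by
    intro c hc
    refine ⟨?_, hc.1⟩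
    by_contra hc1
    apply hvZ
    refine ⟨mem_center_iff.2 fun g => ?_, hVp v hv⟩
    obtain ⟨m, hm, k, rfl⟩ := X.exists_eq_mul hc1 g
    exact ((show Commute m v from hVz v hv m hm).mul_left ((hCmem hc v (hVU.le hv)).symm.pow_left k)).eq
  -- no large elementary normal part
  have hsmall : ∀ N : Subgroup P, N.Normal → N ≤ C → (∀ a ∈ N, a ^ p = 1) → p ^ 2 ≤ Nat.card N → False := by
    intro N hN hNC hNp hNc
    obtain ⟨M, hMn, hMN, hMc⟩ := PGroups.exists_normal_le_card hP N hNc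
    refine h.no_normal hP hp2 hsr (M := M) hMc (fun a ha => hNp a (hMN ha)) (hMN.trans (hNC.trans hCV))
      fun e => ?_
    exact hvu (commutatorElement_eq_one_iff_commute.2 (hCmem (hNC (hMN (e.symm ▸ hv))) u hu).symm)
  -- bilinearity
  have hbl : ∀ {a b c : P}, a ∈ X.E2 → b ∈ U → c ∈ U → ⁅a, b * c⁆ = ⁅a, b⁆ * ⁅a, c⁆ :=
    fun {a b c} ha _ hc => comm_mul_right' (hUc a ha c hc).1
  have hbl' : ∀ {a b c : P}, a ∈ X.E2 → b ∈ X.E2 → c ∈ U → ⁅a * b, c⁆ = ⁅b, c⁆ * ⁅a, c⁆ := by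
    intro a b c ha hb hc
    rw [show ⁅a * b, c⁆ = (a * ⁅b, c⁆ * a⁻¹) * ⁅a, c⁆ by simp only [commutatorElement_def]; group,
      ← (commute_of_mem_center (hUc b hb c hc).1 : Commute ⁅b, c⁆ a).eq, mul_inv_cancel_right]
  have hpow : ∀ {a b : P}, a ∈ X.E2 → b ∈ U → ∀ i : ℕ, ⁅a, b ^ i⁆ = ⁅a, b⁆ ^ i := by
    intro a b ha hb i
    induction i with
    | zero => rw [pow_zero, pow_zero, commutatorElement_one_right]
    | succ i ih => rw [pow_succ, hbl ha (U.pow_mem hb i) hb, ih, ← pow_succ]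
  have hz : ∀ {a b : P}, a ∈ X.E2 → b ∈ U → ∃ i : ℕ, ⁅a, b⁆ = ⁅v, u⁆ ^ i := fun ha hb =>
    Side.exists_pow_of_prime h.cardZ (hUc v (hUE (hVU.le hv)) u hu) hvu (hUc _ ha _ hb)
  have hpowl : ∀ {a b : P}, a ∈ X.E2 → b ∈ U → ∀ i : ℕ, ⁅a ^ i, b⁆ = ⁅a, b⁆ ^ i := by
    intro a b ha hb i
    induction i with
    | zero => rw [pow_zero, pow_zero, commutatorElement_one_left]
    | succ i ih => rw [pow_succ, hbl' (X.E2.pow_mem ha i) ha hb, ih, ← pow_succ']
  have hvE : v ∈ X.E2 := hUE (hVU.le hv)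
  have huE : u ∈ X.E2 := hUE hu
  -- reduction by the two generators
  have hred : ∀ a ∈ X.E2, ∃ i j : ℕ, ⁅a * (v ^ i * u ^ j)⁻¹, u⁆ = 1 ∧ ⁅a * (v ^ i * u ^ j)⁻¹, v⁆ = 1 := by
    intro a ha
    obtain ⟨i, hi⟩ := hz ha hu
    obtain ⟨j, hj⟩ := Side.exists_pow_of_prime h.cardZ (hUc u huE v (hVU.le hv))
      (fun e => hvu (by rw [← commutatorElement_inv, e, inv_one])) (hUc a ha v (hVU.le hv))
    refine ⟨i, j, ?_⟩
    have hw : v ^ i * u ^ j ∈ X.E2 := mul_mem (pow_mem hvE i) (pow_mem huE j)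
    have key : ∀ b ∈ U, ⁅a * (v ^ i * u ^ j)⁻¹, b⁆ = (⁅u, b⁆ ^ j * ⁅v, b⁆ ^ i)⁻¹ * ⁅a, b⁆ := by
      intro b hb
      rw [hbl' ha (inv_mem hw) hb, comm_inv_left (hUc _ hw b hb).1,
        hbl' (pow_mem hvE i) (pow_mem huE j) hb, hpowl hvE hb, hpowl huE hb]
    rw [key u hu, key v (hVU.le hv), commutatorElement_self, commutatorElement_self, one_pow, one_pow,
      one_mul, mul_one, hi, hj]
    exact ⟨inv_mul_cancel _, inv_mul_cancel _⟩
  -- the centre of `U` is small
  have hcenU : ∀ w ∈ U, (∀ b ∈ U, Commute b w) → w ∈ Z1 p P := by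
    intro w hw hwc
    by_contra hwZ
    set N := U ⊓ C with hN
    have hNn : N.Normal := Subgroup.normal_inf_normal U C
    have hwN : w ∈ N := ⟨hw, hUE hw, mem_centralizer_iff.2 hwc⟩
    have hZN : Z1 p P ≤ N := fun z hz' => ⟨hZU hz', hUE (hZU hz'),
      mem_centralizer_iff.2 fun b _ => mem_center_iff.1 hz'.1 b⟩
    refine hsmall N hNn inf_le_right (fun b hb => hUp b hb.1) ?_
    have := mul_card_le_of_lt hP (lt_of_le_of_ne hZN fun e => hwZ (e.symm ▸ hwN))
    rwa [h.cardZ, ← sq] at this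
  have hUgen : ∀ a ∈ U, ⁅a, u⁆ = 1 → ⁅a, v⁆ = 1 → a ∈ Z1 p P := by
    intro a ha hau hav
    by_contra haZ
    obtain ⟨b, hb, hab'⟩ : ∃ b ∈ U, ¬ Commute b a := by
      by_contra hh
      push Not at hh
      exact haZ (hcenU a ha hh)
    obtain ⟨i, j, hbu, hbv⟩ := hred b (hUE hb)
    set b' := b * (v ^ i * u ^ j)⁻¹
    have hb' : b' ∈ U := mul_mem hb (inv_mem (mul_mem (pow_mem (hVU.le hv) i) (pow_mem hu j)))
    have cau : Commute a u := commutatorElement_eq_one_iff_commute.1 hau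
    have cav : Commute a v := commutatorElement_eq_one_iff_commute.1 hav
    have cbu : Commute b' u := commutatorElement_eq_one_iff_commute.1 hbu
    have cbv : Commute b' v := commutatorElement_eq_one_iff_commute.1 hbv
    have hab2 : ¬ Commute b' a := fun hc => hab' (by
      have := hc.mul_left (((cav.symm.pow_left i)).mul_left (cau.symm.pow_left j))
      rwa [inv_mul_cancel_right] at this)
    set U1 := Z1 p P ⊔ zpowers v with hU1
    set U2 := U1 ⊔ zpowers u with hU2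
    set U3 := U2 ⊔ zpowers a with hU3
    have hcz : ∀ g : P, Z1 p P ≤ centralizer ({g} : Set P) := fun g z hz' =>
      mem_centralizer_singleton_iff.2 (mem_center_iff.1 hz'.1 g).symm
    have l1 : Z1 p P < U1 := lt_of_le_of_ne le_sup_left fun e =>
      hvZ (e.symm ▸ le_sup_right (a := Z1 p P) (mem_zpowers v))
    have l2 : U1 < U2 := lt_of_le_of_ne le_sup_left fun e => by
      have hle : U1 ≤ centralizer ({v} : Set P) := sup_le (hcz v)
        (zpowers_le.2 (mem_centralizer_singleton_iff.2 rfl))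
      have := mem_centralizer_singleton_iff.1 (hle (show u ∈ U1 from e ▸ (le_sup_right (a := Z1 p P ⊔ zpowers v) (mem_zpowers u))))
      exact hvu (commutatorElement_eq_one_iff_mul_comm.2 this.symm)
    have l3 : U2 < U3 := lt_of_le_of_ne le_sup_left fun e => by
      have hle : U2 ≤ centralizer ({b'} : Set P) := sup_le (sup_le (hcz b')
        (zpowers_le.2 (mem_centralizer_singleton_iff.2 cbv.symm.eq)))
        (zpowers_le.2 (mem_centralizer_singleton_iff.2 cbu.symm.eq))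
      exact hab2 (mem_centralizer_singleton_iff.1 (hle (e.symm ▸ le_sup_right (a := U2) (mem_zpowers a)))).symm
    have hU3U : U3 ≤ U := sup_le (sup_le (sup_le hZU (zpowers_le.2 (hVU.le hv))) (zpowers_le.2 hu))
      (zpowers_le.2 ha)
    have l4 : U3 < U := lt_of_le_of_ne hU3U fun e => by
      have hle : U3 ≤ centralizer ({a} : Set P) := sup_le (sup_le (sup_le (hcz a)
        (zpowers_le.2 (mem_centralizer_singleton_iff.2 cav.symm.eq)))
        (zpowers_le.2 (mem_centralizer_singleton_iff.2 cau.symm.eq)))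
        (zpowers_le.2 (mem_centralizer_singleton_iff.2 rfl))
      exact hab2 (mem_centralizer_singleton_iff.1 (hle (e.symm ▸ hb')))
    have m1 := mul_card_le_of_lt hP l1
    have m2 := mul_card_le_of_lt hP l2
    have m3 := mul_card_le_of_lt hP l3
    have m4 := mul_card_le_of_lt hP l4
    have m5 := card_mul_relIndex hZU
    rw [h.cardZ] at m1 m5
    have m6 : Nat.card U ≤ p * p ^ 3 := m5 ▸ Nat.mul_le_mul_left p hUrank
    have hb5 : p * (p * (p * (p * p))) ≤ Nat.card U :=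
      le_trans (Nat.mul_le_mul_left p (le_trans (Nat.mul_le_mul_left p (le_trans (Nat.mul_le_mul_left p m1) m2))
        m3)) m4
    have := hp.out.one_lt
    have := pow_pos hp.out.pos 4
    nlinarith
  have hdec : ∀ a ∈ X.E2, ∃ c ∈ C, ∃ i j : ℕ, a = c * (v ^ i * u ^ j) := by
    intro a ha
    obtain ⟨i, j, hu', hv'⟩ := hred a ha
    have hw : v ^ i * u ^ j ∈ X.E2 := mul_mem (pow_mem hvE i) (pow_mem huE j)
    refine ⟨a * (v ^ i * u ^ j)⁻¹, ⟨X.E2.mul_mem ha (X.E2.inv_mem hw), mem_centralizer_iff.2 fun b hb => ?_⟩, i, j,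
      by group⟩
    obtain ⟨k, l, hbu, hbv⟩ := hred b (hUE hb)
    have hmem : b * (v ^ k * u ^ l)⁻¹ ∈ Z1 p P := hUgen _
      (mul_mem hb (inv_mem (mul_mem (pow_mem (hVU.le hv) k) (pow_mem hu l)))) hbu hbv
    have hc : Commute b (a * (v ^ i * u ^ j)⁻¹) := by
      have h1 : Commute (a * (v ^ i * u ^ j)⁻¹) (v ^ k * u ^ l) :=
        (((commutatorElement_eq_one_iff_commute.1 hv').pow_right k)).mul_right
          ((commutatorElement_eq_one_iff_commute.1 hu').pow_right l)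
      have := (commute_of_mem_center (y := a * (v ^ i * u ^ j)⁻¹) hmem.1).mul_left h1.symm
      rwa [inv_mul_cancel_right] at this
    exact hc.eq
  have hVC : ∀ i : ℕ, v ^ i ∈ C → v ^ i = 1 := by
    intro i hi
    have h1 : ⁅v, u⁆ ^ i = 1 := by
      rw [← hpowl hvE hu]
      exact commutatorElement_eq_one_iff_commute.2 (hCmem hi u hu).symm
    have hd : p ∣ i := (orderOf_eq_prime (hUc v hvE u hu).2 hvu) ▸ orderOf_dvd_of_pow_eq_one h1
    obtain ⟨t, rfl⟩ := hd
    rw [pow_mul, hVp v hv, one_pow]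
  have hvC : v ∉ C := fun hh => hvu (commutatorElement_eq_one_iff_commute.2 (hCmem hh u hu).symm)
  have hDdec : ∀ d ∈ X.D, ∃ c ∈ C, ∃ i : ℕ, d = c * v ^ i := by
    intro d hd
    obtain ⟨c, hc, i, j, rfl⟩ := hdec d hd.2
    have h1 : ⁅c * (v ^ i * u ^ j), v⁆ = 1 :=
      commutatorElement_eq_one_iff_mul_comm.2 (hVz v hv _ hd.1)
    rw [hbl' hc.1 (mul_mem (pow_mem hvE i) (pow_mem huE j)) (hVU.le hv),
      commutatorElement_eq_one_iff_commute.2 (hCmem hc v (hVU.le hv)).symm, mul_one,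
      hbl' (pow_mem hvE i) (pow_mem huE j) (hVU.le hv), hpowl hvE (hVU.le hv), hpowl huE (hVU.le hv),
      commutatorElement_self, one_pow, mul_one] at h1
    have hne : ⁅u, v⁆ ≠ 1 := fun e => hvu (by rw [← commutatorElement_inv, e, inv_one])
    have hd' : p ∣ j := (orderOf_eq_prime (hUc u huE v (hVU.le hv)).2 hne) ▸ orderOf_dvd_of_pow_eq_one h1
    obtain ⟨t, rfl⟩ := hd'
    exact ⟨c, hc, i, by rw [pow_mul, hUp u hu, one_pow, mul_one]⟩
  obtain ⟨e, he, he2⟩ := X.exists_out1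
  haveI := X.n1
  -- the first subgroup is abelian
  set q := QuotientGroup.mk' C
  have hqab : ∀ a ∈ X.E1, ∀ b ∈ X.E1, Commute (q a) (q b) := by
    have hgen : ∀ a ∈ X.E1, ∃ i k : ℕ, q a = q v ^ i * q e ^ k := by
      intro a ha
      obtain ⟨m, hm, k, rfl⟩ := exists_pow_mul_relIndex X.relIndex_D1 he (fun hh => he2 hh.2) ha
      obtain ⟨c, hc, i, rfl⟩ := hDdec m hm
      exact ⟨i, k, by
        rw [map_mul, map_mul, map_pow, map_pow, show q c = 1 from (QuotientGroup.eq_one_iff c).2 hc, one_mul]⟩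
    intro a ha b hb
    obtain ⟨i, k, ha'⟩ := hgen a ha
    obtain ⟨i', k', hb'⟩ := hgen b hb
    have hc : Commute (q v) (q e) := (show Commute e v from hVz v hv e he).symm.map q
    rw [ha', hb']
    exact ((((Commute.refl (q v)).pow_pow i i').mul_right (hc.pow_pow i k'))).mul_left
      ((hc.symm.pow_pow k i').mul_right ((Commute.refl (q e)).pow_pow k k'))
  obtain ⟨-, -, -, -, hirr⟩ := X.gen_facts hP hsr h.cardZ h.moved h.phi
  have hnoC : ∀ N : Subgroup P, X.s1.Inv N → N ≤ X.E1 → N ≤ C → N = ⊥ := by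
    intro N hN hNE hNC
    by_contra hne
    haveI := X.s1.inv_normal hN hNE
    exact hvC (hNC (X.s1.gen_min (Z1_le_of_normal hP h.cardZ hne) hN hv))
  have hE1ab : ∀ a ∈ X.E1, ∀ b ∈ X.E1, a * b = b * a := by
    intro a ha b hb
    have hbot := hnoC _ (X.s1.inv_commClosure X.s1.inv_self X.s1.inv_self le_rfl le_rfl)
      ((closure_le _).2 (by
        rintro _ ⟨x, hx, y, hy, rfl⟩
        exact commutatorElement_def x y ▸ X.E1.mul_mem (X.n1.conj_mem y hy x) (X.E1.inv_mem hy)))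
      ((closure_le _).2 (by
        rintro _ ⟨x, hx, y, hy, rfl⟩
        exact (QuotientGroup.eq_one_iff _).1 (show q ⁅x, y⁆ = 1 by
          rw [map_commutatorElement, commutatorElement_eq_one_iff_commute]; exact hqab x hx y hy)))
    refine commutatorElement_eq_one_iff_mul_comm.1 (mem_bot.1 ?_)
    rw [← hbot]; exact subset_closure ⟨a, ha, b, hb, rfl⟩
  -- the powers lie in `C`
  have hpw : ∀ y ∈ X.E1, y ^ p ∈ C := by
    intro y hy
    have hyD : y ^ p ∈ X.D := by
      refine X.phi_le_D hP ?_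
      exact X.s1.pow_mem_phi hP hy
    set d := ⁅u, y⁆ with hd
    have hdD : d ∈ X.D := by rw [hd, ← commutatorElement_inv]; exact inv_mem (X.comm_mem_D hy huE)
    set z' := ⁅u, d⁆ with hz'
    have hz'Z : z' ∈ Z1 p P := by rw [hz', ← commutatorElement_inv]; exact inv_mem (hUc d hdD.2 u hu)
    have hud : u * d * u⁻¹ = z' * d := by rw [hz', commutatorElement_def]; group
    have huy : u * y * u⁻¹ = d * y := by rw [hd, commutatorElement_def]; group
    have hzc : ∀ g : P, Commute z' g := fun g => commute_of_mem_center hz'Z.1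
    have key : ∀ m : ℕ, u ^ m * y * (u ^ m)⁻¹ = z' ^ m.choose 2 * d ^ m * y := by
      intro m
      induction m with
      | zero => simp
      | succ m ih =>
        have e1 : u * z' ^ m.choose 2 * u⁻¹ = z' ^ m.choose 2 := by
          rw [((hzc u).pow_left _).symm.eq, mul_inv_cancel_right]
        calc u ^ (m + 1) * y * (u ^ (m + 1))⁻¹ = u * (u ^ m * y * (u ^ m)⁻¹) * u⁻¹ := by group
          _ = (u * z' ^ m.choose 2 * u⁻¹) * (u * d * u⁻¹) ^ m * (u * y * u⁻¹) := by
              rw [ih, conj_pow]; group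
          _ = z' ^ m.choose 2 * (z' ^ m * d ^ m) * (d * y) := by rw [e1, hud, huy, (hzc d).mul_pow]
          _ = z' ^ (m + 1).choose 2 * d ^ (m + 1) * y := by
              rw [Nat.choose_succ_succ' m 1, Nat.choose_one_right, pow_succ d, add_comm, pow_add]; group
    have hdp : d ^ p = 1 := by
      have h1 := key p
      obtain ⟨t, ht⟩ := hp.out.dvd_choose_self two_ne_zero (lt_of_le_of_ne hp.out.two_le (Ne.symm hp2))
      rw [hUp u hu, ht, pow_mul, hz'Z.2, one_pow, one_mul, inv_one, one_mul, mul_one] at h1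
      exact mul_eq_right.1 h1.symm
    have hcu : ⁅u, y ^ p⁆ = 1 := by
      rw [commutatorElement_eq_one_iff_commute]
      show u * y ^ p = y ^ p * u
      rw [← mul_inv_eq_iff_eq_mul, ← conj_pow, huy,
        (show Commute d y from hE1ab d hdD.1 y hy).mul_pow, hdp, one_mul]
    obtain ⟨c, hc, i, hci⟩ := hDdec _ hyD
    have h1 : ⁅u, v ^ i⁆ = 1 := by
      rw [hci, show ⁅u, c * v ^ i⁆ = ⁅u, c⁆ * (c * ⁅u, v ^ i⁆ * c⁻¹) by
          simp only [commutatorElement_def]; group,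
        commutatorElement_eq_one_iff_commute.2 (hCmem hc u hu), one_mul, mul_inv_eq_one] at hcu
      exact mul_eq_left.1 hcu
    rw [hpow huE (hVU.le hv)] at h1
    have hne : ⁅u, v⁆ ≠ 1 := fun e => hvu (by rw [← commutatorElement_inv, e, inv_one])
    have hd' : p ∣ i := (orderOf_eq_prime (hUc u huE v (hVU.le hv)).2 hne) ▸ orderOf_dvd_of_pow_eq_one h1
    obtain ⟨t, rfl⟩ := hd'
    rw [hci, pow_mul, hVp v hv, one_pow, mul_one]
    exact hc
  have hphiC : X.s1.phi ≤ C := by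
    intro w hw
    obtain ⟨hwE, hwm⟩ := X.s1.mem_phi.1 hw
    refine mem_subgroupOf.1 (PGroups.frattini_le_of_pow_commutator (p := p) (C.subgroupOf X.E1) (fun y => ?_)
      ?_ hwm)
    · exact mem_subgroupOf.2 (by simpa using hpw _ y.2)
    · rw [_root_.commutator_def, Subgroup.commutator_le]
      intro a _ b _
      rw [show ⁅a, b⁆ = 1 from commutatorElement_eq_one_iff_mul_comm.2 (Subtype.ext (hE1ab _ a.2 _ b.2))]
      exact one_mem _
  exact h.phi (hnoC _ X.s1.inv_phi X.s1.phi_le hphiC)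

end Cfsg.Agent.Lib.TwoEssential
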