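import Cfsg.Agent.Lib.TwoEssential.Outcome

/-!
# Elementary subgroups above the conjugates of the centre

A bound on elementary subgroups centralised by one side and the invariance of elementary subgroups of
order `p ^ 3` above a natural module.
-/

set_option autoImplicit false
set_option linter.style.haveILetI false

universe u

namespace Cfsg.Agent.Lib.TwoEssential

open Subgroup
open scoped commutatorElement

variable {p : ℕ} [hp : Fact p.Prime] {P : Type u} [Group P] [Finite P]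

/-- An element of order `p` and its multiples. -/
theorem pow_val_add {G : Type*} [Group G] {c : G} (hc : c ^ p = 1) (a b : ZMod p) :
    c ^ (a + b).val = c ^ a.val * c ^ b.val := by
  rw [← pow_add]
  refine pow_eq_pow_iff_modEq.2 (Nat.ModEq.of_dvd (orderOf_dvd_of_pow_eq_one hc) ?_)
  rw [← ZMod.natCast_eq_natCast_iff]
  push_cast
  simp

/-- Powers with exponents inverse modulo `p`. -/
theorem pow_val_inv {G : Type*} [Group G] {c : G} (hc : c ^ p = 1) {a : ZMod p} (ha : a ≠ 0) (b : ZMod p) :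
    (c ^ a.val) ^ (a⁻¹ * b).val = c ^ b.val := by
  rw [← pow_mul]
  refine pow_eq_pow_iff_modEq.2 (Nat.ModEq.of_dvd (orderOf_dvd_of_pow_eq_one hc) ?_)
  rw [← ZMod.natCast_eq_natCast_iff]
  push_cast
  simp [← mul_assoc, ha]

omit hp in
/-- The commutative subgroup generated by pairwise commuting sets. -/
theorem closure_comm {G : Type*} [Group G] {S : Set G} (h : ∀ a ∈ S, ∀ b ∈ S, a * b = b * a) :
    ∀ a ∈ closure S, ∀ b ∈ closure S, a * b = b * a := by
  have h1 : closure S ≤ centralizer S := (closure_le _).2 fun a ha =>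
    mem_centralizer_iff.2 fun b hb => h b hb a ha
  intro a ha b hb
  have h2 : closure S ≤ centralizer ({a} : Set G) := (closure_le _).2 fun c hc =>
    mem_centralizer_iff.2 fun a' ha' => by
      rw [Set.mem_singleton_iff.1 ha']
      exact (mem_centralizer_iff.1 (h1 ha) c hc).symm
  exact mem_centralizer_iff.1 (h2 hb) a rfl

omit hp in
/-- The exponent of a subgroup generated by commuting elements of order dividing `p`. -/
theorem closure_pow {G : Type*} [Group G] {S : Set G} (h : ∀ a ∈ S, ∀ b ∈ S, a * b = b * a)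
    (hpw : ∀ a ∈ S, a ^ p = 1) : ∀ a ∈ closure S, a ^ p = 1 := fun a ha =>
  closure_induction (p := fun a _ => a ^ p = 1) hpw (one_pow _)
    (fun x y hx hy hxp hyp => by
      rw [(show Commute x y from closure_comm h x hx y hy).mul_pow, hxp, hyp, mul_one])
    (fun x _ hxp => by rw [inv_pow, hxp, inv_one]) ha

/-- An elementary subgroup has order at most `p ^ 3`. -/
theorem card_elem_le (hsr : SectionalPRankLE p 3 P) {K : Subgroup P} (hc : ∀ a ∈ K, ∀ b ∈ K, a * b = b * a)
    (hpw : ∀ a ∈ K, a ^ p = 1) : Nat.card K ≤ p ^ 3 := by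
  have := rank_le hsr (H := K) (K := (⊥ : Subgroup P))
    (fun a ha b hb => by rw [mem_bot, hc a ha b hb, mul_inv_cancel_right, mul_inv_cancel])
    (fun a ha => mem_bot.2 (hpw a ha))
  rwa [relIndex_bot_left] at this

/-- A subgroup strictly inside has index at least `p`. -/
theorem mul_card_le_of_lt (hP : IsPGroup p P) {A B : Subgroup P} (h : A < B) : p * Nat.card A ≤ Nat.card B := by
  obtain ⟨i, hi⟩ := IsPGroup.iff_card.1 (hP.to_subgroup A)
  obtain ⟨j, hj⟩ := IsPGroup.iff_card.1 (hP.to_subgroup B)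
  have hij : i < j := by
    by_contra hh
    exact h.ne (Subgroup.eq_of_le_of_card_ge h.le (by
      rw [hi, hj]; exact Nat.pow_le_pow_right hp.out.pos (not_lt.1 hh)))
  rw [hi, hj, ← pow_succ']
  exact Nat.pow_le_pow_right hp.out.pos hij

omit hp in
/-- Commutators into a central subgroup. -/
theorem comm_inv_left {G : Type*} [Group G] {x y : G} (h : ⁅x, y⁆ ∈ center G) : ⁅x⁻¹, y⁆ = ⁅x, y⁆⁻¹ := by
  have hc : x⁻¹ * ⁅x, y⁆⁻¹ = ⁅x, y⁆⁻¹ * x⁻¹ := mem_center_iff.1 (inv_mem h) _
  calc ⁅x⁻¹, y⁆ = x⁻¹ * ⁅x, y⁆⁻¹ * x := by simp only [commutatorElement_def]; group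
    _ = ⁅x, y⁆⁻¹ := by rw [hc, inv_mul_cancel_right]

namespace Pair

variable (X : Pair p P)

/-- An elementary subgroup centralised by the first side, with commutators with an outer element in a
central subgroup of order `p`. -/
theorem card_le_of_small {K C : Subgroup P} (hK1 : ∀ k ∈ K, ∀ y ∈ X.E1, y * k = k * y)
    (hpw : ∀ k ∈ K, k ^ p = 1) {x : P} (hx : x ∉ X.E1) (hC : Nat.card C = p) (hCc : C ≤ center P)
    (hcomm : ∀ k ∈ K, ⁅x, k⁆ ∈ C) : Nat.card K ≤ Nat.card (Z1 p P) * p := by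
  classical
  have hcen : ∀ k ∈ K, ⁅x, k⁆ = 1 → k ∈ Z1 p P := fun k hk hxk =>
    ⟨mem_center_iff.2 fun g => by
      obtain ⟨m, hm, i, rfl⟩ := X.exists_eq_mul hx g
      have h1 : Commute m k := hK1 k hk m hm
      exact (h1.mul_left ((commutatorElement_eq_one_iff_commute.1 hxk).pow_left i)).eq, hpw k hk⟩
  by_cases hall : ∀ k ∈ K, ⁅x, k⁆ = 1
  · exact (Subgroup.card_le_of_le fun k hk => hcen k hk (hall k hk)).trans
      (Nat.le_mul_of_pos_right _ hp.out.pos)
  push Not at hall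
  obtain ⟨k₁, hk₁, hne⟩ := hall
  have hdec : ∀ k ∈ K, ∃ i : ℕ, k * (k₁ ^ i)⁻¹ ∈ Z1 p P := by
    intro k hk
    obtain ⟨i, hi⟩ := Side.exists_pow_of_prime hC (hcomm k₁ hk₁) hne (hcomm k hk)
    refine ⟨i, hcen _ (K.mul_mem hk (K.inv_mem (K.pow_mem hk₁ i))) ?_⟩
    have h1 : ⁅x, k₁ ^ i⁆ = ⁅x, k₁⁆ ^ i := by
      have : ⁅k₁, x⁆ ∈ center P := by rw [← commutatorElement_inv]; exact inv_mem (hCc (hcomm _ hk₁))
      rw [← commutatorElement_inv, comm_pow_left this, ← inv_pow, commutatorElement_inv]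
    have h2 : ⁅x, k₁ ^ i⁆ ∈ center P := h1 ▸ pow_mem (hCc (hcomm _ hk₁)) i
    rw [comm_mul_right' (by rw [comm_inv_right h2]; exact inv_mem h2), comm_inv_right h2, h1, hi,
      mul_inv_cancel]
  choose i hi using hdec
  let f : K → Z1 p P × Subgroup.zpowers k₁ := fun k =>
    (⟨_, hi k k.2⟩, ⟨k₁ ^ i k k.2, Subgroup.pow_mem _ (mem_zpowers _) _⟩)
  have hf : Function.Injective f := by
    intro a b h
    simp only [f, Prod.mk.injEq, Subtype.mk.injEq] at h
    refine Subtype.ext ?_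
    have := h.1
    rw [h.2] at this
    exact mul_right_cancel this
  have hko : Nat.card (Subgroup.zpowers k₁) ≤ p := by
    rw [Nat.card_zpowers]; exact Nat.le_of_dvd hp.out.pos (orderOf_dvd_of_pow_eq_one (hpw k₁ hk₁))
  calc Nat.card K ≤ Nat.card (Z1 p P × Subgroup.zpowers k₁) := Nat.card_le_card_of_injective f hf
    _ ≤ Nat.card (Z1 p P) * p := by rw [Nat.card_prod]; exact Nat.mul_le_mul_left _ hko

end Pair

variable {E : Subgroup P} {B : Type u} [Group B] {bact : B →* MulAut P}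

/-- An elementary subgroup of order `p ^ 3` above an irreducible central subgroup of order `p ^ 2`. -/
theorem lemmaA (s : Side p P E B bact) (hP : IsPGroup p P) (hp2 : p ≠ 2) (hsr : SectionalPRankLE p 3 P)
    {V K : Subgroup P} (hV : s.Inv V) (hVE : V ≤ E) (hVc : Nat.card V = p ^ 2)
    (hirr : ∀ M : Subgroup P, s.Inv M → M ≤ V → M = ⊥ ∨ M = V)
    (hVz : ∀ v ∈ V, ∀ e ∈ E, e * v = v * e) (hVp : ∀ v ∈ V, v ^ p = 1) (hKE : K ≤ E) (hVK : V ≤ K)
    (hKcard : Nat.card K = p ^ 3) (hKc : ∀ a ∈ K, ∀ b ∈ K, a * b = b * a) (hKp : ∀ a ∈ K, a ^ p = 1)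
    (hKV : ∀ e ∈ E, ∀ k ∈ K, ⁅e, k⁆ ∈ V) :
    s.Inv K ∧ ((∀ e ∈ E, ∀ k ∈ K, e * k = k * e) ∨
      V ≤ closure {c | ∃ e ∈ E, ∃ k ∈ K, ⁅e, k⁆ = c}) := by
  classical
  have hcV : ∀ {v : P}, v ∈ V → ∀ {e : P}, e ∈ E → Commute e v := fun hv _ he => hVz _ hv _ he
  haveI := s.inv_normal hV hVE
  set q := QuotientGroup.mk' V
  -- the elements of exponent `p` with commutators in `V`
  have hU0mul : ∀ {y w : P}, y ∈ E → w ∈ E → (∀ e ∈ E, ⁅e, y⁆ ∈ V) → y ^ p = 1 → w ^ p = 1 →
      (y * w) ^ p = 1 := by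
    intro y w hy hw hyV hyp hwp
    have hc := hyV w hw
    rw [mul_pow_p hp2 (hcV hc hy) (hcV hc hw) (hVp _ hc), hyp, hwp, mul_one]
  let U : Subgroup P :=
    { carrier := {y | y ∈ E ∧ (∀ e ∈ E, ⁅e, y⁆ ∈ V) ∧ y ^ p = 1}
      one_mem' := ⟨one_mem _, fun e _ => by rw [commutatorElement_one_right]; exact one_mem _, one_pow _⟩
      mul_mem' := fun {y w} hy hw => ⟨mul_mem hy.1 hw.1, fun e he => by
          rw [show ⁅e, y * w⁆ = ⁅e, y⁆ * (y * ⁅e, w⁆ * y⁻¹) by simp only [commutatorElement_def]; group]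
          refine mul_mem (hy.2.1 e he) ?_
          rw [(hcV (hw.2.1 e he) hy.1).eq, mul_inv_cancel_right]
          exact hw.2.1 e he, hU0mul hy.1 hw.1 hy.2.1 hy.2.2 hw.2.2⟩
      inv_mem' := fun {y} hy => ⟨inv_mem hy.1, fun e he => by
          rw [show ⁅e, y⁻¹⁆ = y⁻¹ * ⁅e, y⁆⁻¹ * y by simp only [commutatorElement_def]; group,
            (hcV (inv_mem (hy.2.1 e he)) (inv_mem hy.1)).eq, inv_mul_cancel_right]
          exact inv_mem (hy.2.1 e he), by rw [inv_pow, hy.2.2, inv_one]⟩ }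
  have hUi : s.Inv U := by
    intro a y hy
    refine ⟨s.app_mem a hy.1, fun e he => ?_, by rw [← s.app_pow a hy.1, hy.2.2, s.app_one']⟩
    rw [← s.app_app_inv a he, ← s.app_comm a (s.app_mem _ he) hy.1]
    exact hV a _ (hy.2.1 _ (s.app_mem _ he))
  set M := s.gen K with hMdef
  have hMi : s.Inv M := s.gen_inv hKE
  have hME : M ≤ E := s.gen_le hKE
  have hKM : K ≤ M := s.le_gen K
  have hMU : M ≤ U := s.gen_min (fun k hk => ⟨hKE hk, fun e he => hKV e he k hk, hKp k hk⟩) hUi
  have hVM : V ≤ M := hVK.trans hKM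
  have hrel : V.relIndex M ≤ p ^ 3 := rank_le hsr
    (fun a ha b hb => commutatorElement_def a b ▸ (hMU hb).2.1 a (hME ha))
    (fun a ha => by rw [(hMU ha).2.2]; exact one_mem _)
  have hM : M = K := by
    by_contra hne
    have hlt : K < M := lt_of_le_of_ne hKM (Ne.symm hne)
    have hncomm : ¬ ∀ a ∈ M, ∀ b ∈ M, a * b = b * a := fun hc => by
      have h1 := card_elem_le hsr hc fun a ha => (hMU ha).2.2
      have h2 := mul_card_le_of_lt hP hlt
      rw [hKcard] at h2
      have := hp.out.one_lt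
      have := pow_pos hp.out.pos 3
      nlinarith
    set C := closure {c | ∃ a ∈ M, ∃ b ∈ M, ⁅a, b⁆ = c} with hC
    have hCV : C = V := by
      rcases hirr C (s.inv_commClosure hMi hMi hME hME) ((closure_le _).2 (by
        rintro _ ⟨a, ha, b, hb, rfl⟩; exact (hMU hb).2.1 a (hME ha))) with h | h
      · exfalso
        refine hncomm fun a ha b hb => commutatorElement_eq_one_iff_mul_comm.1 (mem_bot.1 ?_)
        rw [← h]; exact subset_closure ⟨a, ha, b, hb, rfl⟩
      · exact h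
    -- no two commuting elements independent modulo `V`
    have hno : ∀ u ∈ M, ∀ v ∈ M, Commute u v → u ∉ V → v ∈ V ⊔ zpowers u := by
      intro u hu v hv huv huV
      by_contra hvu
      set S : Set P := (V : Set P) ∪ {u, v} with hS
      have hSc : ∀ a ∈ S, ∀ b ∈ S, a * b = b * a := by
        rintro a (ha | rfl | rfl) b (hb | rfl | rfl)
        · exact (hcV hb (hVE ha)).eq
        · exact ((hcV ha (hME hu)).symm).eq
        · exact ((hcV ha (hME hv)).symm).eq
        · exact (hcV hb (hME hu)).eq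
        · rfl
        · exact huv.eq
        · exact (hcV hb (hME hv)).eq
        · exact huv.symm.eq
        · rfl
      have hSp : ∀ a ∈ S, a ^ p = 1 := by
        rintro a (ha | rfl | rfl)
        · exact hVp a ha
        · exact (hMU hu).2.2
        · exact (hMU hv).2.2
      have h1 := card_elem_le hsr (closure_comm hSc) (closure_pow hSc hSp)
      have hlt1 : V < V ⊔ zpowers u := lt_of_le_of_ne le_sup_left fun e => huV (e ▸ le_sup_right (a := V) (mem_zpowers u))
      have hlt2 : V ⊔ zpowers u < closure S := lt_of_le_of_ne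
        (sup_le (fun a ha => subset_closure (Or.inl ha)) (zpowers_le.2 (subset_closure (Or.inr (Or.inl rfl)))))
        fun e => hvu (e ▸ subset_closure (Or.inr (Or.inr rfl)))
      have h2 := mul_card_le_of_lt hP hlt1
      have h3 := mul_card_le_of_lt hP hlt2
      rw [hVc] at h2
      have := hp.out.one_lt
      have := pow_pos hp.out.pos 2
      nlinarith
    have hVK' : V < K := lt_of_le_of_ne hVK fun e => by
      rw [e, hKcard] at hVc
      exact absurd (Nat.pow_right_injective hp.out.two_le hVc) (by norm_num)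
    obtain ⟨k₁, hk₁, hk₁V⟩ := SetLike.exists_of_lt hVK'
    obtain ⟨k₂, hk₂, hk₂K⟩ := SetLike.exists_of_lt hlt
    have hk₁M := hKM hk₁
    have hbil_r : ∀ {a b c : P}, a ∈ M → b ∈ M → c ∈ M → ⁅a, b * c⁆ = ⁅a, b⁆ * ⁅a, c⁆ := by
      intro a b c ha hb hc
      rw [show ⁅a, b * c⁆ = ⁅a, b⁆ * (b * ⁅a, c⁆ * b⁻¹) by simp only [commutatorElement_def]; group,
        (hcV ((hMU hc).2.1 a (hME ha)) (hME hb)).eq, mul_inv_cancel_right]
    have hbil_l : ∀ {a b c : P}, a ∈ M → b ∈ M → c ∈ M → ⁅a * b, c⁆ = ⁅b, c⁆ * ⁅a, c⁆ := by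
      intro a b c ha hb hc
      rw [show ⁅a * b, c⁆ = (a * ⁅b, c⁆ * a⁻¹) * ⁅a, c⁆ by simp only [commutatorElement_def]; group,
        (hcV ((hMU hc).2.1 b (hME hb)) (hME ha)).eq, mul_inv_cancel_right]
    have hpow_r : ∀ {a b : P}, a ∈ M → b ∈ M → ∀ i : ℕ, ⁅a, b ^ i⁆ = ⁅a, b⁆ ^ i := by
      intro a b ha hb i
      induction i with
      | zero => rw [pow_zero, pow_zero, commutatorElement_one_right]
      | succ i ih => rw [pow_succ, hbil_r ha (M.pow_mem hb i) hb, ih, ← pow_succ]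
    have hpow_l : ∀ {a b : P}, a ∈ M → b ∈ M → ∀ i : ℕ, ⁅a ^ i, b⁆ = ⁅a, b⁆ ^ i := by
      intro a b ha hb i
      induction i with
      | zero => rw [pow_zero, pow_zero, commutatorElement_one_left]
      | succ i ih => rw [pow_succ, hbil_l (M.pow_mem ha i) ha hb, ih, ← pow_succ']
    by_cases hgen : M ≤ K ⊔ zpowers k₂
    · -- all commutators are powers of one
      have hcyc : C ≤ zpowers ⁅k₁, k₂⁆ := by
        set Cy := zpowers ⁅k₁, k₂⁆
        have hKgen : K ≤ V ⊔ zpowers k₁ := fun k hk => hno k₁ hk₁M k (hKM hk) (hKc k₁ hk₁ k hk) hk₁V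
        have key : ∀ a ∈ M, ∃ v ∈ V, ∃ i j : ℤ, a = v * k₁ ^ i * k₂ ^ j := by
          intro a ha
          haveI : K.Normal ∨ True := Or.inr trivial
          have ha' := (hgen.trans (sup_le_sup_right hKgen _)) ha
          rw [sup_assoc] at ha'
          obtain ⟨v, hv, w, hw, rfl⟩ := Subgroup.mem_sup_of_normal_left.1 ha'
          rw [Subgroup.sup_eq_closure] at hw
          suffices ∃ v ∈ V, ∃ i j : ℤ, w = v * k₁ ^ i * k₂ ^ j by
            obtain ⟨v', hv', i, j, rfl⟩ := this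
            exact ⟨v * v', mul_mem hv hv', i, j, by group⟩
          have hswap : ∀ i j : ℤ, ∃ v ∈ V, k₂ ^ j * k₁ ^ i = v * k₁ ^ i * k₂ ^ j := fun i j =>
            ⟨⁅k₂ ^ j, k₁ ^ i⁆, (hMU (M.zpow_mem hk₁M i)).2.1 _ (hME (M.zpow_mem hk₂ j)),
              by simp only [commutatorElement_def]; group⟩
          refine closure_induction (p := fun w _ => ∃ v ∈ V, ∃ i j : ℤ, w = v * k₁ ^ i * k₂ ^ j)
            (fun y hy => ?_) ⟨1, one_mem _, 0, 0, by simp⟩ (fun y y' _ _ hy hy' => ?_) (fun y _ hy => ?_) hw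
          · rcases hy with ⟨i, rfl⟩ | ⟨j, rfl⟩
            · exact ⟨1, one_mem _, i, 0, by simp⟩
            · exact ⟨1, one_mem _, 0, j, by simp⟩
          · obtain ⟨v, hv, i, j, rfl⟩ := hy
            obtain ⟨v', hv', i', j', rfl⟩ := hy'
            obtain ⟨c, hc, e⟩ := hswap i' j
            refine ⟨v * v' * c, mul_mem (mul_mem hv hv') hc, i + i', j + j', ?_⟩
            have e1 : Commute (k₁ ^ i * k₂ ^ j) v' :=
              hcV hv' (E.mul_mem (E.zpow_mem (hKE hk₁) i) (E.zpow_mem (hME hk₂) j))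
            have e2 : Commute (k₁ ^ i) c := hcV hc (E.zpow_mem (hKE hk₁) i)
            calc v * k₁ ^ i * k₂ ^ j * (v' * k₁ ^ i' * k₂ ^ j')
                = v * ((k₁ ^ i * k₂ ^ j) * v') * k₁ ^ i' * k₂ ^ j' := by group
              _ = v * v' * (k₁ ^ i * (k₂ ^ j * k₁ ^ i')) * k₂ ^ j' := by rw [e1.eq]; group
              _ = v * v' * (k₁ ^ i * c) * k₁ ^ i' * k₂ ^ j * k₂ ^ j' := by rw [e]; group
              _ = _ := by rw [e2.eq]; group
          · obtain ⟨v, hv, i, j, rfl⟩ := hy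
            obtain ⟨c, hc, e⟩ := hswap (-i) (-j)
            have hm : c * k₁ ^ (-i) * k₂ ^ (-j) ∈ E :=
              E.mul_mem (E.mul_mem (hVE hc) (E.zpow_mem (hKE hk₁) _)) (E.zpow_mem (hME hk₂) _)
            refine ⟨v⁻¹ * c, mul_mem (inv_mem hv) hc, -i, -j, ?_⟩
            calc (v * k₁ ^ i * k₂ ^ j)⁻¹ = k₂ ^ (-j) * k₁ ^ (-i) * v⁻¹ := by group
              _ = c * k₁ ^ (-i) * k₂ ^ (-j) * v⁻¹ := by rw [e]
              _ = _ := by rw [(hcV (inv_mem hv) hm).eq]; group
        refine (closure_le _).2 ?_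
        rintro _ ⟨a, ha, b, hb, rfl⟩
        obtain ⟨v, hv, i, j, rfl⟩ := key a ha
        obtain ⟨v', hv', i', j', rfl⟩ := key b hb
        set G := Subgroup.closure ({k₁, k₂} : Set P)
        have hGM : G ≤ M := (closure_le _).2 (by rintro _ (rfl | rfl); exacts [hk₁M, hk₂])
        -- commutators inside the group generated by the two elements
        have hGc : ∀ x ∈ G, ∀ y ∈ G, ⁅x, y⁆ ∈ Cy := by
          have h0 : ∀ x ∈ ({k₁, k₂} : Set P), ∀ y ∈ G, ⁅x, y⁆ ∈ Cy := by
            intro x hx y hy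
            have hxM : x ∈ M := by rcases hx with rfl | rfl; exacts [hk₁M, hk₂]
            refine closure_induction (p := fun y hy => ⁅x, y⁆ ∈ Cy) ?_ (by rw [commutatorElement_one_right]; exact one_mem _)
              (fun y y' hy hy' h h' => by rw [hbil_r hxM (hGM hy) (hGM hy')]; exact mul_mem h h')
              (fun y hy h => ?_) hy
            · rintro y (rfl | rfl) <;> rcases hx with rfl | rfl
              · rw [commutatorElement_self]; exact one_mem _
              · rw [← commutatorElement_inv]; exact inv_mem (mem_zpowers _)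
              · exact mem_zpowers _
              · rw [commutatorElement_self]; exact one_mem _
            · have h1 := hbil_r hxM (M.inv_mem (hGM hy)) (hGM hy)
              rw [inv_mul_cancel, commutatorElement_one_right] at h1
              rw [eq_inv_of_mul_eq_one_left h1.symm]
              exact inv_mem h
          intro x hx y hy
          refine closure_induction (p := fun x hx => ⁅x, y⁆ ∈ Cy) (fun x hx => h0 x hx y hy)
            (by rw [commutatorElement_one_left]; exact one_mem _)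
            (fun x x' hx hx' h h' => by rw [hbil_l (hGM hx) (hGM hx') (hGM hy)]; exact mul_mem h' h)
            (fun x hx h => ?_) hx
          have h1 := hbil_l (M.inv_mem (hGM hx)) (hGM hx) (hGM hy)
          rw [inv_mul_cancel, commutatorElement_one_left] at h1
          rw [eq_inv_of_mul_eq_one_right h1.symm]
          exact inv_mem h
        have hx : k₁ ^ i * k₂ ^ j ∈ G := G.mul_mem (G.zpow_mem (subset_closure (Or.inl rfl)) i)
          (G.zpow_mem (subset_closure (Or.inr rfl)) j)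
        have hy : k₁ ^ i' * k₂ ^ j' ∈ G := G.mul_mem (G.zpow_mem (subset_closure (Or.inl rfl)) i')
          (G.zpow_mem (subset_closure (Or.inr rfl)) j')
        have h1 := hGc _ hx _ hy
        rw [mul_assoc v, mul_assoc v', hbil_l (hVM hv) (hGM hx) (M.mul_mem (hVM hv') (hGM hy)),
          hbil_r (hGM hx) (hVM hv') (hGM hy),
          commutatorElement_eq_one_iff_commute.2 (hcV hv' (hME (hGM hx))),
          commutatorElement_eq_one_iff_commute.2 (hcV hv (E.mul_mem (hVE hv') (hME (hGM hy)))).symm,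
          one_mul, mul_one]
        exact h1
      have h1 := Subgroup.card_le_of_le (hCV ▸ hcyc : V ≤ zpowers ⁅k₁, k₂⁆)
      rw [hVc, Nat.card_zpowers] at h1
      have h2 := Nat.le_of_dvd hp.out.pos (orderOf_dvd_of_pow_eq_one
        (hVp _ ((hMU hk₂).2.1 k₁ (hKE hk₁))))
      have := hp.out.one_lt
      nlinarith
    · obtain ⟨k₃, hk₃, hk₃n⟩ := SetLike.not_le_iff_exists.1 hgen
      set c : Fin 3 → V := ![⟨⁅k₁, k₂⁆, (hMU hk₂).2.1 _ (hKE hk₁)⟩, ⟨⁅k₁, k₃⁆, (hMU hk₃).2.1 _ (hKE hk₁)⟩,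
        ⟨⁅k₂, k₃⁆, (hMU hk₃).2.1 _ (hME hk₂)⟩]
      let f : (Fin 3 → ZMod p) → P := fun t => (c 0 : P) ^ (t 0).val * (c 1 : P) ^ (t 1).val * (c 2 : P) ^ (t 2).val
      obtain ⟨t, t', htt, hne'⟩ : ∃ t t', f t = f t' ∧ t ≠ t' := by
        by_contra hh
        push Not at hh
        let g : (Fin 3 → ZMod p) → V := fun t =>
          ⟨f t, mul_mem (mul_mem (pow_mem (c 0).2 _) (pow_mem (c 1).2 _)) (pow_mem (c 2).2 _)⟩
        have h1 := Nat.card_le_card_of_injective g fun t t' e => hh t t' (congrArg Subtype.val e)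
        rw [Nat.card_fun, Nat.card_zmod, Nat.card_eq_fintype_card, Fintype.card_fin, hVc] at h1
        exact absurd (Nat.pow_le_pow_iff_right hp.out.one_lt |>.1 h1) (by norm_num)
      have hVcomm : ∀ {a b : P}, a ∈ V → b ∈ V → Commute a b := fun ha hb => hcV hb (hVE ha)
      have hcp : ∀ i, (c i : P) ^ p = 1 := fun i => hVp _ (c i).2
      have hadd : ∀ t t', f (t + t') = f t * f t' := by
        intro t t'
        have e1 : Commute ((c 2 : P) ^ (t 2).val) ((c 0 : P) ^ (t' 0).val * (c 1 : P) ^ (t' 1).val) :=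
          hVcomm (pow_mem (c 2).2 _) (mul_mem (pow_mem (c 0).2 _) (pow_mem (c 1).2 _))
        have e2 : Commute ((c 1 : P) ^ (t 1).val) ((c 0 : P) ^ (t' 0).val) :=
          hVcomm (pow_mem (c 1).2 _) (pow_mem (c 0).2 _)
        simp only [f, Pi.add_apply, pow_val_add (hcp _)]
        rw [mul_assoc (_ * _) _ ((c 0 : P) ^ (t' 0).val * _ * _), ← mul_assoc ((c 2 : P) ^ (t 2).val),
          e1.eq]
        calc (c 0 : P) ^ (t 0).val * (c 0 : P) ^ (t' 0).val * ((c 1 : P) ^ (t 1).val * (c 1 : P) ^ (t' 1).val) *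
              ((c 2 : P) ^ (t 2).val * (c 2 : P) ^ (t' 2).val)
            = (c 0 : P) ^ (t 0).val * ((c 0 : P) ^ (t' 0).val * (c 1 : P) ^ (t 1).val) * (c 1 : P) ^ (t' 1).val *
              ((c 2 : P) ^ (t 2).val * (c 2 : P) ^ (t' 2).val) := by group
          _ = _ := by rw [← e2.eq]; group
      obtain ⟨s₀, hs₀, hs₁⟩ : ∃ t : Fin 3 → ZMod p, t ≠ 0 ∧ f t = 1 := by
        refine ⟨t - t', sub_ne_zero.2 hne', ?_⟩
        have := hadd (t - t') t'
        rw [sub_add_cancel, htt] at this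
        exact mul_eq_right.1 this.symm
      have hk₂V : ∀ i : ℕ, k₂ * k₁ ^ i ∉ K := fun i h => hk₂K (by
        have := K.mul_mem h (K.inv_mem (K.pow_mem hk₁ i))
        rwa [mul_inv_cancel_right] at this)
      have hkK : V ⊔ zpowers k₁ ≤ K := sup_le hVK (zpowers_le.2 hk₁)
      by_cases ht2 : s₀ 2 = 0
      · -- an element commuting with `k₁`
        set y := k₂ ^ (s₀ 0).val * k₃ ^ (s₀ 1).val
        have hy : y ∈ M := M.mul_mem (M.pow_mem hk₂ _) (M.pow_mem hk₃ _)
        have hc1 : Commute k₁ y := by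
          rw [← commutatorElement_eq_one_iff_commute, hbil_r hk₁M (M.pow_mem hk₂ _) (M.pow_mem hk₃ _),
            hpow_r hk₁M hk₂, hpow_r hk₁M hk₃]
          simpa [f, ht2, c] using hs₁
        have hyK := hkK (hno k₁ hk₁M y hy hc1 hk₁V)
        by_cases ht1 : s₀ 1 = 0
        · have ht0 : s₀ 0 ≠ 0 := fun h0 => hs₀ (funext fun i => by fin_cases i <;> assumption)
          apply hk₂K
          have h1 : k₂ ^ (s₀ 0).val ∈ K := by simpa [y, ht1] using hyK
          have h2 := K.pow_mem h1 ((s₀ 0)⁻¹ * 1).val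
          rwa [pow_val_inv (hMU hk₂).2.2 ht0, ZMod.val_one, pow_one] at h2
        · apply hk₃n
          have h1 : k₃ ^ (s₀ 1).val ∈ K ⊔ zpowers k₂ := by
            have := mul_mem (inv_mem (le_sup_right (a := K) (Subgroup.pow_mem _ (mem_zpowers k₂) (s₀ 0).val)))
              (le_sup_left (b := zpowers k₂) hyK)
            rwa [inv_mul_cancel_left] at this
          have h2 := pow_mem h1 ((s₀ 1)⁻¹ * 1).val
          rwa [pow_val_inv (hMU hk₃).2.2 ht1, ZMod.val_one, pow_one] at h2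
      · -- normalise the last coefficient
        set a := (s₀ 2)⁻¹ * s₀ 0 with ha
        set b := (s₀ 2)⁻¹ * s₀ 1 with hb
        have hrel' : ⁅k₁, k₂⁆ ^ a.val * ⁅k₁, k₃⁆ ^ b.val * ⁅k₂, k₃⁆ = 1 := by
          have h1 := congrArg (· ^ ((s₀ 2)⁻¹).val) hs₁
          simp only [f, one_pow] at h1
          rw [(hVcomm (mul_mem (pow_mem (c 0).2 _) (pow_mem (c 1).2 _)) (pow_mem (c 2).2 _)).mul_pow,
            (hVcomm (pow_mem (c 0).2 _) (pow_mem (c 1).2 _)).mul_pow, ← pow_mul, ← pow_mul, ← pow_mul] at h1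
          have hm : ∀ (i : Fin 3) (j : ZMod p), (c i : P) ^ (j.val * ((s₀ 2)⁻¹).val) =
              (c i : P) ^ ((s₀ 2)⁻¹ * j).val := fun i j => by
            refine pow_eq_pow_iff_modEq.2 (Nat.ModEq.of_dvd (orderOf_dvd_of_pow_eq_one (hcp i)) ?_)
            rw [← ZMod.natCast_eq_natCast_iff]
            push_cast
            simp [mul_comm]
          rw [hm, hm, hm, inv_mul_cancel₀ ht2, ZMod.val_one, pow_one] at h1
          simpa [c, ha, hb] using h1
        set u := k₂ * k₁ ^ b.val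
        set w := k₃ * k₁ ^ (-a).val
        have hu : u ∈ M := M.mul_mem hk₂ (M.pow_mem hk₁M _)
        have hw : w ∈ M := M.mul_mem hk₃ (M.pow_mem hk₁M _)
        have huw : Commute u w := by
          rw [← commutatorElement_eq_one_iff_commute, hbil_l hk₂ (M.pow_mem hk₁M _) hw,
            hbil_r (M.pow_mem hk₁M _) hk₃ (M.pow_mem hk₁M _), hbil_r hk₂ hk₃ (M.pow_mem hk₁M _),
            hpow_l hk₁M hk₃, commutatorElement_eq_one_iff_commute.2 ((Commute.refl k₁).pow_pow b.val (-a).val),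
            mul_one, hpow_r hk₂ hk₁M, ← commutatorElement_inv k₁ k₂, inv_pow]
          have e : (⁅k₁, k₂⁆ ^ (-a).val)⁻¹ = ⁅k₁, k₂⁆ ^ a.val := by
            refine inv_eq_of_mul_eq_one_right ?_
            rw [← pow_val_add (hVp _ ((hMU hk₂).2.1 _ (hKE hk₁))), neg_add_cancel, ZMod.val_zero, pow_zero]
          rw [e]
          have c1 := (hMU hk₂).2.1 k₁ (hKE hk₁)
          have c2 := (hMU hk₃).2.1 k₁ (hKE hk₁)
          have c3 := (hMU hk₃).2.1 k₂ (hME hk₂)
          rw [(hVcomm c3 (pow_mem c1 _)).eq, ← mul_assoc,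
            (hVcomm (pow_mem c2 _) (pow_mem c1 _)).eq]
          exact hrel'
        have huV : u ∉ V := fun h => hk₂V _ (hVK h)
        have hwu := hno u hu w hw huw huV
        apply hk₃n
        have hle : V ⊔ zpowers u ≤ K ⊔ zpowers k₂ := sup_le (hVK.trans le_sup_left) (zpowers_le.2
          (mul_mem (le_sup_right (a := K) (mem_zpowers k₂)) (le_sup_left (b := zpowers k₂) (K.pow_mem hk₁ _))))
        have := mul_mem (hle hwu) (inv_mem (le_sup_left (b := zpowers k₂) (K.pow_mem hk₁ (-a).val)))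
        rwa [mul_inv_cancel_right] at this
  refine ⟨hM ▸ hMi, ?_⟩
  rw [hM] at hMi
  rcases hirr _ (s.inv_commClosure s.inv_self hMi le_rfl hKE) ((closure_le _).2 (by
    rintro _ ⟨e, he, k, hk, rfl⟩; exact hKV e he k hk)) with h | h
  · left
    intro e he k hk
    refine commutatorElement_eq_one_iff_mul_comm.1 (mem_bot.1 ?_)
    rw [← h]; exact subset_closure ⟨e, he, k, hk, rfl⟩
  · exact Or.inr h.ge

end Cfsg.Agent.Lib.TwoEssential
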