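import Cfsg.Agent.Lib.TwoEssential.AbelianHull
import Cfsg.Agent.Lib.TwoEssential.CaseALC

/-!
# The structure of a pair

Induction on the order: a pair is of one of the two configurations.
-/

set_option autoImplicit false
set_option linter.style.haveILetI false

universe u

namespace Cfsg.Agent.Lib.TwoEssential

open Subgroup

variable {p : ℕ} [hp : Fact p.Prime]

/-- A pair on a group with a centre moved by the first side, given the result for the factor groups. -/
theorem outcome_of_moved {P : Type u} [Group P] [Finite P] (X : Pair p P) (hP : IsPGroup p P) (hp2 : p ≠ 2)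
    (hsr : SectionalPRankLE p 3 P)
    (IH : ∀ (N : Subgroup P) [N.Normal], N ≠ ⊥ → ∀ Y : Pair p (P ⧸ N), Outcome Y) (hA : NoCentral X)
    (hm : ¬ X.s1.Inv (Z1 p P)) : Outcome X := by
  have hZ := card_Z1_of_noCentral X hP hp2 hsr hA hm
  by_cases hphi : X.s1.phi = ⊥
  · exact outcome_of_phi_eq_bot X hP hp2 hsr hZ hm hphi
  have h2 := not_inv2_gen X hP hsr hZ hm hphi hp2 IH
  exact ((BData.mk hZ hm hphi (card_gen_eq X hP hsr hZ hm hphi h2) h2
    (inv2_Z1 X hP hsr hZ hm hphi hp2 h2)).false hP hp2 hsr IH).elim

/-- The classification of pairs. -/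
theorem outcome (hp2 : p ≠ 2) {P : Type u} [Group P] [Finite P] (X : Pair p P) (hP : IsPGroup p P)
    (hsr : SectionalPRankLE p 3 P) : Outcome X := by
  induction hn : Nat.card P using Nat.strong_induction_on generalizing P with
  | _ n ih =>
    have IH : ∀ (N : Subgroup P) [N.Normal], N ≠ ⊥ → ∀ Y : Pair p (P ⧸ N), Outcome Y := by
      intro N _ hN Y
      refine ih (Nat.card (P ⧸ N)) ?_ Y (hP.to_quotient N) (sectional_quotient hsr N) rfl
      rw [← hn, Subgroup.card_eq_card_quotient_mul_card_subgroup N]
      have h1 : 1 < Nat.card N :=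
        Finite.one_lt_card_iff_nontrivial.2 ((Subgroup.nontrivial_iff_ne_bot N).2 hN)
      exact lt_mul_of_one_lt_right Nat.card_pos h1
    by_cases hA : NoCentral X
    · by_cases hm : X.s1.Inv (Z1 p P)
      · -- then the second side moves the centre
        have hm2 : ¬ X.swap.s1.Inv (Z1 p P) := fun hm2 => by
          have hZ0 := hA (Z1 p P) le_rfl hm hm2
          have hne : (⊤ : Subgroup P) ≠ ⊥ := fun e => by
            have h1 : X.E1.index = 1 := by
              rw [show X.E1 = ⊤ from le_antisymm le_top (by rw [e]; exact bot_le), index_top]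
            rw [X.i1] at h1
            exact hp.out.one_lt.ne' h1
          obtain ⟨z, -, hz, hz1⟩ := exists_mem_Z1 hP (N := ⊤) hne
          rw [hZ0, mem_bot] at hz
          exact hz1 hz
        have := (outcome_of_moved X.swap hP hp2 hsr IH hA.swap hm2).swap
        exact this
      · exact outcome_of_moved X hP hp2 hsr IH hA hm
    · unfold NoCentral at hA
      push Not at hA
      obtain ⟨N, hNZ, h1, h2, hN⟩ := hA
      have hNc : N ≤ center P := hNZ.trans Z1_le_center
      have hND : N ≤ X.D := hNc.trans (X.center_le_D hP)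
      haveI : N.Normal := ⟨fun z hz g => by rwa [mem_center_iff.1 (hNc hz) g, mul_inv_cancel_right]⟩
      have v1 := X.s1.not_ct_of_ct_bot hP (hND.trans inf_le_left)
        (X.s1.ct_bot_of_central h1 (hND.trans inf_le_left) hNc)
      have v2 := X.s2.not_ct_of_ct_bot hP (hND.trans inf_le_right)
        (X.s2.ct_bot_of_central h2 (hND.trans inf_le_right) hNc)
      rcases IH N hN (X.quot N h1 h2 hND v1 v2) with ⟨T, hT⟩ | hS | hS
      · exact Or.inl ⟨_, lc_of_quotient hP hp2 hsr h1 h2 hND hNc v1 v2 hT⟩
      · exact (no_sp_quotient hP hp2 hsr h1 h2 hND hNc (fun x hx => (hNZ hx).2) hN v1 v2 hS).elim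
      · exact (no_sp_quotient (X := X.swap) hP hp2 hsr h2 h1 (X.swap_D.symm ▸ hND) hNc
          (fun x hx => (hNZ hx).2) hN v2 v1 hS).elim

end Cfsg.Agent.Lib.TwoEssential
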