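import Cfsg.Agent.Lib.TwoEssential.Basic
import Cfsg.Agent.Lib.PGroups.Omega

/-!
# Natural sections

An invariant section of order `p²` on which `L` acts nontrivially: it has no invariant line, and some
element of `L` normalising `R` inverts it.
-/

set_option autoImplicit false
set_option linter.style.haveILetI false

universe u

namespace Cfsg.Agent.Lib.TwoEssential

open Subgroup

variable {p : ℕ} [Fact p.Prime] {P : Type u} [Group P] [Finite P] {E : Subgroup P} {B : Type u} [Group B]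
  {bact : B →* MulAut P}

namespace Side

variable (s : Side p P E B bact)

/-- An invariant section of order `p²` with nontrivial action of `L`. -/
structure Nat2 (W V : Subgroup P) : Prop where
  invW : s.Inv W
  invV : s.Inv V
  le : W ≤ V
  leE : V ≤ E
  card : W.relIndex V = p ^ 2
  comm : ∀ x ∈ V, ∀ y ∈ V, x * y * x⁻¹ * y⁻¹ ∈ W
  pow : ∀ x ∈ V, x ^ p ∈ W
  nct : ¬ s.CT W V

variable {W V : Subgroup P}

omit [Fact p.Prime] [Finite P] in
/-- The action respects congruences modulo an invariant subgroup. -/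
theorem app_congr (hW : s.Inv W) (hWE : W ≤ E) [W.Normal] (a : s.A) {x y : P} (hx : x ∈ E) (hy : y ∈ E)
    (h : (x : P ⧸ W) = y) : (s.app a x : P ⧸ W) = s.app a y := by
  rw [QuotientGroup.eq_iff_div_mem, div_eq_mul_inv] at h ⊢
  rw [← s.app_inv a hy, ← s.app_mul a hx (E.inv_mem hy)]
  exact hW a _ h

theorem exists_pow_of_prime {G : Type*} [Group G] {q : ℕ} [hq : Fact q.Prime] {M : Subgroup G}
    (hM : Nat.card M = q) {x : G} (hx : x ∈ M) (hx1 : x ≠ 1) {y : G} (hy : y ∈ M) :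
    ∃ k : ℕ, y = x ^ k := by
  haveI : Finite M := Nat.finite_of_card_ne_zero (hM ▸ hq.out.ne_zero)
  obtain ⟨k, hk⟩ := mem_powers_of_prime_card hM (g := (⟨x, hx⟩ : M))
    (fun h => hx1 (congrArg Subtype.val h)) (g' := ⟨y, hy⟩)
  exact ⟨k, (congrArg Subtype.val hk).symm⟩

omit [Fact p.Prime] [Finite P] in
theorem relIndex_eq_card [W.Normal] (hle : W ≤ V) :
    Nat.card (V.map (QuotientGroup.mk' W)) = W.relIndex V := by
  rw [← Subgroup.relIndex_bot_left, ← Subgroup.relIndex_comap, MonoidHom.comap_bot, QuotientGroup.ker_mk']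

/-- The fixed line and a vector moved onto it. -/
theorem Nat2.exists_line (hP : IsPGroup p P) (h : s.Nat2 W V) [W.Normal] :
    ∃ z ∈ V, z ∉ W ∧ (∀ g : P, ((g * z * g⁻¹ : P) : P ⧸ W) = z) ∧
      (∀ g : P, ∀ v ∈ V, ∃ k : ℕ, ((g * v * g⁻¹ : P) : P ⧸ W) = v * (z : P ⧸ W) ^ k) ∧
      ∃ a : s.A, (s.app a z : P ⧸ W) ∉ Subgroup.zpowers (z : P ⧸ W) := by
  set q := QuotientGroup.mk' W
  have hq : ∀ x : P, q x = (x : P ⧸ W) := fun _ => rfl
  have hPq : IsPGroup p (P ⧸ W) := hP.to_quotient W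
  have hVn := s.inv_normal h.invV h.leE
  haveI : (V.map q).Normal := hVn.map q (QuotientGroup.mk'_surjective W)
  have hcard : Nat.card (V.map q) = p ^ 2 := (relIndex_eq_card h.le).trans h.card
  have hne : V.map q ≠ ⊥ := fun hb => by
    rw [hb, Subgroup.card_bot] at hcard
    exact absurd hcard.symm (Nat.one_lt_pow two_ne_zero (Fact.out : p.Prime).one_lt).ne'
  obtain ⟨Z, hZV, hZc, hZn, hZcard⟩ := PGroups.exists_central_card_prime hPq (V.map q) hne
  haveI := hZn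
  obtain ⟨zb, hzb, hzb1⟩ : ∃ zb ∈ Z, zb ≠ 1 := by
    refine (Subgroup.ne_bot_iff_exists_ne_one.1 (fun hb => ?_)).elim fun x hx =>
      ⟨x.1, x.2, fun e => hx (Subtype.ext e)⟩
    rw [hb, Subgroup.card_bot] at hZcard
    exact (Fact.out : p.Prime).one_lt.ne hZcard
  obtain ⟨z, hz, rfl⟩ := hZV hzb
  have hzfix : ∀ g : P, ((g * z * g⁻¹ : P) : P ⧸ W) = z := fun g => by
    show q (g * z * g⁻¹) = q z
    rw [map_mul, map_mul, map_inv, Subgroup.mem_center_iff.1 (hZc hzb) (q g), mul_inv_cancel_right]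
  -- the quotient by the line is central
  have hstep : ∀ g : P, ∀ v ∈ V, ∃ k : ℕ, ((g * v * g⁻¹ : P) : P ⧸ W) = v * (z : P ⧸ W) ^ k := by
    intro g v hv
    haveI : ((V.map q).map (QuotientGroup.mk' Z)).Normal :=
      Subgroup.Normal.map inferInstance _ (QuotientGroup.mk'_surjective Z)
    have hcard' : Nat.card ((V.map q).map (QuotientGroup.mk' Z)) = p := by
      rw [relIndex_eq_card hZV]
      have := Subgroup.relIndex_mul_relIndex ⊥ Z (V.map q) bot_le hZV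
      rw [Subgroup.relIndex_bot_left, Subgroup.relIndex_bot_left, hZcard, hcard, sq] at this
      exact Nat.eq_of_mul_eq_mul_left (Fact.out : p.Prime).pos this
    have hc := PGroups.le_center_of_normal_card_prime (hPq.to_quotient Z) _ hcard'
      (Subgroup.mem_map_of_mem _ (Subgroup.mem_map_of_mem q hv))
    have h1 := Subgroup.mem_center_iff.1 hc (QuotientGroup.mk' Z (q g))
    have h2 : (q v)⁻¹ * (q g * q v * (q g)⁻¹) ∈ Z := by
      rw [← QuotientGroup.eq_one_iff]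
      show QuotientGroup.mk' Z _ = 1
      rw [map_mul, map_mul, map_mul, map_inv, map_inv, h1, mul_inv_cancel_right, inv_mul_cancel]
    obtain ⟨k, hk⟩ := exists_pow_of_prime hZcard hzb hzb1 h2
    refine ⟨k, ?_⟩
    have h3 := congrArg (q v * ·) hk
    simpa [hq] using h3
  refine ⟨z, hz, fun hzW => hzb1 ((QuotientGroup.eq_one_iff z).2 hzW), hzfix, hstep, ?_⟩
  by_contra hall
  push Not at hall
  have hWE : W ≤ E := h.le.trans h.leE
  have hLq : ∀ y : P, y ∈ W ⊔ Subgroup.zpowers z ↔ (y : P ⧸ W) ∈ Subgroup.zpowers (z : P ⧸ W) := by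
    intro y
    have e : W ⊔ Subgroup.zpowers z = (Subgroup.zpowers (z : P ⧸ W)).comap q := by
      rw [show (z : P ⧸ W) = q z from rfl, ← MonoidHom.map_zpowers, Subgroup.comap_map_eq,
        QuotientGroup.ker_mk', sup_comm]
    rw [e]; rfl
  set M := W ⊔ Subgroup.zpowers z with hM
  have hMV : M ≤ V := sup_le h.le (Subgroup.zpowers_le.2 hz)
  have hME : M ≤ E := hMV.trans h.leE
  have hMinv : s.Inv M := by
    intro a y hy
    obtain ⟨k, hk⟩ := Subgroup.mem_zpowers_iff.1 ((hLq y).1 hy)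
    obtain ⟨n, hn⟩ : ∃ n : ℕ, (y : P ⧸ W) = ((z ^ n : P) : P ⧸ W) := by
      have : (y : P ⧸ W) ∈ Submonoid.powers (z : P ⧸ W) :=
        mem_powers_iff_mem_zpowers.2 ⟨k, hk⟩
      obtain ⟨n, hn⟩ := this
      exact ⟨n, by rw [QuotientGroup.mk_pow]; exact hn.symm⟩
    rw [hLq, s.app_congr h.invW hWE a (hME hy) (E.pow_mem (h.leE hz) n) hn, s.app_pow a (h.leE hz),
      QuotientGroup.mk_pow]
    exact Subgroup.pow_mem _ (hall a) n
  refine h.nct (s.ct_trans hP h.invW hWE hME h.leE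
    (s.ct_of_central h.invV h.leE hMinv hME fun g v hv => ?_)
    (s.ct_of_central hMinv hME h.invW hWE fun g y hy => ?_))
  · obtain ⟨k, hk⟩ := hstep g v hv
    rw [hLq, QuotientGroup.mk_mul, QuotientGroup.mk_inv, hk]
    have hcz : ∀ k : ℕ, (z : P ⧸ W) ^ k * (v : P ⧸ W) = v * (z : P ⧸ W) ^ k := fun k =>
      ((Commute.pow_right (show Commute (v : P ⧸ W) z from
        Subgroup.mem_center_iff.1 (hZc hzb) _) k).eq).symm
    rw [← hcz, mul_inv_cancel_right]
    exact Subgroup.pow_mem _ (Subgroup.mem_zpowers _) k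
  · obtain ⟨k, hk⟩ := Subgroup.mem_zpowers_iff.1 ((hLq y).1 hy)
    rw [← QuotientGroup.eq_one_iff, QuotientGroup.mk_mul, QuotientGroup.mk_inv, mul_inv_eq_one,
      QuotientGroup.mk_mul, QuotientGroup.mk_mul, QuotientGroup.mk_inv, ← hk]
    have hc : (z : P ⧸ W) ^ k ∈ Subgroup.center (P ⧸ W) := Subgroup.zpow_mem _ (hZc hzb) k
    rw [Subgroup.mem_center_iff.1 hc, mul_inv_cancel_right]

/-- An invariant subgroup between `W` and `V` is one of them. -/
theorem Nat2.irred (hP : IsPGroup p P) (h : s.Nat2 W V) {M : Subgroup P} (hM : s.Inv M) (hWM : W ≤ M)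
    (hMV : M ≤ V) : M = W ∨ M = V := by
  have hWE : W ≤ E := h.le.trans h.leE
  have hME : M ≤ E := hMV.trans h.leE
  haveI := s.inv_normal h.invW hWE
  have h1 := Subgroup.relIndex_mul_relIndex W M V hWM hMV
  rw [h.card] at h1
  obtain ⟨i, hi, hi'⟩ := (Nat.dvd_prime_pow (Fact.out : p.Prime)).1 (Dvd.intro _ h1)
  interval_cases i
  · exact Or.inl (le_antisymm (Subgroup.relIndex_eq_one.1 (by simpa using hi')) hWM)
  · exfalso
    rw [pow_one] at hi'
    have hVM : M.relIndex V = p := by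
      rw [hi', sq] at h1
      exact Nat.eq_of_mul_eq_mul_left (Fact.out : p.Prime).pos h1
    haveI := s.inv_normal hM hME
    have hn := fun (N : Subgroup P) (hN : s.Inv N) (hNE : N ≤ E) => s.inv_normal hN hNE
    refine h.nct (s.ct_trans hP h.invW hWE hME h.leE
      (s.ct_of_central h.invV h.leE hM hME fun g v hv => ?_)
      (s.ct_of_central hM hME h.invW hWE fun g v hv => ?_))
    · haveI := (hn V h.invV h.leE).map (QuotientGroup.mk' M) (QuotientGroup.mk'_surjective M)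
      have hc := PGroups.le_center_of_normal_card_prime (hP.to_quotient M) _
        ((relIndex_eq_card hMV).trans hVM) (Subgroup.mem_map_of_mem (QuotientGroup.mk' M) hv)
      rw [← QuotientGroup.eq_one_iff]
      simp only [QuotientGroup.mk_mul, QuotientGroup.mk_inv]
      have := Subgroup.mem_center_iff.1 hc (g : P ⧸ M)
      change (g : P ⧸ M) * v = v * g at this
      rw [this, mul_inv_cancel_right, mul_inv_cancel]
    · haveI := (hn M hM hME).map (QuotientGroup.mk' W) (QuotientGroup.mk'_surjective W)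
      have hc := PGroups.le_center_of_normal_card_prime (hP.to_quotient W) _
        ((relIndex_eq_card hWM).trans hi') (Subgroup.mem_map_of_mem (QuotientGroup.mk' W) hv)
      rw [← QuotientGroup.eq_one_iff]
      simp only [QuotientGroup.mk_mul, QuotientGroup.mk_inv]
      have := Subgroup.mem_center_iff.1 hc (g : P ⧸ W)
      change (g : P ⧸ W) * v = v * g at this
      rw [this, mul_inv_cancel_right, mul_inv_cancel]
  · right
    rw [hi'] at h1
    exact le_antisymm hMV (Subgroup.relIndex_eq_one.1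
      (Nat.eq_of_mul_eq_mul_left (pow_pos (Fact.out : p.Prime).pos 2) (h1.trans (mul_one _).symm)))

/-- An element of `L` normalising `R` inverts a natural section. -/
theorem Nat2.exists_neg (hP : IsPGroup p P) (hp2 : p ≠ 2) (h : s.Nat2 W V) :
    ∃ n ∈ s.L, n ∈ normalizer ((s.R : Subgroup s.A) : Set s.A) ∧ (orderOf (s.act n)).Coprime p ∧
      ∀ x ∈ V, s.app n x * x ∈ W := by
  classical
  have hp : p.Prime := Fact.out
  have hWE : W ≤ E := h.le.trans h.leE
  haveI := s.inv_normal h.invW hWE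
  set q := QuotientGroup.mk' W with hqdef
  obtain ⟨z, hz, hzW, hzfix, hstep, a, hmoved⟩ := h.exists_line s hP
  have hzE := h.leE hz
  set z' := s.app a z with hz'def
  have hz' : z' ∈ V := h.invV a z hz
  have hz'E := h.leE hz'
  set Z₀ := q z with hZ₀
  set Z₁ := q z' with hZ₁
  have hord : ∀ {x : P}, x ∈ V → x ∉ W → orderOf (q x) = p := fun {x} hx hxW =>
    orderOf_eq_prime (by rw [← map_pow]; exact (QuotientGroup.eq_one_iff _).2 (h.pow x hx))
      fun e => hxW ((QuotientGroup.eq_one_iff x).1 e)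
  have hZ₀o : orderOf Z₀ = p := hord hz hzW
  have hz'W : z' ∉ W := fun hh => hmoved (by
    show q z' ∈ _
    rw [show q z' = 1 from (QuotientGroup.eq_one_iff z').2 hh]; exact one_mem _)
  have hZ₁o : orderOf Z₁ = p := hord hz' hz'W
  have hcomm : ∀ x ∈ V, ∀ y ∈ V, Commute (q x) (q y) := fun x hx y hy => by
    refine commutatorElement_eq_one_iff_commute.1 ?_
    rw [← map_commutatorElement, commutatorElement_def]
    exact (QuotientGroup.eq_one_iff _).2 (h.comm x hx y hy)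
  have hC : Commute Z₀ Z₁ := hcomm z hz z' hz'
  -- coordinates
  have hcoord : ∀ x ∈ V, ∃ i j : ℕ, q x = Z₀ ^ i * Z₁ ^ j := by
    intro x hx
    set M := Subgroup.closure ({Z₀, Z₁} : Set (P ⧸ W)) with hM
    have hMV : M ≤ V.map q := (Subgroup.closure_le _).2 (by
      rintro _ (rfl | rfl)
      · exact ⟨z, hz, rfl⟩
      · exact ⟨z', hz', rfl⟩)
    have hcard : Nat.card (V.map q) = p ^ 2 := (relIndex_eq_card h.le).trans h.card
    have hlt : Subgroup.zpowers Z₀ < M := lt_of_le_of_ne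
      (Subgroup.zpowers_le.2 (Subgroup.subset_closure (Or.inl rfl)))
      fun e => hmoved (show Z₁ ∈ Subgroup.zpowers Z₀ from e ▸ Subgroup.subset_closure (Or.inr rfl))
    have hMeq : M = V.map q := by
      refine Subgroup.eq_of_le_of_card_ge hMV ?_
      obtain ⟨i, hi, hic⟩ := (Nat.dvd_prime_pow hp).1 (hcard ▸ Subgroup.card_dvd_of_le hMV)
      have h1 := Subgroup.card_dvd_of_le hlt.le
      rw [Nat.card_zpowers, hZ₀o, hic] at h1
      have h2 : 2 ≤ i := by
        by_contra h2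
        have : Nat.card M ≤ Nat.card (Subgroup.zpowers Z₀) := by
          rw [hic, Nat.card_zpowers, hZ₀o]
          exact le_of_le_of_eq (Nat.pow_le_pow_right hp.pos (by omega : i ≤ 1)) (pow_one p)
        exact hlt.ne (Subgroup.eq_of_le_of_card_ge hlt.le this)
      rw [hic, hcard]; exact Nat.pow_le_pow_right hp.pos h2
    let T : Submonoid (P ⧸ W) :=
      { carrier := {y | ∃ i j : ℕ, y = Z₀ ^ i * Z₁ ^ j}
        one_mem' := ⟨0, 0, by simp⟩
        mul_mem' := by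
          rintro _ _ ⟨i, j, rfl⟩ ⟨i', j', rfl⟩
          exact ⟨i + i', j + j', by rw [pow_add, pow_add, (hC.pow_pow i' j).symm.mul_mul_mul_comm]⟩ }
    have hmem : q x ∈ M := hMeq ▸ Subgroup.mem_map_of_mem q hx
    have : q x ∈ T := by
      refine Subgroup.closure_induction'' (p := fun y _ => y ∈ T) ?_ ?_ T.one_mem
        (fun y w _ _ hy hw => T.mul_mem hy hw) hmem
      · rintro y (rfl | rfl)
        · exact ⟨1, 0, by simp⟩
        · exact ⟨0, 1, by simp⟩
      · rintro y (rfl | rfl)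
        · refine ⟨p - 1, 0, ?_⟩
          rw [pow_zero, mul_one]
          refine inv_eq_of_mul_eq_one_right ?_
          rw [← pow_succ', Nat.sub_add_cancel hp.one_le, ← hZ₀o, pow_orderOf_eq_one]
        · refine ⟨0, p - 1, ?_⟩
          rw [pow_zero, one_mul]
          refine inv_eq_of_mul_eq_one_right ?_
          rw [← pow_succ', Nat.sub_add_cancel hp.one_le, ← hZ₁o, pow_orderOf_eq_one]
    exact this
  -- the effect of an element is determined on the two vectors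
  have key : ∀ (l : s.A) (α β : P), α ∈ V → β ∈ V → q (s.app l z) = q α → q (s.app l z') = q β →
      ∀ x ∈ V, ∀ i j : ℕ, q x = Z₀ ^ i * Z₁ ^ j → q (s.app l x) = q α ^ i * q β ^ j := by
    intro l α β _ _ h0 h1 x hx i j hxij
    have e : q (s.app l x) = q (s.app l (z ^ i * z' ^ j)) :=
      s.app_congr h.invW hWE l (h.leE hx) (E.mul_mem (E.pow_mem hzE i) (E.pow_mem hz'E j))
        (show q x = q (z ^ i * z' ^ j) by rw [hxij, map_mul, map_pow, map_pow])
    rw [e, s.app_mul l (E.pow_mem hzE i) (E.pow_mem hz'E j), s.app_pow l hzE, s.app_pow l hz'E,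
      map_mul, map_pow, map_pow, h0, h1]
  -- a transvection fixing the line
  have hpow : ∀ (g : P) (c : ℕ), ((g * z' * g⁻¹ : P) : P ⧸ W) = Z₁ * Z₀ ^ c → ∀ m : ℕ,
      q (g ^ m * z' * (g ^ m)⁻¹) = Z₁ * Z₀ ^ (c * m) := by
    intro g c hg m
    induction m with
    | zero => simp [hZ₁]
    | succ m ih =>
      rw [show g ^ (m + 1) * z' * (g ^ (m + 1))⁻¹ = g * (g ^ m * z' * (g ^ m)⁻¹) * g⁻¹ by group,
        map_mul, map_mul, ih, map_inv]
      have hf : Commute (q g) (Z₀ ^ (c * m)) := Commute.pow_right (by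
        have := hzfix g
        change q (g * z * g⁻¹) = q z at this
        rw [map_mul, map_mul, map_inv, mul_inv_eq_iff_eq_mul] at this
        exact this) _
      have hg' : q g * Z₁ * (q g)⁻¹ = Z₁ * Z₀ ^ c := by rw [hZ₁, ← map_inv, ← map_mul, ← map_mul]; exact hg
      calc q g * (Z₁ * Z₀ ^ (c * m)) * (q g)⁻¹
          = q g * Z₁ * (q g)⁻¹ * (q g * Z₀ ^ (c * m) * (q g)⁻¹) := by group
        _ = Z₁ * Z₀ ^ c * Z₀ ^ (c * m) := by rw [hg', hf.eq, mul_inv_cancel_right]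
        _ = Z₁ * Z₀ ^ (c * (m + 1)) := by rw [mul_assoc, ← pow_add]; congr 2; ring
  obtain ⟨g₀, c, hg₀, hc⟩ : ∃ (g : P) (c : ℕ), ((g * z' * g⁻¹ : P) : P ⧸ W) = Z₁ * Z₀ ^ c ∧ ¬ p ∣ c := by
    by_contra hall
    push Not at hall
    have hfix : ∀ g : P, q (g * z' * g⁻¹) = Z₁ := fun g => by
      obtain ⟨k, hk⟩ := hstep g z' hz'
      have hd : p ∣ k := hall g k hk
      change q (g * z' * g⁻¹) = Z₁ * Z₀ ^ k at hk
      rw [hk, orderOf_dvd_iff_pow_eq_one.1 (hZ₀o ▸ hd), mul_one]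
    refine h.nct (s.ct_of_central h.invV h.leE h.invW hWE fun g v hv => ?_)
    obtain ⟨i, j, hij⟩ := hcoord v hv
    rw [← QuotientGroup.eq_one_iff]
    show q (g * v * g⁻¹ * v⁻¹) = 1
    have e0 : q g * Z₀ = Z₀ * q g := by
      have := hzfix g
      change q (g * z * g⁻¹) = q z at this
      rwa [map_mul, map_mul, map_inv, mul_inv_eq_iff_eq_mul] at this
    have e1 : q g * Z₁ = Z₁ * q g := by
      have := hfix g
      rwa [map_mul, map_mul, map_inv, mul_inv_eq_iff_eq_mul] at this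
    have e2 : Commute (q g) (q v) := by
      rw [hij]; exact (Commute.pow_right e0 i).mul_right (Commute.pow_right e1 j)
    rw [map_mul, map_mul, map_mul, e2.eq, map_inv, map_inv, mul_inv_cancel_right, mul_inv_cancel]
  -- exponents can be adjusted
  have hsolve : ∀ c : ℕ, ¬ p ∣ c → ∀ t : ℕ, ∃ m : ℕ, ∀ y : P ⧸ W, y ^ p = 1 → y ^ (c * m) = y ^ t := by
    intro c hc t
    refine ⟨((t : ZMod p) * (c : ZMod p)⁻¹).val, fun y hy => ?_⟩
    refine pow_eq_pow_iff_modEq.2 ((Nat.ModEq.of_dvd (orderOf_dvd_of_pow_eq_one hy) ?_))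
    rw [← ZMod.natCast_eq_natCast_iff]
    push_cast
    rw [ZMod.natCast_zmod_val, mul_comm (t : ZMod p), ← mul_assoc, mul_inv_cancel₀, one_mul]
    rwa [Ne, ZMod.natCast_eq_zero_iff]
  have hZ₀p : Z₀ ^ p = 1 := hZ₀o ▸ pow_orderOf_eq_one _
  have hZ₁p : Z₁ ^ p = 1 := hZ₁o ▸ pow_orderOf_eq_one _
  obtain ⟨m₁, hm₁⟩ := hsolve c hc 1
  obtain ⟨r₁, hr₁, hr₁e⟩ := s.exists_conj (g₀ ^ m₁)
  have r1z : q (s.app r₁ z) = Z₀ := by rw [hr₁e z hzE]; exact hzfix _
  have r1z' : q (s.app r₁ z') = Z₁ * Z₀ := by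
    rw [hr₁e z' hz'E, hpow g₀ c hg₀, hm₁ _ hZ₀p, pow_one]
  -- the conjugate transvection
  set v₀ := s.app a⁻¹ z with hv₀def
  have hv₀ : v₀ ∈ V := h.invV _ z hz
  obtain ⟨α, β, hαβ⟩ := hcoord v₀ hv₀
  have hav₀ : q (s.app a v₀) = Z₀ := by rw [hv₀def, s.app_app_inv a hzE]
  have hβ : ¬ p ∣ β := by
    intro hd
    rw [orderOf_dvd_iff_pow_eq_one.1 ((hZ₁o.symm ▸ hd : orderOf Z₁ ∣ β)), mul_one] at hαβ
    have e : q (s.app a v₀) = q (s.app a (z ^ α)) :=
      s.app_congr h.invW hWE a (h.leE hv₀) (E.pow_mem hzE α) (show q v₀ = q (z ^ α) by rw [hαβ, map_pow])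
    rw [hav₀, s.app_pow a hzE, map_pow] at e
    apply hmoved
    show Z₁ ∈ Subgroup.zpowers Z₀
    have hd : ¬ p ∣ α := fun hd => hzW ((QuotientGroup.eq_one_iff z).1 (by
      show Z₀ = 1
      rw [e]; exact orderOf_dvd_iff_pow_eq_one.1 ((hZ₁o.symm ▸ hd : orderOf Z₁ ∣ α))))
    obtain ⟨m, hm⟩ := hsolve α hd 1
    rw [← pow_one Z₁, ← hm _ hZ₁p, pow_mul, ← e]
    exact Subgroup.pow_mem _ (Subgroup.mem_zpowers _) m
  obtain ⟨m₂, hm₂⟩ := hsolve (c * β) (fun hd => (hp.dvd_mul.1 hd).elim hc hβ) (p - 1)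
  obtain ⟨r₂', hr₂', hr₂e⟩ := s.exists_conj (g₀ ^ m₂)
  set r₂ := a * r₂' * a⁻¹ with hr₂def
  have r2z' : q (s.app r₂ z') = Z₁ := by
    rw [hr₂def, s.mul_app _ _ hz'E, s.mul_app _ _ (s.app_mem _ hz'E), hz'def, s.inv_app_app a hzE]
    have e : q (s.app r₂' z) = q z := by rw [hr₂e z hzE]; exact hzfix _
    exact s.app_congr h.invW hWE a (s.app_mem _ hzE) hzE e
  have r2z : q (s.app r₂ z) = Z₀ * Z₁⁻¹ := by
    rw [hr₂def, s.mul_app _ _ hzE, s.mul_app _ _ (s.app_mem _ hzE), ← hv₀def]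
    have e1 : q (s.app r₂' z) = Z₀ := by rw [hr₂e z hzE]; exact hzfix _
    have e1' : q (s.app r₂' z') = q (z' * z ^ (c * m₂)) := by
      rw [hr₂e z' hz'E, hpow g₀ c hg₀, map_mul, map_pow]
    have e2 := key r₂' z (z' * z ^ (c * m₂)) hz (V.mul_mem hz' (V.pow_mem hz _)) e1 e1' v₀ hv₀ α β hαβ
    have e3 : q (s.app r₂' v₀) = q (v₀ * z ^ (c * m₂ * β)) := by
      rw [e2, map_mul, map_mul, map_pow, map_pow, (hC.symm.pow_right _).mul_pow, ← mul_assoc,
        ← hαβ, ← pow_mul]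
    have hmem : v₀ * z ^ (c * m₂ * β) ∈ E := E.mul_mem (h.leE hv₀) (E.pow_mem hzE _)
    rw [show q (s.app a (s.app r₂' v₀)) = q (s.app a (v₀ * z ^ (c * m₂ * β))) from
      s.app_congr h.invW hWE a (s.app_mem _ (h.leE hv₀)) hmem e3,
      s.app_mul a (h.leE hv₀) (E.pow_mem hzE _), s.app_pow a hzE, map_mul, map_pow, hav₀,
      show c * m₂ * β = c * β * m₂ by ring, hm₂ _ hZ₁p]
    congr 1
    refine eq_inv_of_mul_eq_one_left ?_
    rw [← pow_succ, Nat.sub_add_cancel hp.one_le, hZ₁p]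
  have hRL : (s.R : Subgroup s.A) ≤ s.L := Subgroup.subset_normalClosure
  have hr₁L : r₁ ∈ s.L := hRL hr₁
  have hr₂L : r₂ ∈ s.L := Subgroup.normalClosure_normal.conj_mem _ (hRL hr₂') a
  set w := r₁ * r₂ * r₁ with hw
  have hwL : w ∈ s.L := mul_mem (mul_mem hr₁L hr₂L) hr₁L
  have hzz : z * z'⁻¹ ∈ V := V.mul_mem hz (V.inv_mem hz')
  have wz : q (s.app w z) = Z₁⁻¹ := by
    have a1 : q (s.app r₁ z) = q z := r1z
    have a2 : q (s.app (r₁ * r₂) z) = q (s.app r₁ (z * z'⁻¹)) := by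
      rw [s.mul_app _ _ hzE]
      exact s.app_congr h.invW hWE r₁ (s.app_mem _ hzE) (h.leE hzz) (show q _ = q _ by rw [r2z, map_mul, map_inv])
    have a3 : q (s.app w z) = q (s.app (r₁ * r₂) z) := by
      rw [hw, s.mul_app _ _ hzE]
      exact s.app_congr h.invW hWE _ (s.app_mem _ hzE) hzE a1
    rw [a3, a2, s.app_mul _ hzE (E.inv_mem hz'E), s.app_inv _ hz'E, map_mul, map_inv, r1z, r1z', mul_inv_rev,
      ← mul_assoc, mul_inv_cancel, one_mul]
  have wz' : q (s.app w z') = Z₀ := by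
    have b1 : q (s.app r₁ z') = q (z' * z) := by rw [r1z', map_mul]
    have b2 : q (s.app r₂ (z' * z)) = q z := by
      rw [s.app_mul _ hz'E hzE, map_mul, r2z', r2z, ← mul_assoc, ← hC.eq, mul_inv_cancel_right]
    have b3 : q (s.app w z') = q (s.app (r₁ * r₂) (z' * z)) := by
      rw [hw, s.mul_app _ _ hz'E]
      exact s.app_congr h.invW hWE _ (s.app_mem _ hz'E) (E.mul_mem hz'E hzE) b1
    rw [b3, s.mul_app _ _ (E.mul_mem hz'E hzE),
      show q (s.app r₁ (s.app r₂ (z' * z))) = q (s.app r₁ z) from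
        s.app_congr h.invW hWE r₁ (s.app_mem _ (E.mul_mem hz'E hzE)) hzE b2, r1z]
  set τ := w * w with hτ
  have tz : q (s.app τ z) = Z₀⁻¹ := by
    rw [hτ, s.mul_app _ _ hzE, show q (s.app w (s.app w z)) = q (s.app w z'⁻¹) from
      s.app_congr h.invW hWE w (s.app_mem _ hzE) (E.inv_mem hz'E) (show q _ = q _ by rw [wz, map_inv]),
      s.app_inv _ hz'E, map_inv, wz']
  have tz' : q (s.app τ z') = Z₁⁻¹ := by
    rw [hτ, s.mul_app _ _ hz'E, show q (s.app w (s.app w z')) = q (s.app w z) from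
      s.app_congr h.invW hWE w (s.app_mem _ hz'E) hzE wz', wz]
  -- the subgroup of translations
  let S₁ : Subgroup s.A :=
    subgroupOfIdempotent {l | ∃ i : ℕ, q (s.app l z) = Z₀ ∧ q (s.app l z') = Z₁ * Z₀ ^ i}
      ⟨1, 0, by simp [s.one_app, hZ₀, hZ₁]⟩ (by
      refine Set.Subset.antisymm ?_ fun l hl =>
        ⟨1, ⟨0, by simp [s.one_app, hZ₀, hZ₁]⟩, l, hl, one_mul l⟩
      rintro _ ⟨l, ⟨i, hl0, hl1⟩, l', ⟨i', hl0', hl1'⟩, rfl⟩
      refine ⟨i + i', ?_, ?_⟩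
      · rw [s.mul_app _ _ hzE]
        exact (s.app_congr h.invW hWE l (s.app_mem _ hzE) hzE hl0').trans hl0
      · rw [s.mul_app _ _ hz'E,
          show q (s.app l (s.app l' z')) = q (s.app l (z' * z ^ i')) from
            s.app_congr h.invW hWE l (s.app_mem _ hz'E) (E.mul_mem hz'E (E.pow_mem hzE _))
              (show q _ = q _ by rw [hl1', map_mul, map_pow]),
          s.app_mul _ hz'E (E.pow_mem hzE _), s.app_pow _ hzE, map_mul, map_pow, hl0, hl1, mul_assoc, ← pow_add])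
  let S₀ : Subgroup s.A := s.L ⊓ S₁
  have hS₀ : ∀ l, l ∈ S₀ ↔ l ∈ s.L ∧ ∃ i : ℕ, q (s.app l z) = Z₀ ∧ q (s.app l z') = Z₁ * Z₀ ^ i :=
    fun l => Iff.rfl
  have hRS : (s.R : Subgroup s.A) ≤ S₀ := by
    intro r hr
    obtain ⟨g, hg⟩ := s.exists_of_R hr
    obtain ⟨k, hk⟩ := hstep g z' hz'
    exact (hS₀ r).2 ⟨hRL hr, k, by rw [hg z hzE]; exact hzfix g, by rw [hg z' hz'E]; exact hk⟩
  have hτS : ∀ l ∈ S₀, τ * l * τ⁻¹ ∈ S₀ := by
    intro l hl
    obtain ⟨hlL, i, hl0, hl1⟩ := (hS₀ l).1 hl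
    have ti : ∀ {x : P}, x ∈ E → q (s.app τ x) = (q x)⁻¹ → q (s.app τ⁻¹ x) = (q x)⁻¹ := by
      intro x hx e
      have e1 : q (s.app τ⁻¹ (s.app τ x)) = q (s.app τ⁻¹ x⁻¹) :=
        s.app_congr h.invW hWE τ⁻¹ (s.app_mem _ hx) (E.inv_mem hx) (show q _ = q _ by rw [e, map_inv])
      rw [s.inv_app_app _ hx, s.app_inv _ hx, map_inv] at e1
      rw [e1, inv_inv]
    refine (hS₀ _).2 ⟨Subgroup.normalClosure_normal.conj_mem _ hlL τ, i, ?_, ?_⟩
    · rw [s.mul_app _ _ hzE, s.mul_app _ _ (s.app_mem _ hzE)]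
      have e : q (s.app l (s.app τ⁻¹ z)) = q (z⁻¹) := by
        rw [show q (s.app l (s.app τ⁻¹ z)) = q (s.app l z⁻¹) from
          s.app_congr h.invW hWE l (s.app_mem _ hzE) (E.inv_mem hzE) (show q _ = q _ by rw [ti hzE tz, map_inv]),
          s.app_inv _ hzE, map_inv, hl0, map_inv]
      rw [show q (s.app τ (s.app l (s.app τ⁻¹ z))) = q (s.app τ z⁻¹) from
        s.app_congr h.invW hWE τ (s.app_mem _ (s.app_mem _ hzE)) (E.inv_mem hzE) e,
        s.app_inv _ hzE, map_inv, tz, inv_inv]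
    · rw [s.mul_app _ _ hz'E, s.mul_app _ _ (s.app_mem _ hz'E)]
      have hm : (z' * z ^ i)⁻¹ ∈ E := E.inv_mem (E.mul_mem hz'E (E.pow_mem hzE _))
      have e : q (s.app l (s.app τ⁻¹ z')) = q ((z' * z ^ i)⁻¹) := by
        rw [show q (s.app l (s.app τ⁻¹ z')) = q (s.app l z'⁻¹) from
          s.app_congr h.invW hWE l (s.app_mem _ hz'E) (E.inv_mem hz'E) (show q _ = q _ by rw [ti hz'E tz', map_inv]),
          s.app_inv _ hz'E, map_inv, hl1, map_inv, map_mul, map_pow]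
      rw [show q (s.app τ (s.app l (s.app τ⁻¹ z'))) = q (s.app τ (z' * z ^ i)⁻¹) from
        s.app_congr h.invW hWE τ (s.app_mem _ (s.app_mem _ hz'E)) hm e,
        s.app_inv _ (E.mul_mem hz'E (E.pow_mem hzE _)), map_inv, s.app_mul _ hz'E (E.pow_mem hzE _),
        s.app_pow _ hzE, map_mul, map_pow, tz, tz', inv_pow, mul_inv_rev, inv_inv, inv_inv]
      exact (hC.pow_left i).eq
  have hQle : ((τ • s.R : Sylow p s.A) : Subgroup s.A) ≤ S₀ := by
    rintro _ ⟨r, hr, rfl⟩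
    exact hτS r (hRS hr)
  obtain ⟨σ, hσ⟩ := MulAction.exists_smul_eq S₀ ((τ • s.R).subtype hQle) (s.R.subtype hRS)
  rw [Sylow.smul_subtype] at hσ
  have hn₁ := Sylow.smul_eq_iff_mem_normalizer.1 ((mul_smul _ _ _).trans (Sylow.subtype_injective hσ))
  obtain ⟨hσL, i, hσ0, hσ1⟩ := (hS₀ σ.1).1 σ.2
  -- correct by a translation in `R`
  obtain ⟨r₃, hr₃, hr₃e⟩ := s.exists_conj (g₀ ^ (m₁ * (p * i - i)))
  set n₀ := r₃ * ((σ : s.A) * τ) with hn₀
  have hn₀N : n₀ ∈ normalizer ((s.R : Subgroup s.A) : Set s.A) :=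
    mul_mem (Subgroup.le_normalizer hr₃) hn₁
  have hn₀L : n₀ ∈ s.L := mul_mem (hRL hr₃) (mul_mem hσL (mul_mem hwL hwL))
  have n0z : q (s.app n₀ z) = Z₀⁻¹ := by
    rw [hn₀, s.mul_app _ _ hzE, s.mul_app _ _ hzE]
    have e : q (s.app σ (s.app τ z)) = q z⁻¹ := by
      rw [show q (s.app σ (s.app τ z)) = q (s.app σ z⁻¹) from
        s.app_congr h.invW hWE _ (s.app_mem _ hzE) (E.inv_mem hzE) (show q _ = q _ by rw [tz, map_inv]),
        s.app_inv _ hzE, map_inv, hσ0, map_inv]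
    rw [show q (s.app r₃ (s.app σ (s.app τ z))) = q (s.app r₃ z⁻¹) from
      s.app_congr h.invW hWE _ (s.app_mem _ (s.app_mem _ hzE)) (E.inv_mem hzE) e,
      s.app_inv _ hzE, map_inv, hr₃e z hzE]
    rw [show q (g₀ ^ (m₁ * (p * i - i)) * z * (g₀ ^ (m₁ * (p * i - i)))⁻¹) = Z₀ from hzfix _]
  have n0z' : q (s.app n₀ z') = Z₁⁻¹ := by
    rw [hn₀, s.mul_app _ _ hz'E, s.mul_app _ _ hz'E]
    have hm : (z' * z ^ i)⁻¹ ∈ E := E.inv_mem (E.mul_mem hz'E (E.pow_mem hzE _))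
    have e : q (s.app σ (s.app τ z')) = q (z' * z ^ i)⁻¹ := by
      rw [show q (s.app σ (s.app τ z')) = q (s.app σ z'⁻¹) from
        s.app_congr h.invW hWE _ (s.app_mem _ hz'E) (E.inv_mem hz'E) (show q _ = q _ by rw [tz', map_inv]),
        s.app_inv _ hz'E, map_inv, hσ1, map_inv, map_mul, map_pow]
    rw [show q (s.app r₃ (s.app σ (s.app τ z'))) = q (s.app r₃ (z' * z ^ i)⁻¹) from
      s.app_congr h.invW hWE _ (s.app_mem _ (s.app_mem _ hz'E)) hm e,
      s.app_inv _ (E.mul_mem hz'E (E.pow_mem hzE _)), s.app_mul _ hz'E (E.pow_mem hzE _),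
      s.app_pow _ hzE, map_inv, map_mul, map_pow, hr₃e z hzE, hr₃e z' hz'E, hpow g₀ c hg₀,
      show q (g₀ ^ (m₁ * (p * i - i)) * z * (g₀ ^ (m₁ * (p * i - i)))⁻¹) = Z₀ from hzfix _,
      ← mul_assoc c, pow_mul Z₀ (c * m₁), hm₁ _ hZ₀p, pow_one, mul_assoc, ← pow_add,
      Nat.sub_add_cancel (Nat.le_mul_of_pos_left _ hp.pos), pow_mul, hZ₀p, one_pow, mul_one]
  -- pass to a power of order prime to `p`
  obtain ⟨k, hk⟩ := s.exists_coprime_pow n₀
  have hneg : ∀ x ∈ V, q (s.app n₀ x) = (q x)⁻¹ := by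
    intro x hx
    obtain ⟨i', j', hij⟩ := hcoord x hx
    rw [key n₀ z⁻¹ z'⁻¹ (V.inv_mem hz) (V.inv_mem hz') (by rw [n0z, map_inv]) (by rw [n0z', map_inv]) x hx
      i' j' hij, hij, map_inv, map_inv, inv_pow, inv_pow, mul_inv_rev]
    exact (hC.pow_pow i' j').inv_inv.eq
  have hodd : ∀ m : ℕ, ∀ x ∈ V, q (s.app (n₀ ^ (2 * m + 1)) x) = (q x)⁻¹ := by
    intro m
    induction m with
    | zero => intro x hx; simpa using hneg x hx
    | succ m ih =>
      intro x hx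
      have hxE := h.leE hx
      rw [show n₀ ^ (2 * (m + 1) + 1) = n₀ ^ (2 * m + 1) * (n₀ * n₀) by
        rw [← mul_assoc, ← pow_succ, ← pow_succ]; rfl, s.mul_app _ _ hxE]
      rw [show q (s.app (n₀ ^ (2 * m + 1)) (s.app (n₀ * n₀) x)) = q (s.app (n₀ ^ (2 * m + 1)) x) from
        s.app_congr h.invW hWE _ (s.app_mem _ hxE) hxE (show q _ = q _ by
          rw [s.mul_app _ _ hxE, show q (s.app n₀ (s.app n₀ x)) = q (s.app n₀ x⁻¹) from
            s.app_congr h.invW hWE _ (s.app_mem _ hxE) (E.inv_mem hxE)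
              (show q _ = q _ by rw [hneg x hx, map_inv]),
            s.app_inv _ hxE, map_inv, hneg x hx, inv_inv]), ih x hx]
  obtain ⟨m, hm⟩ := ((hp.eq_two_or_odd'.resolve_left hp2).pow : Odd (p ^ k))
  refine ⟨n₀ ^ p ^ k, ?_, Subgroup.pow_mem _ hn₀N _, hk, fun x hx => ?_⟩
  · exact Subgroup.pow_mem _ hn₀L _
  rw [hm, ← QuotientGroup.eq_one_iff]
  show q (s.app (n₀ ^ (2 * m + 1)) x * x) = 1
  rw [map_mul, hodd m x hx, inv_mul_cancel]

end Side

end Cfsg.Agent.Lib.TwoEssential
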