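import Cfsg.Agent.Lib.TwoEssential.Main
import Cfsg.Agent.Lib.EssentialRankThree.Automizer
import Cfsg.Agent.Lib.EssentialRankThree.Final
import Cfsg.Agent.Lib.FusionEssential.RankTwo
import Cfsg.Agent.Lib.FusionSystem.Essential

/-!
# The pair of two invariant essential subgroups

Essential subgroups normal in `S` of sectional rank three have index `p`, and their automisers give the data
of a side.
-/

set_option autoImplicit false
set_option linter.style.haveILetI false
set_option linter.unusedSectionVars false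

universe u

namespace Cfsg.Agent.Lib.TwoEssential

open Cfsg Cfsg.FusionSystem Cfsg.Agent.Lib Cfsg.Agent.Lib.FS
open Cfsg.Agent.Lib.Resistant67 (conjN conjN_apply)
open scoped commutatorElement

variable {Ω : Type u} [Group Ω] {S : Subgroup Ω} [Finite S] {p : ℕ} [Fact p.Prime] {F : FusionSystem S}

/-- A subgroup normal in `S` is normalised by `S`. -/
theorem mem_normalizerIn_of_normal {E : Subgroup Ω} (hES : E ≤ S) (hn : (E.subgroupOf S).Normal) {g : Ω}
    (hg : g ∈ S) : g ∈ normalizerIn S E := by
  haveI := finite_sub hES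
  exact ⟨hg, mem_normalizer_of_conj_mem fun x hx =>
    Subgroup.mem_subgroupOf.1 (hn.conj_mem ⟨x, hES hx⟩ (Subgroup.mem_subgroupOf.2 hx) ⟨g, hg⟩)⟩

/-- An essential subgroup which is normal in `S` has index `p`. -/
theorem index_eq_prime (hS : IsPGroup p S) (hF : F.IsSaturated p) (hp3 : 3 ≤ p)
    (hsr : SectionalPRankLE p 3 S) {E : Subgroup Ω} (hess : F.IsEssential p E) (hn : (E.subgroupOf S).Normal) :
    (E.subgroupOf S).index = p := by
  have hp : p.Prime := Fact.out
  have hES : E ≤ S := hess.2.1.1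
  haveI := finite_sub hES
  have hEp : IsPGroup p E := isPGroup_of_le hS hES
  have hidx : (frattini ↥E).index ≤ p ^ 3 := by
    have h := rank_le (EssentialRankThree.sectional_of_injective (Subgroup.inclusion hES)
      (Subgroup.inclusion_injective hES) hsr) (H := (⊤ : Subgroup ↥E)) (K := frattini ↥E)
      (fun x _ y _ => commutatorElement_def x y ▸ PGroups.commutatorElement_mem_frattini hEp x y)
      (fun x _ => PGroups.pow_mem_frattini hEp x)
    rwa [Subgroup.relIndex_top_right] at h
  haveI := hn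
  suffices h : (E.subgroupOf S).index ∣ p by
    rcases (Nat.dvd_prime hp).1 h with h1 | h1
    · exfalso
      obtain ⟨g, hg⟩ := Resistant67.exists_normalizer_not_mem hS hF hess
      rw [Subgroup.index_eq_one] at h1
      exact hg (Subgroup.mem_subgroupOf.1 (show (⟨g, g.2.1⟩ : S) ∈ E.subgroupOf S by rw [h1]; trivial))
    · exact h1
  by_cases h3 : (frattini ↥E).index = p ^ 3
  · obtain ⟨V, _, _, _, ⟨d⟩⟩ := EssentialRankThree.exists_auto hS hF hess h3
    obtain ⟨x, hxE⟩ := Resistant67.exists_normalizer_not_mem hS hF hess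
    set x' : S := ⟨x, x.2.1⟩
    have hk : ∀ g : S, ∃ k : ℕ, ∃ e ∈ E, (g : Ω) = e * (x : Ω) ^ k := fun g =>
      (d.exists_eq_mul_pow hp3 hess x.2 hxE (mem_normalizerIn_of_normal hES hn g.2)).2
    set q := QuotientGroup.mk' (E.subgroupOf S)
    have hgen : ∀ y : S ⧸ E.subgroupOf S, y ∈ Subgroup.zpowers (q x') := by
      intro y
      obtain ⟨g, rfl⟩ := QuotientGroup.mk'_surjective _ y
      obtain ⟨k, e, he, hge⟩ := hk g
      have : g = ⟨e, hES he⟩ * x' ^ k := Subtype.ext (by simpa using hge)
      rw [this, map_mul, map_pow, show q ⟨e, hES he⟩ = 1 from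
        (QuotientGroup.eq_one_iff _).2 (Subgroup.mem_subgroupOf.2 he), one_mul]
      exact Subgroup.pow_mem _ (Subgroup.mem_zpowers _) k
    rw [Subgroup.index, ← orderOf_eq_card_of_forall_mem_zpowers hgen]
    refine orderOf_dvd_of_pow_eq_one ?_
    rw [← map_pow]
    exact (QuotientGroup.eq_one_iff _).2 (Subgroup.mem_subgroupOf.2 (by
      simpa using (d.exists_eq_mul_pow hp3 hess x.2 hxE x.2).1))
  · -- two generators
    obtain ⟨j, hj⟩ := hEp.index (frattini ↥E)
    rw [hj] at h3 hidx
    have hj' := (Nat.pow_le_pow_iff_right hp.one_lt).1 hidx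
    have hidx2 : (frattini ↥E).index ≤ p ^ 2 := by
      rw [hj]
      refine Nat.pow_le_pow_right hp.pos ?_
      by_contra hh
      exact h3 (by rw [show j = 3 by omega])
    have hi := FusionEssential.RankTwo.index_eq hS hF hess hidx2
    set E' := E.subgroupOf S with hE'
    set Φ : Subgroup S := ((frattini ↥E).map E.subtype).subgroupOf S with hΦ
    have hΦmem : ∀ {x : S}, x ∈ Φ ↔ ∃ h : (x : Ω) ∈ E, (⟨x, h⟩ : E) ∈ frattini ↥E := by
      intro x
      rw [hΦ, Subgroup.mem_subgroupOf]
      constructor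
      · rintro ⟨y, hy, hyx⟩
        have hxE : (x : Ω) ∈ E := hyx ▸ y.2
        have e : (⟨(x : Ω), hxE⟩ : E) = y := Subtype.ext hyx.symm
        exact ⟨hxE, e.symm ▸ hy⟩
      · rintro ⟨h, hm⟩; exact ⟨_, hm, rfl⟩
    have hΦE : Φ ≤ E' := fun x hx => Subgroup.mem_subgroupOf.2 (hΦmem.1 hx).1
    haveI hΦn : Φ.Normal := ⟨fun x hx g => by
      obtain ⟨h, hm⟩ := hΦmem.1 hx
      have hg := mem_normalizerIn_of_normal hES hn g.2
      exact hΦmem.2 ⟨conj_mem_of_normalizer hg.2 h,
        Resistant67.aut_mem_frattini (E.normalizerMonoidHom ⟨g, hg.2⟩) hm⟩⟩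
    have hrel : Φ.relIndex E' = p ^ 2 := by
      rw [hΦ, hE', Subgroup.relIndex_subgroupOf hES]
      show (((frattini ↥E).map E.subtype).subgroupOf E).index = p ^ 2
      rw [Subgroup.subgroupOf, Subgroup.comap_map_eq_self_of_injective E.subtype_injective, hi]
    set π := QuotientGroup.mk' Φ
    haveI : (E'.map π).Normal := hn.map π (QuotientGroup.mk'_surjective Φ)
    have hcard : Nat.card (E'.map π) = p ^ 2 := (Side.relIndex_eq_card hΦE).trans hrel
    obtain ⟨Z, hZE, hZc, hZn, hZcard⟩ := PGroups.exists_central_card_prime (hS.to_quotient Φ) (E'.map π)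
      (fun h => by
        rw [h, Subgroup.card_bot] at hcard
        exact (Nat.one_lt_pow two_ne_zero hp.one_lt).ne hcard)
    haveI := hZn
    obtain ⟨vq, hvq, hvZ⟩ : ∃ v ∈ E'.map π, v ∉ Z := by
      by_contra hh
      push Not at hh
      have := Subgroup.card_le_of_le (show E'.map π ≤ Z from hh)
      rw [hcard, hZcard] at this
      nlinarith [hp.one_lt]
    have hZi : Z.relIndex (E'.map π) = p := by
      have := card_mul_relIndex hZE
      rw [hZcard, hcard, sq] at this
      exact Nat.eq_of_mul_eq_mul_left hp.pos this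
    have hcomm : ∀ g : S ⧸ Φ, ⁅g, vq⁆ ∈ Z := fun g =>
      commutatorElement_def g vq ▸ comm_mem_of_relIndex (hS.to_quotient Φ) hZE hZi g hvq
    let μ : S →* S ⧸ Φ :=
      { toFun := fun g => ⁅π g, vq⁆
        map_one' := by rw [map_one, commutatorElement_one_left]
        map_mul' := fun a b => by
          rw [map_mul]
          have hb := hZc (hcomm (π b))
          rw [show ⁅π a * π b, vq⁆ = π a * ⁅π b, vq⁆ * (π a)⁻¹ * ⁅π a, vq⁆ by
            simp only [commutatorElement_def]; group, Subgroup.mem_center_iff.1 hb (π a), mul_inv_cancel_right,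
            Subgroup.mem_center_iff.1 hb _] }
    have hker : μ.ker ≤ E' := by
      intro g hg
      have hgv : ⁅π g, vq⁆ = 1 := hg
      have hgN := mem_normalizerIn_of_normal hES hn g.2
      refine Subgroup.mem_subgroupOf.2 (Resistant67.mem_of_trivial_frattini hS hF hess (g := ⟨g, hgN⟩)
        fun x => ?_)
      have hxE : π ⟨x, hES x.2⟩ ∈ E'.map π := ⟨_, Subgroup.mem_subgroupOf.2 x.2, rfl⟩
      have hc : Commute (π g) (π ⟨x, hES x.2⟩) := by
        obtain ⟨c, hc, k, hk⟩ := exists_pow_mul_relIndex hZi hvq hvZ hxE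
        rw [hk]
        exact ((commute_of_mem_center (hZc hc)).symm).mul_right
          ((commutatorElement_eq_one_iff_commute.1 hgv).pow_right k)
      have h1 : (⟨x, hES x.2⟩ : S)⁻¹ * (g * ⟨x, hES x.2⟩ * g⁻¹) ∈ Φ := by
        rw [← QuotientGroup.eq_one_iff]
        show π _ = 1
        rw [map_mul, map_inv, map_mul, map_mul, map_inv, hc.eq, mul_inv_cancel_right, inv_mul_cancel]
      obtain ⟨h, hm⟩ := hΦmem.1 h1
      convert hm using 1
      exact Subtype.ext rfl
    have hr : μ.range ≤ Z := by rintro _ ⟨g, rfl⟩; exact hcomm (π g)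
    have hd : μ.ker.index ∣ p := by
      rw [Subgroup.index_ker]
      exact hZcard ▸ Subgroup.card_dvd_of_le hr
    exact (Subgroup.index_dvd_of_le hker).trans hd

/-- The automorphisms of a subgroup of `S` seen inside `S`. -/
noncomputable def autIn {E : Subgroup Ω} (hES : E ≤ S) : MulAut E ≃* MulAut (E.subgroupOf S) :=
  MulAut.congr (Subgroup.subgroupOfEquivOfLe hES).symm

theorem autIn_apply {E : Subgroup Ω} (hES : E ≤ S) (α : MulAut E) (x : E.subgroupOf S) :
    (((autIn hES α x : E.subgroupOf S) : S) : Ω) = (α ⟨(x : S), Subgroup.mem_subgroupOf.1 x.2⟩ : Ω) := rfl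

variable (hS : IsPGroup p S) (hF : F.IsSaturated p) {E : Subgroup Ω} (hess : F.IsEssential p E)
  (hn : (E.subgroupOf S).Normal) (H : Subgroup (MulAut S)) (hH : H ≤ F.autGroup S)
  (hpres : ∀ b ∈ H, ∀ x : S, (x : Ω) ∈ E → (b x : Ω) ∈ E)
  (hmax : ∀ b ∈ F.autGroup S, (∀ x : S, (x : Ω) ∈ E → (b x : Ω) ∈ E) → b ∈ H)

/-- The side of a normal essential subgroup. -/
noncomputable def sideOfEssential : Side p S (E.subgroupOf S) H H.subtype :=
  haveI : Finite E := finite_sub hess.2.1.1
  { A := F.autGroup E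
    act := (autIn hess.2.1.1).toMonoidHom.comp (F.autGroup E).subtype
    R := (fullyAutomized_of_fullyNormalized hS hF hess.2.1).2.choose
    conjR := fun g => by
      have hg := mem_normalizerIn_of_normal hess.2.1.1 hn g.2
      refine ⟨conjN F hess.2.1.1 ⟨g, hg⟩, ?_, fun x => ?_⟩
      · rw [(fullyAutomized_of_fullyNormalized hS hF hess.2.1).2.choose_spec, ← Resistant67.conjN_range hess.2.1.1]
        exact ⟨_, rfl⟩
      · exact Subtype.ext rfl
    innR := fun r hr => by
      rw [(fullyAutomized_of_fullyNormalized hS hF hess.2.1).2.choose_spec, Subgroup.mem_subgroupOf,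
        mem_autInducedBy] at hr
      obtain ⟨g, hg, he⟩ := hr
      exact ⟨⟨g, hg⟩, fun x => Subtype.ext (he _)⟩
    ext := fun a ha => by
      have hES : E ≤ S := hess.2.1.1
      have hR := (fullyAutomized_of_fullyNormalized hS hF hess.2.1).2.choose_spec
      obtain ⟨φ, hφ, hr, he⟩ := exists_hom_of_aut hES a.2
      obtain ⟨ψ, hψ, hψe⟩ := (receptive_of_fullyNormalized hS hF hess.2.1).2 E φ hφ hr
      have hext : S ≤ extender S E φ := by
        intro g hg
        have hgN := mem_normalizerIn_of_normal hES hn hg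
        have h1 := (Subgroup.mem_normalizer_iff.1 ha (conjN F hES ⟨g, hgN⟩)).1 (by
          rw [hR, ← Resistant67.conjN_range hess.2.1.1]; exact ⟨_, rfl⟩)
        rw [hR, Subgroup.mem_subgroupOf, mem_autInducedBy] at h1
        obtain ⟨h, hh, hhe⟩ := h1
        refine Subgroup.subset_closure ⟨hg, hgN.2, h, hh, fun x hx => ?_⟩
        rw [he, he, ← hhe]
        simp only [Subgroup.coe_mul, Subgroup.coe_inv, MulAut.mul_apply, MulAut.inv_apply_self]
        exact congrArg (fun y : E => ((a : MulAut E) y : Ω)) (Subtype.ext rfl)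
      obtain ⟨τ, hτ, hτe⟩ := exists_restrict hψ hext
      have hτr : τ.range = S := range_eq_of_mem hτ (apply_mem hτ) le_rfl
      have hb : homEquiv hτ hτr ∈ F.autGroup S := homEquiv_mem_autGroup hτ hτr
      have hval : ∀ (x : S) (hx : (x : Ω) ∈ E),
          ((homEquiv hτ hτr x : S) : Ω) = ((a : MulAut E) ⟨x, hx⟩ : Ω) := fun x hx => by
        rw [homEquiv_coe, hτe, ← he]
        exact hψe x hx (hext x.2)
      refine ⟨⟨homEquiv hτ hτr, hmax _ hb fun x hx => by rw [hval x hx]; exact SetLike.coe_mem _⟩,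
        fun x => Subtype.ext ?_⟩
      exact (hval _ (Subgroup.mem_subgroupOf.1 x.2)).trans (autIn_apply hES _ x).symm
    res := fun b => by
      have hES : E ≤ S := hess.2.1.1
      obtain ⟨φ, hφ, -, he⟩ := exists_hom_of_aut (le_refl S) (hH b.2)
      obtain ⟨ψ, hψ, hψe⟩ := exists_restrict hφ hES
      haveI := finite_sub hES
      have hval : ∀ x : E, ψ x ∈ E := fun x => by
        rw [hψe, he]
        exact hpres b b.2 ⟨x, hES x.2⟩ x.2
      have hr : ψ.range = E := range_eq_of_mem hψ hval le_rfl
      refine ⟨⟨homEquiv hψ hr, homEquiv_mem_autGroup hψ hr⟩, fun x => Subtype.ext ?_⟩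
      refine Eq.trans ?_ (autIn_apply hES _ x).symm
      show ((b : MulAut S) (x : S) : Ω) =
        (homEquiv hψ hr ⟨((x : S) : Ω), Subgroup.mem_subgroupOf.1 x.2⟩ : Ω)
      rw [homEquiv_coe, hψe, he]
    notp := by
      by_contra hno
      push Not at hno
      have hR := (fullyAutomized_of_fullyNormalized hS hF hess.2.1).2.choose_spec
      set R := (fullyAutomized_of_fullyNormalized hS hF hess.2.1).2.choose
      have hinj : Function.Injective ((autIn hess.2.1.1).toMonoidHom.comp (F.autGroup E).subtype) :=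
        (autIn hess.2.1.1).injective.comp (F.autGroup E).subtype_injective
      set K := Subgroup.normalClosure ((R : Subgroup (F.autGroup E)) : Set (F.autGroup E))
      have hKp : IsPGroup p K := by
        intro l
        have hp : p.Prime := Fact.out
        set m := (orderOf (l : F.autGroup E)).factorization p
        have h0 : orderOf (l : F.autGroup E) ≠ 0 := (orderOf_pos _).ne'
        have hcop : (orderOf ((l : F.autGroup E) ^ p ^ m)).Coprime p := by
          rw [orderOf_pow' _ (pow_ne_zero _ hp.ne_zero), Nat.gcd_eq_right (Nat.ordProj_dvd _ p)]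
          exact ((Nat.Prime.coprime_iff_not_dvd hp).2 (Nat.not_dvd_ordCompl hp h0)).symm
        have h1 := hno _ (K.pow_mem l.2 (p ^ m)) (by rwa [orderOf_injective _ hinj])
        exact ⟨m, Subtype.ext (hinj (by rw [SubgroupClass.coe_pow, h1, Subgroup.coe_one, map_one]))⟩
      obtain ⟨g, hg⟩ := Resistant67.exists_normalizer_not_mem hS hF hess
      refine hg (Resistant67.mem_of_normal_pGroup hS hF hess K Subgroup.normalClosure_normal hKp
        (Subgroup.le_normalClosure (?_ : conjN F hess.2.1.1 g ∈ (R : Subgroup (F.autGroup E)))))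
      rw [hR, ← Resistant67.conjN_range hess.2.1.1]
      exact ⟨g, rfl⟩ }

end Cfsg.Agent.Lib.TwoEssential
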