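import Cfsg.Agent.Lib.TwoEssential.Facts

/-!
# The two possible configurations of a pair

In both of them neither side leaves the intersection of the two subgroups invariant, and in the
symplectic one the elementary subgroup is irreducible.
-/

set_option autoImplicit false
set_option linter.style.haveILetI false

universe u

namespace Cfsg.Agent.Lib.TwoEssential

open Subgroup
open scoped commutatorElement

variable {p : ℕ} {P : Type u} [Group P]

/-- Both subgroups are abelian over a central cyclic subgroup of index `p ^ 3`. -/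
structure LC (X : Pair p P) (T : Subgroup P) : Prop where
  le : T ≤ X.D
  inv1 : X.s1.Inv T
  inv2 : X.s2.Inv T
  central : T ≤ center P
  cyclic : IsCyclic T
  index : T.index = p ^ 3
  comm1 : ∀ x ∈ X.E1, ∀ y ∈ X.E1, x * y = y * x
  comm2 : ∀ x ∈ X.E2, ∀ y ∈ X.E2, x * y = y * x
  pow1 : ∀ x ∈ X.E1, x ^ p ∈ T
  pow2 : ∀ x ∈ X.E2, x ^ p ∈ T
  z0 : ∃ x ∈ X.E1, ∃ y ∈ X.E2, ⁅x, y⁆ ∈ center P ∧ ⁅x, y⁆ ^ p = 1 ∧ ⁅x, y⁆ ∉ T

/-- The first subgroup is elementary of order `p ^ 3`, the second one extraspecial of exponent `p`. -/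
structure Sp (X : Pair p P) : Prop where
  card : Nat.card P = p ^ 4
  comm1 : ∀ x ∈ X.E1, ∀ y ∈ X.E1, x * y = y * x
  pow1 : ∀ x ∈ X.E1, x ^ p = 1
  pow2 : ∀ x ∈ X.E2, x ^ p = 1
  ncomm2 : ∃ x ∈ X.E2, ∃ y ∈ X.E2, x * y ≠ y * x
  center : Nat.card (center P) = p

/-- The configurations. -/
def Outcome (X : Pair p P) : Prop := (∃ T, LC X T) ∨ Sp X ∨ Sp X.swap

theorem LC.swap {X : Pair p P} {T : Subgroup P} (h : LC X T) : LC X.swap T where
  le := X.swap_D.symm ▸ h.le
  inv1 := h.inv2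
  inv2 := h.inv1
  central := h.central
  cyclic := h.cyclic
  index := h.index
  comm1 := h.comm2
  comm2 := h.comm1
  pow1 := h.pow2
  pow2 := h.pow1
  z0 := by
    obtain ⟨x, hx, y, hy, h1, h2, h3⟩ := h.z0
    refine ⟨y, hy, x, hx, ?_, ?_, ?_⟩ <;> rw [← commutatorElement_inv]
    · exact inv_mem h1
    · rw [inv_pow, h2, inv_one]
    · exact fun e => h3 (inv_inv ⁅x, y⁆ ▸ inv_mem e)

theorem Outcome.swap {X : Pair p P} (h : Outcome X) : Outcome X.swap := by
  rcases h with ⟨T, h⟩ | h | h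
  · exact Or.inl ⟨T, h.swap⟩
  · exact Or.inr (Or.inr h)
  · exact Or.inr (Or.inl h)

/-- The commutator with a power, when the commutator is central. -/
theorem comm_pow_left {Q : Type*} [Group Q] {x y : Q} (h : ⁅x, y⁆ ∈ Subgroup.center Q) (k : ℕ) :
    ⁅x ^ k, y⁆ = ⁅x, y⁆ ^ k := by
  induction k with
  | zero => simp
  | succ k ih =>
    have hc : x ^ k * ⁅x, y⁆ = ⁅x, y⁆ * x ^ k := mem_center_iff.1 h _
    calc ⁅x ^ (k + 1), y⁆ = x ^ k * ⁅x, y⁆ * (x ^ k)⁻¹ * ⁅x ^ k, y⁆ := by
          rw [pow_succ, commutatorElement_def, commutatorElement_def, commutatorElement_def]; group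
      _ = ⁅x, y⁆ ^ (k + 1) := by rw [hc, mul_inv_cancel_right, ih, ← pow_succ']

/-- The commutator with an inverse, when the commutator is central. -/
theorem comm_inv_right {Q : Type*} [Group Q] {x y : Q} (h : ⁅x, y⁆ ∈ Subgroup.center Q) :
    ⁅x, y⁻¹⁆ = ⁅x, y⁆⁻¹ := by
  have hc : y⁻¹ * ⁅x, y⁆⁻¹ = ⁅x, y⁆⁻¹ * y⁻¹ := mem_center_iff.1 (inv_mem h) _
  calc ⁅x, y⁻¹⁆ = y⁻¹ * ⁅x, y⁆⁻¹ * y := by
        rw [commutatorElement_def, commutatorElement_def]; group
    _ = ⁅x, y⁆⁻¹ := by rw [hc, inv_mul_cancel_right]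

/-- The commutator with a product, when the second commutator is central. -/
theorem comm_mul_right' {Q : Type*} [Group Q] {x y z : Q} (h : ⁅x, z⁆ ∈ Subgroup.center Q) :
    ⁅x, y * z⁆ = ⁅x, y⁆ * ⁅x, z⁆ := by
  have hc : y * ⁅x, z⁆ = ⁅x, z⁆ * y := mem_center_iff.1 h _
  calc ⁅x, y * z⁆ = ⁅x, y⁆ * (y * ⁅x, z⁆ * y⁻¹) := by
        simp only [commutatorElement_def]; group
    _ = ⁅x, y⁆ * ⁅x, z⁆ := by rw [hc, mul_inv_cancel_right]

/-- Commutation with two elements abelian to each other. -/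
theorem comm_mul_left_abelian {Q : Type*} [Group Q] {m g y : Q} (h1 : m * y = y * m)
    (h2 : m * ⁅g, y⁆ = ⁅g, y⁆ * m) : ⁅m * g, y⁆ = ⁅g, y⁆ := by
  calc ⁅m * g, y⁆ = m * ⁅g, y⁆ * m⁻¹ * (m * y * m⁻¹ * y⁻¹) := by
        simp only [commutatorElement_def]; group
    _ = ⁅g, y⁆ := by rw [h1, h2, mul_inv_cancel_right, mul_inv_cancel_right, mul_inv_cancel, mul_one]

variable [Fact p.Prime]

namespace Pair

variable (X : Pair p P)

theorem D_normal : X.D.Normal := by
  haveI := X.n1; haveI := X.n2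
  exact Subgroup.normal_inf_normal _ _

theorem relIndex_D1 : X.D.relIndex X.E1 = p := by
  have h := relIndex_mul_index (inf_le_left : X.D ≤ X.E1)
  rw [X.i1, X.index_D, sq] at h
  exact Nat.eq_of_mul_eq_mul_right (Fact.out : p.Prime).pos h

theorem relIndex_D2 : X.D.relIndex X.E2 = p := by
  have h := relIndex_mul_index (inf_le_right : X.D ≤ X.E2)
  rw [X.i2, X.index_D, sq] at h
  exact Nat.eq_of_mul_eq_mul_right (Fact.out : p.Prime).pos h

theorem comm_mem_D {a b : P} (ha : a ∈ X.E1) (hb : b ∈ X.E2) : ⁅a, b⁆ ∈ X.D := by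
  rw [commutatorElement_def]
  refine ⟨?_, X.E2.mul_mem (X.n2.conj_mem b hb a) (X.E2.inv_mem hb)⟩
  rw [mul_assoc a, mul_assoc a]
  exact X.E1.mul_mem ha (X.n1.conj_mem _ (X.E1.inv_mem ha) b)

theorem exists_out1 : ∃ e ∈ X.E1, e ∉ X.E2 := by
  by_contra h
  push Not at h
  have := X.relIndex_D1
  rw [relIndex_eq_one.2 (fun x hx => (⟨hx, h x hx⟩ : x ∈ X.D))] at this
  exact (Fact.out : p.Prime).one_lt.ne this

theorem exists_out2 : ∃ x ∈ X.E2, x ∉ X.E1 := X.swap.exists_out1

theorem exists_eq_mul {x : P} (hx : x ∉ X.E1) (g : P) : ∃ m ∈ X.E1, ∃ k : ℕ, g = m * x ^ k := by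
  haveI := X.n1
  exact exists_pow_mul X.i1 hx g

variable [Finite P]

theorem center_le_D (hP : IsPGroup p P) : center P ≤ X.D :=
  le_inf (X.s1.center_le hP X.n1 X.i1) (X.s2.center_le hP X.n2 X.i2)

/-- An element centralising both subgroups is central. -/
theorem mem_center {g : P} (h1 : ∀ y ∈ X.E1, g * y = y * g) (h2 : ∀ y ∈ X.E2, g * y = y * g) :
    g ∈ center P := mem_center_iff.2 fun y => by
  obtain ⟨a, ha, b, hb, rfl⟩ := X.exists_mul y
  rw [mul_assoc, ← h2 b hb, ← mul_assoc, ← h1 a ha, mul_assoc]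

end Pair

namespace Sp

variable [Finite P] {X : Pair p P} (h : Sp X) (hP : IsPGroup p P)
include h

theorem card_E1 : Nat.card X.E1 = p ^ 3 := by
  have := X.E1.card_mul_index
  rw [X.i1, h.card, pow_succ] at this
  exact Nat.eq_of_mul_eq_mul_right (Fact.out : p.Prime).pos this

theorem card_E2 : Nat.card X.E2 = p ^ 3 := by
  have := X.E2.card_mul_index
  rw [X.i2, h.card, pow_succ] at this
  exact Nat.eq_of_mul_eq_mul_right (Fact.out : p.Prime).pos this

theorem card_D : Nat.card X.D = p ^ 2 := by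
  have := card_mul_relIndex (inf_le_left : X.D ≤ X.E1)
  rw [X.relIndex_D1, h.card_E1, pow_succ] at this
  exact Nat.eq_of_mul_eq_mul_right (Fact.out : p.Prime).pos this

include hP in
theorem relIndex_center : (Subgroup.center P).relIndex X.D = p := by
  have := card_mul_relIndex (X.center_le_D hP)
  rw [h.center, h.card_D, sq] at this
  exact Nat.eq_of_mul_eq_mul_left (Fact.out : p.Prime).pos this

include hP in
theorem comm_D {x : P} (g : P) (hx : x ∈ X.D) : ⁅g, x⁆ ∈ Subgroup.center P := by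
  haveI := X.D_normal
  exact commutatorElement_def g x ▸ comm_mem_of_relIndex hP (X.center_le_D hP) (h.relIndex_center hP) g hx

include hP in
theorem inv_center2 : X.s2.Inv (Subgroup.center P) := by
  have e : X.E2 ⊓ centralizer (X.E2 : Set P) = Subgroup.center P := by
    refine le_antisymm ?_ fun g hg =>
      ⟨(X.center_le_D hP hg).2, mem_centralizer_iff.2 fun y _ => mem_center_iff.1 hg y⟩
    rintro g ⟨hg2, hg⟩
    have hg' : ∀ y ∈ X.E2, g * y = y * g := fun y hy => (mem_centralizer_iff.1 hg y hy).symm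
    by_cases hg1 : g ∈ X.E1
    · exact X.mem_center (fun y hy => h.comm1 g hg1 y hy) hg'
    · exfalso
      obtain ⟨x, hx, y, hy, hxy⟩ := h.ncomm2
      apply hxy
      haveI := X.D_normal
      have hgD : g ∉ X.D := fun hh => hg1 hh.1
      obtain ⟨m, hm, i, rfl⟩ := exists_pow_mul_relIndex X.relIndex_D2 hg2 hgD hx
      obtain ⟨n, hn, j, rfl⟩ := exists_pow_mul_relIndex X.relIndex_D2 hg2 hgD hy
      have hmn : Commute m n := h.comm1 m hm.1 n hn.1
      have hmg : Commute m g := (hg' m hm.2).symm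
      have hng : Commute n g := (hg' n hn.2).symm
      exact ((hmn.mul_right (hmg.pow_right j)).mul_left
        (((hng.pow_right i).symm).mul_right ((Commute.refl g).pow_pow i j))).eq
  exact e ▸ X.s2.inv_cent X.s2.inv_self le_rfl

include hP in
theorem not_inv_D2 : ¬ X.s2.Inv X.D := fun hD =>
  X.s2.no_flag hP (h.inv_center2 hP) hD (X.center_le_D hP) inf_le_right X.relIndex_D2
    (h.relIndex_center hP) le_rfl

include hP in
/-- The commutator of an outer element with an element of the intersection. -/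
theorem comm_ne_one {x d : P} (hx : x ∈ X.E2) (hx1 : x ∉ X.E1) (hd : d ∈ X.D)
    (hdZ : d ∉ Subgroup.center P) : ⁅x, d⁆ ≠ 1 := fun e' =>
  hdZ (X.mem_center (fun y hy => h.comm1 d hd.1 y hy) fun y hy => by
    haveI := X.D_normal
    obtain ⟨m, hm, k, rfl⟩ := exists_pow_mul_relIndex X.relIndex_D2 hx (fun hh => hx1 hh.1) hy
    have hdx : Commute d x := (commutatorElement_eq_one_iff_commute.1 e').symm
    exact ((show Commute d m from h.comm1 d hd.1 m hm.1).mul_right (hdx.pow_right k)).eq)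

include hP in
/-- The commutator of two outer elements. -/
theorem comm_not_center {x e : P} (hx : x ∈ X.E2) (hx1 : x ∉ X.E1) (he : e ∈ X.E1) (he2 : e ∉ X.E2) :
    ⁅x, e⁆ ∉ Subgroup.center P := by
  set Z := Subgroup.center P
  have hZD : Z ≤ X.D := X.center_le_D hP
  obtain ⟨d, hd, hdZ⟩ : ∃ d ∈ X.D, d ∉ Z := by
    by_contra hh
    push Not at hh
    have := h.relIndex_center hP
    rw [relIndex_eq_one.2 hh] at this
    exact (Fact.out : p.Prime).one_lt.ne this
  set w := ⁅x, e⁆ with hw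
  set z := ⁅x, d⁆ with hz
  have hzZ : z ∈ Z := h.comm_D hP x hd
  have hz1 : z ≠ 1 := h.comm_ne_one hP hx hx1 hd hdZ
  intro hwZ
  obtain ⟨m, hm⟩ := Side.exists_pow_of_prime h.center hzZ hz1 hwZ
  set y := e * (d ^ m)⁻¹ with hy
  have hdm : ⁅x, d ^ m⁆ = z ^ m := by
    have h1 : ⁅d, x⁆ ∈ Subgroup.center P := by rw [← commutatorElement_inv]; exact inv_mem hzZ
    rw [← commutatorElement_inv, comm_pow_left h1, ← inv_pow, commutatorElement_inv]
  have hxy : ⁅x, y⁆ = 1 := by
    rw [hy, comm_mul_right', comm_inv_right, hdm, ← hw, hm, mul_inv_cancel]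
    · rw [hdm]; exact pow_mem hzZ m
    · rw [comm_inv_right (by rw [hdm]; exact pow_mem hzZ m), hdm]; exact inv_mem (pow_mem hzZ m)
  have hy1 : y ∈ X.E1 := X.E1.mul_mem he (X.E1.inv_mem (X.E1.pow_mem hd.1 m))
  have : y ∈ Z := X.mem_center (fun v hv => h.comm1 y hy1 v hv) fun v hv => by
    haveI := X.D_normal
    obtain ⟨n, hn, k, rfl⟩ := exists_pow_mul_relIndex X.relIndex_D2 hx (fun hh => hx1 hh.1) hv
    exact ((show Commute y n from h.comm1 y hy1 n hn.1).mul_right
      ((commutatorElement_eq_one_iff_commute.1 hxy).symm.pow_right k)).eq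
  exact he2 (by
    have := X.E2.mul_mem (hZD this).2 (X.E2.pow_mem hd.2 m)
    rwa [hy, inv_mul_cancel_right] at this)

include hP in
/-- The elementary subgroup is irreducible. -/
theorem irred (hp2 : p ≠ 2) {M : Subgroup P} (hM : X.s1.Inv M) (hME : M ≤ X.E1) :
    M = ⊥ ∨ M = X.E1 := by
  have hp : p.Prime := Fact.out
  by_contra hne
  push Not at hne
  obtain ⟨hMb, hMt⟩ := hne
  haveI := X.s1.inv_normal hM hME
  set Z := Subgroup.center P
  have hZD : Z ≤ X.D := X.center_le_D hP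
  have hZM : Z ≤ M := by
    have hne' := PGroups.normal_inf_center_ne_bot hP M hMb
    rcases (Nat.dvd_prime hp).1 (h.center ▸ card_dvd_of_le (inf_le_right : M ⊓ Z ≤ Z)) with e | e
    · exact absurd (Subgroup.eq_bot_of_card_eq _ e) hne'
    · have := Subgroup.eq_of_le_of_card_ge (inf_le_right : M ⊓ Z ≤ Z) (by rw [e, h.center])
      exact this ▸ inf_le_left
  -- the data of the Jordan block
  obtain ⟨x, hx, hx1⟩ := X.exists_out2
  obtain ⟨e, he, he2⟩ := X.exists_out1
  obtain ⟨d, hd, hdZ⟩ : ∃ d ∈ X.D, d ∉ Z := by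
    by_contra hh
    push Not at hh
    have := h.relIndex_center hP
    rw [relIndex_eq_one.2 hh] at this
    exact hp.one_lt.ne this
  set w := ⁅x, e⁆ with hw
  set z := ⁅x, d⁆ with hz
  have hzZ : z ∈ Z := h.comm_D hP x hd
  have hzp : z ^ p = 1 := h.pow1 z ((hZD hzZ).1)
  have hz1 : z ≠ 1 := h.comm_ne_one hP hx hx1 hd hdZ
  have hwD : w ∈ X.D := by
    rw [hw, ← commutatorElement_inv]; exact inv_mem (X.comm_mem_D he hx)
  have hwZ : w ∉ Z := h.comm_not_center hP hx hx1 he he2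
  -- the sections
  obtain ⟨j, hj, hjc⟩ := (Nat.dvd_prime_pow hp).1 (h.card_E1 ▸ card_dvd_of_le hME)
  have hrel := card_mul_relIndex hME
  rw [hjc, h.card_E1] at hrel
  have hZle : p ^ 1 ≤ p ^ j := by
    rw [pow_one, ← hjc, ← h.center]; exact Subgroup.card_le_of_le hZM
  have hj1 : 1 ≤ j := (Nat.pow_le_pow_iff_right hp.one_lt).1 hZle
  have hj2 : j < 3 := by
    by_contra hh
    have : j = 3 := by omega
    exact hMt (Subgroup.eq_of_le_of_card_ge hME (by rw [hjc, h.card_E1, this]))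
  -- transport of the commutator map
  obtain ⟨n, hn, hnN, hnc, hsign⟩ : ∃ n ∈ X.s1.L,
      n ∈ normalizer ((X.s1.R : Subgroup X.s1.A) : Set X.s1.A) ∧ (orderOf (X.s1.act n)).Coprime p ∧
      ((X.s1.app n z = z ∧ X.s1.app n d * d ∈ Z ∧ X.s1.app n e * e ∈ Z ∧ (X.s1.app n w) * w ∈ Z) ∨
       (X.s1.app n z = z⁻¹ ∧ X.s1.app n d = d⁻¹ ∧ X.s1.app n e * e⁻¹ ∈ X.D ∧ X.s1.app n w = w⁻¹)) := by
    interval_cases j
    · have hMZ : Z = M := Subgroup.eq_of_le_of_card_ge hZM (by rw [hjc, h.center, pow_one])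
      subst hMZ
      have hnat : X.s1.Nat2 Z X.E1 := by
        refine ⟨hM, X.s1.inv_self, hME, le_rfl, ?_, fun a ha b hb => ?_, fun a ha => ?_, ?_⟩
        · exact Nat.eq_of_mul_eq_mul_left hp.pos (by rw [pow_one] at hrel; rw [hrel]; ring)
        · rw [h.comm1 a ha b hb, mul_inv_cancel_right, mul_inv_cancel]; exact one_mem _
        · rw [h.pow1 a ha]; exact one_mem _
        · exact X.s1.not_ct_of_ct_bot hP hME (X.s1.ct_bot_of_central hM hME le_rfl)
      obtain ⟨n, hn, hnN, hnc, hneg⟩ := hnat.exists_neg X.s1 hP hp2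
      exact ⟨n, hn, hnN, hnc, Or.inl ⟨X.s1.fix_central hM hME le_rfl hn hzZ, hneg d hd.1, hneg e he,
        hneg w hwD.1⟩⟩
    · have hxM : ∀ m ∈ M, ⁅x, m⁆ ∈ Z := by
        intro m hm
        have hi : Z.relIndex M = p := by
          have := card_mul_relIndex hZM
          rw [h.center, hjc, sq] at this
          exact Nat.eq_of_mul_eq_mul_left hp.pos this
        exact commutatorElement_def x m ▸ comm_mem_of_relIndex hP hZM hi x hm
      have hMD : M ≤ X.D := by
        intro m hm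
        by_contra hmD
        haveI := X.D_normal
        obtain ⟨d', hd', k, hk⟩ := exists_pow_mul_relIndex X.relIndex_D1 (hME hm) hmD he
        apply hwZ
        have h2 := hxM _ (M.pow_mem hm k)
        rw [hw, hk, comm_mul_right' h2]
        exact mul_mem (h.comm_D hP x hd') h2
      have hMD' : M = X.D := Subgroup.eq_of_le_of_card_ge hMD (by rw [hjc, h.card_D])
      have hD := hMD' ▸ hM
      have hnat : X.s1.Nat2 ⊥ X.D := by
        refine ⟨X.s1.inv_bot, hD, bot_le, inf_le_left, ?_, fun a ha b hb => ?_, fun a ha => ?_, ?_⟩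
        · rw [relIndex_bot_left, h.card_D]
        · rw [mem_bot, h.comm1 a ha.1 b hb.1, mul_inv_cancel_right, mul_inv_cancel]
        · rw [mem_bot, h.pow1 a ha.1]
        · exact fun hc => X.s1.not_ct_of_ct_bot hP inf_le_left hc
            (X.s1.ct_step hP hD X.s1.inv_self inf_le_left le_rfl X.relIndex_D1)
      obtain ⟨n, hn, hnN, hnc, hneg⟩ := hnat.exists_neg X.s1 hP hp2
      have hneg' : ∀ y ∈ X.D, X.s1.app n y = y⁻¹ := fun y hy =>
        eq_inv_of_mul_eq_one_left (mem_bot.1 (hneg y hy))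
      exact ⟨n, hn, hnN, hnc, Or.inr ⟨hneg' z (hZD hzZ), hneg' d hd,
        X.s1.ct_step hP hD X.s1.inv_self inf_le_left le_rfl X.relIndex_D1 n hn hnc e he, hneg' w hwD⟩⟩
  -- the effect of the extension on the outer element
  obtain ⟨b, hb⟩ := X.s1.exists_ext hnN
  obtain ⟨m, hm, k, hk⟩ := X.exists_eq_mul hx1 (X.bact b x)
  have hE : ∀ g : P, ∀ y ∈ X.E1, ⁅g, y⁆ ∈ X.E1 := fun g y hy =>
    commutatorElement_def g y ▸ X.E1.mul_mem (X.n1.conj_mem y hy g) (X.E1.inv_mem hy)
  have hψ : ∀ y ∈ X.E1, X.s1.app n ⁅x, y⁆ = ⁅x ^ k, X.s1.app n y⁆ := by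
    intro y hy
    have hny := X.s1.app_mem n hy
    rw [← hb _ (hE x y hy), map_commutatorElement, hk, hb y hy]
    exact comm_mul_left_abelian (h.comm1 m hm _ hny) (h.comm1 m hm _ (hE _ _ hny))
  haveI : Z.Normal := inferInstanceAs (Subgroup.center P).Normal
  set q := QuotientGroup.mk' Z
  have hqD : ∀ y ∈ X.D, q y ∈ Subgroup.center (P ⧸ Z) := fun y hy => mem_center_iff.2 fun gq => by
    obtain ⟨g, rfl⟩ := QuotientGroup.mk'_surjective Z gq
    refine (commutatorElement_eq_one_iff_commute.1 ?_).eq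
    rw [← map_commutatorElement]
    exact (QuotientGroup.eq_one_iff _).2 (h.comm_D hP g hy)
  have hzo : orderOf z = p := orderOf_eq_prime hzp hz1
  have hwp : orderOf (q w) ∣ p := orderOf_dvd_of_pow_eq_one (by
    rw [← map_pow, h.pow1 w hwD.1, map_one])
  have hcw : ⁅q x, q e⁆ ∈ Subgroup.center (P ⧸ Z) := by
    rw [← map_commutatorElement]; exact hqD w hwD
  have hzd : ⁅x, d⁆ ∈ Subgroup.center P := hzZ
  have hsq : q w * q w = 1 := by
    rcases hsign with ⟨hnz, hnd, hne', hnw⟩ | ⟨hnz, hnd, hne', hnw⟩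
    · have h1 := hψ d hd.1
      have hnd' : X.s1.app n d = (X.s1.app n d * d) * d⁻¹ := by group
      rw [← hz, hnz, hnd', comm_mul_right', comm_inv_right, (commutatorElement_eq_one_iff_commute.2
        (show Commute (x ^ k) (X.s1.app n d * d) from mem_center_iff.1 hnd _)), one_mul,
        comm_pow_left hzd, ← hz] at h1
      · have h2 : z ^ (k + 1) = 1 := by
          rw [pow_succ']; exact eq_inv_iff_mul_eq_one.1 h1
        have h3 : q w ^ (k + 1) = 1 :=
          orderOf_dvd_iff_pow_eq_one.1 (hwp.trans (hzo ▸ orderOf_dvd_of_pow_eq_one h2))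
        have h4 := congrArg q (hψ e he)
        have hne'' : q (X.s1.app n e) = (q e)⁻¹ :=
          eq_inv_of_mul_eq_one_left (by rw [← map_mul]; exact (QuotientGroup.eq_one_iff _).2 hne')
        rw [← hw, map_commutatorElement, map_pow, hne'', eq_inv_of_mul_eq_one_left
          (show q (X.s1.app n w) * q w = 1 by rw [← map_mul]; exact (QuotientGroup.eq_one_iff _).2 hnw),
          comm_inv_right (by rw [comm_pow_left hcw]; exact pow_mem hcw k), comm_pow_left hcw,
          ← map_commutatorElement, ← hw, inv_inj] at h4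
        rw [pow_succ, ← h4] at h3
        exact h3
      · rw [comm_pow_left hzd]; exact pow_mem hzd k
      · rw [comm_inv_right (by rw [comm_pow_left hzd]; exact pow_mem hzd k), comm_pow_left hzd]
        exact inv_mem (pow_mem hzd k)
    · have h1 := hψ d hd.1
      rw [← hz, hnz, hnd, comm_inv_right (by rw [comm_pow_left hzd]; exact pow_mem hzd k),
        comm_pow_left hzd, ← hz, inv_inj] at h1
      have h2 : k ≡ 1 [MOD p] := by
        have := pow_eq_pow_iff_modEq.1 (show z ^ k = z ^ 1 by rw [pow_one, ← h1])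
        rwa [hzo] at this
      have h3 : q w ^ k = q w := (pow_eq_pow_iff_modEq.2 (Nat.ModEq.of_dvd hwp h2)).trans (pow_one _)
      have h4 := congrArg q (hψ e he)
      have hne'' : q (X.s1.app n e) = q (X.s1.app n e * e⁻¹) * q e := by
        rw [← map_mul, inv_mul_cancel_right]
      have hc' : ⁅q x ^ k, q e⁆ ∈ Subgroup.center (P ⧸ Z) := by
        rw [comm_pow_left hcw]; exact pow_mem hcw k
      rw [← hw, map_commutatorElement, map_pow, hne'', comm_mul_right' hc',
        commutatorElement_eq_one_iff_commute.2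
          (show Commute (q x ^ k) (q (X.s1.app n e * e⁻¹)) from mem_center_iff.1 (hqD _ hne') _),
        one_mul, comm_pow_left hcw, ← map_commutatorElement, ← hw, h3, hnw, map_inv] at h4
      exact mul_eq_one_iff_eq_inv.2 h4.symm
  apply hwZ
  rw [← QuotientGroup.eq_one_iff]
  have h2 : q w ^ 2 = 1 := by rw [sq, hsq]
  have := pow_gcd_eq_one.2 ⟨h2, orderOf_dvd_iff_pow_eq_one.1 hwp⟩
  rwa [((Nat.coprime_primes Nat.prime_two hp).2 (Ne.symm hp2)).gcd_eq_one, pow_one] at this

include hP in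
theorem not_inv_D1 (hp2 : p ≠ 2) : ¬ X.s1.Inv X.D := fun hD => by
  rcases h.irred hP hp2 hD inf_le_left with e | e
  · have := h.card_D
    rw [e, card_bot] at this
    exact (Nat.one_lt_pow two_ne_zero (Fact.out : p.Prime).one_lt).ne this
  · have := X.relIndex_D1
    rw [e, relIndex_self] at this
    exact (Fact.out : p.Prime).one_lt.ne this

end Sp

theorem LC.relIndex_D [Finite P] {X : Pair p P} {T : Subgroup P} (h : LC X T) : T.relIndex X.D = p := by
  have := relIndex_mul_index h.le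
  rw [X.index_D, h.index] at this
  exact Nat.eq_of_mul_eq_mul_right (pow_pos (Fact.out : p.Prime).pos 2) (this.trans (by ring))

theorem LC.not_inv_D1 [Finite P] {X : Pair p P} {T : Subgroup P} (h : LC X T) (hP : IsPGroup p P) :
    ¬ X.s1.Inv X.D := fun hD =>
  X.s1.no_flag hP h.inv1 hD h.le inf_le_left X.relIndex_D1 h.relIndex_D h.central

/-- The intersection is never invariant. -/
theorem Outcome.not_inv_D [Finite P] {X : Pair p P} (h : Outcome X) (hP : IsPGroup p P) (hp2 : p ≠ 2) :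
    ¬ X.s1.Inv X.D ∧ ¬ X.s2.Inv X.D := by
  rcases h with ⟨T, h⟩ | h | h
  · exact ⟨h.not_inv_D1 hP, X.swap_D ▸ h.swap.not_inv_D1 hP⟩
  · exact ⟨h.not_inv_D1 hP hp2, h.not_inv_D2 hP⟩
  · exact ⟨X.swap_D ▸ h.not_inv_D2 hP, X.swap_D ▸ h.not_inv_D1 hP hp2⟩

end Cfsg.Agent.Lib.TwoEssential
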