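import Cfsg.Agent.Lib.TwoEssential.Natural

/-!
# Factor groups and the rank bound
-/

set_option autoImplicit false
set_option linter.style.haveILetI false

universe u

namespace Cfsg.Agent.Lib.TwoEssential

open Subgroup

variable {p : ℕ} {P : Type u} [Group P]

/-- An elementary abelian section has order at most `p ^ 3`. -/
theorem rank_le (hsr : SectionalPRankLE p 3 P) {H K : Subgroup P} [hKn : K.Normal]
    (hc : ∀ x ∈ H, ∀ y ∈ H, x * y * x⁻¹ * y⁻¹ ∈ K) (hpw : ∀ x ∈ H, x ^ p ∈ K) :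
    K.relIndex H ≤ p ^ 3 := by
  have hm : ∀ x : H, (x : H ⧸ K.subgroupOf H) = 1 ↔ (x : P) ∈ K := fun x =>
    (QuotientGroup.eq_one_iff x).trans Subgroup.mem_subgroupOf
  have hcom : ∀ a b : H ⧸ K.subgroupOf H, a * b = b * a := by
    intro a b
    induction a using QuotientGroup.induction_on with | H x =>
    induction b using QuotientGroup.induction_on with | H y =>
    rw [← commutatorElement_eq_one_iff_mul_comm, commutatorElement_def]
    exact (hm (x * y * x⁻¹ * y⁻¹)).2 (hc _ x.2 _ y.2)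
  have h := hsr H (K.subgroupOf H) ⊤ ⟨⟨fun a b => Subtype.ext (hcom a b)⟩⟩ fun a _ => by
    induction a using QuotientGroup.induction_on with | H x =>
    exact (hm (x ^ p)).2 (hpw _ x.2)
  rwa [Subgroup.card_top] at h

/-- The rank bound passes to factor groups. -/
theorem sectional_quotient {k : ℕ} (hsr : SectionalPRankLE p k P) (N : Subgroup P) [N.Normal] :
    SectionalPRankLE p k (P ⧸ N) := by
  intro H M _ A hA hAp
  let φ : H.comap (QuotientGroup.mk' N) →* H := (QuotientGroup.mk' N).subgroupComap H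
  have hφ : Function.Surjective φ := by
    rintro ⟨y, hy⟩
    obtain ⟨x, rfl⟩ := QuotientGroup.mk'_surjective N y
    exact ⟨⟨x, hy⟩, rfl⟩
  let ψ := (QuotientGroup.mk' M).comp φ
  let e := QuotientGroup.quotientKerEquivOfSurjective ψ ((QuotientGroup.mk'_surjective M).comp hφ)
  have := hsr _ ψ.ker (A.map e.symm.toMonoidHom) ?_ ?_
  · rwa [Nat.card_congr (A.equivMapOfInjective _ e.symm.injective).toEquiv.symm] at this
  · exact ⟨⟨fun a b => Subtype.ext (by
      obtain ⟨x, hx, hxa⟩ := a.2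
      obtain ⟨y, hy, hyb⟩ := b.2
      simp only [Subgroup.coe_mul, ← hxa, ← hyb, ← map_mul]
      exact congrArg _ (congrArg Subtype.val (hA.is_comm.comm ⟨x, hx⟩ ⟨y, hy⟩)))⟩⟩
  · rintro _ ⟨x, hx, rfl⟩
    rw [← map_pow, hAp x hx, map_one]

namespace Side

/-- A representative in `E` of an element of the image of `E`. -/
noncomputable def lift {E : Subgroup P} (N : Subgroup P) [hN : N.Normal]
    (y : ↥(E.map (@QuotientGroup.mk' P _ N hN))) : P := y.2.choose

theorem lift_mem {E : Subgroup P} (N : Subgroup P) [N.Normal] (y : ↥(E.map (QuotientGroup.mk' N))) :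
    lift N y ∈ E := y.2.choose_spec.1

theorem lift_eq {E : Subgroup P} (N : Subgroup P) [N.Normal] (y : ↥(E.map (QuotientGroup.mk' N))) :
    ((lift N y : P) : P ⧸ N) = y.1 := y.2.choose_spec.2

variable {E : Subgroup P} {B : Type u} [Group B] {bact : B →* MulAut P} (s : Side p P E B bact)
  (N : Subgroup P) [N.Normal]

/-- The action on the image of `E`. -/
noncomputable def qmap (a : s.A) (y : ↥(E.map (QuotientGroup.mk' N))) :
    ↥(E.map (QuotientGroup.mk' N)) :=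
  ⟨(s.app a (lift N y) : P ⧸ N), s.app a (lift N y), s.app_mem a (lift_mem N y), rfl⟩

variable {N}

theorem qmap_eq (hN : s.Inv N) (hNE : N ≤ E) (a : s.A) {y : ↥(E.map (QuotientGroup.mk' N))} {x : P}
    (hx : x ∈ E) (h : (x : P ⧸ N) = y.1) : (s.qmap N a y).1 = (s.app a x : P ⧸ N) :=
  s.app_congr hN hNE a (lift_mem N y) hx ((lift_eq N y).trans h.symm)

theorem qmap_mul (hN : s.Inv N) (hNE : N ≤ E) (a : s.A) (x y : ↥(E.map (QuotientGroup.mk' N))) :
    s.qmap N a (x * y) = s.qmap N a x * s.qmap N a y := by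
  refine Subtype.ext ?_
  rw [s.qmap_eq hN hNE a (E.mul_mem (lift_mem N x) (lift_mem N y))
    (by rw [QuotientGroup.mk_mul, lift_eq, lift_eq]; rfl), s.app_mul a (lift_mem N x) (lift_mem N y)]
  rfl

theorem qmap_comp (hN : s.Inv N) (hNE : N ≤ E) (a b : s.A) (y : ↥(E.map (QuotientGroup.mk' N))) :
    s.qmap N (a * b) y = s.qmap N a (s.qmap N b y) := by
  refine Subtype.ext ?_
  rw [s.qmap_eq hN hNE (a * b) (lift_mem N y) (lift_eq N y),
    s.qmap_eq hN hNE a (s.app_mem b (lift_mem N y)) (s.qmap_eq hN hNE b (lift_mem N y) (lift_eq N y)).symm,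
    s.mul_app a b (lift_mem N y)]

theorem qmap_one (hN : s.Inv N) (hNE : N ≤ E) (y : ↥(E.map (QuotientGroup.mk' N))) : s.qmap N 1 y = y := by
  refine Subtype.ext ?_
  rw [s.qmap_eq hN hNE 1 (lift_mem N y) (lift_eq N y), s.one_app, lift_eq]

/-- The automorphisms of the image of `E`. -/
noncomputable def qact (hN : s.Inv N) (hNE : N ≤ E) :
    s.A →* MulAut ↥(E.map (QuotientGroup.mk' N)) where
  toFun a :=
    { toFun := s.qmap N a
      invFun := s.qmap N a⁻¹
      left_inv := fun y => by rw [← s.qmap_comp hN hNE, inv_mul_cancel, s.qmap_one hN hNE]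
      right_inv := fun y => by rw [← s.qmap_comp hN hNE, mul_inv_cancel, s.qmap_one hN hNE]
      map_mul' := s.qmap_mul hN hNE a }
  map_one' := MulEquiv.ext (s.qmap_one hN hNE)
  map_mul' a b := MulEquiv.ext (s.qmap_comp hN hNE a b)

/-- The side on the factor group. -/
noncomputable def quot (hN : s.Inv N) (hNE : N ≤ E) (qb : B →* MulAut (P ⧸ N))
    (hqb : ∀ b (x : P), qb b (x : P ⧸ N) = (bact b x : P ⧸ N)) (hnt : ¬ s.CT N E) :
    Side p (P ⧸ N) (E.map (QuotientGroup.mk' N)) B qb where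
  A := s.A
  act := s.qact hN hNE
  R := s.R
  conjR g := by
    induction g using QuotientGroup.induction_on with | H g =>
    obtain ⟨r, hr, he⟩ := s.exists_conj g
    refine ⟨r, hr, fun y => ?_⟩
    show (s.qmap N r y).1 = _
    rw [s.qmap_eq hN hNE r (lift_mem N y) (lift_eq N y), he _ (lift_mem N y), QuotientGroup.mk_mul,
      QuotientGroup.mk_mul, QuotientGroup.mk_inv, lift_eq]
  innR r hr := by
    obtain ⟨g, hg⟩ := s.exists_of_R hr
    refine ⟨(g : P ⧸ N), fun y => ?_⟩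
    show (s.qmap N r y).1 = _
    rw [s.qmap_eq hN hNE r (lift_mem N y) (lift_eq N y), hg _ (lift_mem N y), QuotientGroup.mk_mul,
      QuotientGroup.mk_mul, QuotientGroup.mk_inv, lift_eq]
  ext a ha := by
    obtain ⟨b, hb⟩ := s.exists_ext ha
    refine ⟨b, fun y => ?_⟩
    show _ = (s.qmap N a y).1
    rw [s.qmap_eq hN hNE a (lift_mem N y) (lift_eq N y), ← lift_eq N y, hqb, hb _ (lift_mem N y)]
  res b := by
    obtain ⟨a, ha⟩ := s.exists_res b
    refine ⟨a, fun y => ?_⟩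
    show _ = (s.qmap N a y).1
    rw [s.qmap_eq hN hNE a (lift_mem N y) (lift_eq N y), ← lift_eq N y, hqb, ha _ (lift_mem N y)]
  notp := by
    unfold CT at hnt
    push Not at hnt
    obtain ⟨l, hl, hc, x, hx, hxN⟩ := hnt
    refine ⟨l, hl, Nat.Coprime.coprime_dvd_left ?_ hc, fun h => hxN ?_⟩
    · refine orderOf_dvd_of_pow_eq_one ?_
      rw [← map_pow]
      refine MulEquiv.ext fun y => Subtype.ext ?_
      show (s.qmap N _ y).1 = y.1
      rw [s.qmap_eq hN hNE _ (lift_mem N y) (lift_eq N y), s.app_of_mem _ (lift_mem N y), map_pow,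
        pow_orderOf_eq_one, MulAut.one_apply, lift_eq]
    · have h' := congrArg Subtype.val (DFunLike.congr_fun h
        (⟨(x : P ⧸ N), x, hx, rfl⟩ : ↥(E.map (QuotientGroup.mk' N))))
      change (s.qmap N l _).1 = (x : P ⧸ N) at h'
      rw [s.qmap_eq hN hNE l hx rfl] at h'
      rwa [← QuotientGroup.eq_one_iff, QuotientGroup.mk_mul, QuotientGroup.mk_inv, mul_inv_eq_one]

theorem quot_app (hN : s.Inv N) (hNE : N ≤ E) (qb : B →* MulAut (P ⧸ N))
    (hqb : ∀ b (x : P), qb b (x : P ⧸ N) = (bact b x : P ⧸ N)) (hnt : ¬ s.CT N E) (a : s.A) {x : P}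
    (hx : x ∈ E) : (s.quot hN hNE qb hqb hnt).app a (x : P ⧸ N) = (s.app a x : P ⧸ N) :=
  ((s.quot hN hNE qb hqb hnt).app_of_mem a ⟨x, hx, rfl⟩).trans (s.qmap_eq hN hNE a hx rfl)

theorem quot_inv_comap (hN : s.Inv N) (hNE : N ≤ E) (qb : B →* MulAut (P ⧸ N))
    (hqb : ∀ b (x : P), qb b (x : P ⧸ N) = (bact b x : P ⧸ N)) (hnt : ¬ s.CT N E) {T : Subgroup (P ⧸ N)}
    (hT : (s.quot hN hNE qb hqb hnt).Inv T) (hTE : T.comap (QuotientGroup.mk' N) ≤ E) :
    s.Inv (T.comap (QuotientGroup.mk' N)) := by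
  intro a x hx
  have := hT a (x : P ⧸ N) hx
  rwa [s.quot_app hN hNE qb hqb hnt a (hTE hx)] at this

theorem quot_inv_map (hN : s.Inv N) (hNE : N ≤ E) (qb : B →* MulAut (P ⧸ N))
    (hqb : ∀ b (x : P), qb b (x : P ⧸ N) = (bact b x : P ⧸ N)) (hnt : ¬ s.CT N E) {T : Subgroup P}
    (hT : s.Inv T) (hTE : T ≤ E) :
    (s.quot hN hNE qb hqb hnt).Inv (T.map (QuotientGroup.mk' N)) := by
  rintro a _ ⟨x, hx, rfl⟩
  exact ⟨s.app a x, hT a x hx, (s.quot_app hN hNE qb hqb hnt a (hTE hx)).symm⟩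

end Side

namespace Pair

variable (X : Pair p P) (N : Subgroup P) [N.Normal]

/-- The action of `B` on the factor group. -/
noncomputable def qbact (hN : X.s1.Inv N) (hNE : N ≤ X.E1) : X.B →* MulAut (P ⧸ N) where
  toFun b := QuotientGroup.congr N N (X.bact b) (by
    refine le_antisymm ?_ fun x hx => ?_
    · rintro _ ⟨x, hx, rfl⟩
      exact X.s1.inv_bact hN hNE b hx
    · refine ⟨X.bact b⁻¹ x, X.s1.inv_bact hN hNE b⁻¹ hx, ?_⟩
      show X.bact b (X.bact b⁻¹ x) = x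
      rw [← MulAut.mul_apply, ← map_mul, mul_inv_cancel, map_one, MulAut.one_apply])
  map_one' := MulEquiv.ext fun y => by
    induction y using QuotientGroup.induction_on with | H x =>
    show ((X.bact 1 x : P) : P ⧸ N) = x
    rw [map_one, MulAut.one_apply]
  map_mul' a b := MulEquiv.ext fun y => by
    induction y using QuotientGroup.induction_on with | H x =>
    show ((X.bact (a * b) x : P) : P ⧸ N) = ((X.bact a (X.bact b x) : P) : P ⧸ N)
    rw [map_mul, MulAut.mul_apply]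

theorem qbact_mk (hN : X.s1.Inv N) (hNE : N ≤ X.E1) (b : X.B) (x : P) :
    X.qbact N hN hNE b (x : P ⧸ N) = ((X.bact b x : P) : P ⧸ N) := rfl

/-- The pair on the factor group. -/
noncomputable def quot (h1 : X.s1.Inv N) (h2 : X.s2.Inv N) (hND : N ≤ X.D) (n1 : ¬ X.s1.CT N X.E1)
    (n2 : ¬ X.s2.CT N X.E2) : Pair p (P ⧸ N) where
  E1 := X.E1.map (QuotientGroup.mk' N)
  E2 := X.E2.map (QuotientGroup.mk' N)
  n1 := X.n1.map _ (QuotientGroup.mk'_surjective N)
  n2 := X.n2.map _ (QuotientGroup.mk'_surjective N)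
  i1 := by
    rw [Subgroup.index_map_eq _ (QuotientGroup.mk'_surjective N), X.i1]
    rw [QuotientGroup.ker_mk']; exact hND.trans inf_le_left
  i2 := by
    rw [Subgroup.index_map_eq _ (QuotientGroup.mk'_surjective N), X.i2]
    rw [QuotientGroup.ker_mk']; exact hND.trans inf_le_right
  ne := fun h => X.ne (by
    have := congrArg (Subgroup.comap (QuotientGroup.mk' N)) h
    rwa [Subgroup.comap_map_eq_self (by rw [QuotientGroup.ker_mk']; exact hND.trans inf_le_left),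
      Subgroup.comap_map_eq_self (by rw [QuotientGroup.ker_mk']; exact hND.trans inf_le_right)] at this)
  B := X.B
  bact := X.qbact N h1 (hND.trans inf_le_left)
  s1 := X.s1.quot h1 (hND.trans inf_le_left) _ (X.qbact_mk N _ _) n1
  s2 := X.s2.quot h2 (hND.trans inf_le_right) _ (X.qbact_mk N _ _) n2

theorem quot_app1 (h1 : X.s1.Inv N) (h2 : X.s2.Inv N) (hND : N ≤ X.D) (n1 : ¬ X.s1.CT N X.E1)
    (n2 : ¬ X.s2.CT N X.E2) (a : X.s1.A) {x : P} (hx : x ∈ X.E1) :
    (X.quot N h1 h2 hND n1 n2).s1.app a (x : P ⧸ N) = ((X.s1.app a x : P) : P ⧸ N) :=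
  X.s1.quot_app h1 (hND.trans inf_le_left) _ (X.qbact_mk N h1 (hND.trans inf_le_left)) n1 a hx

theorem quot_inv_map1 (h1 : X.s1.Inv N) (h2 : X.s2.Inv N) (hND : N ≤ X.D) (n1 : ¬ X.s1.CT N X.E1)
    (n2 : ¬ X.s2.CT N X.E2) {T : Subgroup P} (hT : X.s1.Inv T) (hTE : T ≤ X.E1) :
    (X.quot N h1 h2 hND n1 n2).s1.Inv (T.map (QuotientGroup.mk' N)) :=
  X.s1.quot_inv_map h1 (hND.trans inf_le_left) _ (X.qbact_mk N h1 (hND.trans inf_le_left)) n1 hT hTE

theorem quot_inv_comap1 (h1 : X.s1.Inv N) (h2 : X.s2.Inv N) (hND : N ≤ X.D) (n1 : ¬ X.s1.CT N X.E1)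
    (n2 : ¬ X.s2.CT N X.E2) {T : Subgroup (P ⧸ N)} (hT : (X.quot N h1 h2 hND n1 n2).s1.Inv T)
    (hTE : T.comap (QuotientGroup.mk' N) ≤ X.E1) : X.s1.Inv (T.comap (QuotientGroup.mk' N)) :=
  X.s1.quot_inv_comap h1 (hND.trans inf_le_left) _ (X.qbact_mk N h1 (hND.trans inf_le_left)) n1 hT hTE

theorem quot_app2 (h1 : X.s1.Inv N) (h2 : X.s2.Inv N) (hND : N ≤ X.D) (n1 : ¬ X.s1.CT N X.E1)
    (n2 : ¬ X.s2.CT N X.E2) (a : X.s2.A) {x : P} (hx : x ∈ X.E2) :
    (X.quot N h1 h2 hND n1 n2).s2.app a (x : P ⧸ N) = ((X.s2.app a x : P) : P ⧸ N) :=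
  X.s2.quot_app h2 (hND.trans inf_le_right) _ (X.qbact_mk N h1 (hND.trans inf_le_left)) n2 a hx

theorem quot_inv_map2 (h1 : X.s1.Inv N) (h2 : X.s2.Inv N) (hND : N ≤ X.D) (n1 : ¬ X.s1.CT N X.E1)
    (n2 : ¬ X.s2.CT N X.E2) {T : Subgroup P} (hT : X.s2.Inv T) (hTE : T ≤ X.E2) :
    (X.quot N h1 h2 hND n1 n2).s2.Inv (T.map (QuotientGroup.mk' N)) :=
  X.s2.quot_inv_map h2 (hND.trans inf_le_right) _ (X.qbact_mk N h1 (hND.trans inf_le_left)) n2 hT hTE

theorem quot_inv_comap2 (h1 : X.s1.Inv N) (h2 : X.s2.Inv N) (hND : N ≤ X.D) (n1 : ¬ X.s1.CT N X.E1)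
    (n2 : ¬ X.s2.CT N X.E2) {T : Subgroup (P ⧸ N)} (hT : (X.quot N h1 h2 hND n1 n2).s2.Inv T)
    (hTE : T.comap (QuotientGroup.mk' N) ≤ X.E2) : X.s2.Inv (T.comap (QuotientGroup.mk' N)) :=
  X.s2.quot_inv_comap h2 (hND.trans inf_le_right) _ (X.qbact_mk N h1 (hND.trans inf_le_left)) n2 hT hTE

theorem quot_D (h1 : X.s1.Inv N) (h2 : X.s2.Inv N) (hND : N ≤ X.D) (n1 : ¬ X.s1.CT N X.E1)
    (n2 : ¬ X.s2.CT N X.E2) : (X.quot N h1 h2 hND n1 n2).D.comap (QuotientGroup.mk' N) = X.D := by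
  show ((X.E1.map (QuotientGroup.mk' N)) ⊓ (X.E2.map (QuotientGroup.mk' N))).comap _ = X.E1 ⊓ X.E2
  rw [Subgroup.comap_inf, Subgroup.comap_map_eq_self (by rw [QuotientGroup.ker_mk']; exact hND.trans inf_le_left),
    Subgroup.comap_map_eq_self (by rw [QuotientGroup.ker_mk']; exact hND.trans inf_le_right)]

end Pair

end Cfsg.Agent.Lib.TwoEssential
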