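import Cfsg.Agent.Lib.TwoEssential.Lemmas

/-!
# A centre of rank two

Then the conjugates of the centre span a module on which `L` fixes a line, and the two fixed lines
agree.
-/

set_option autoImplicit false
set_option linter.style.haveILetI false

universe u

namespace Cfsg.Agent.Lib.TwoEssential

open Subgroup
open scoped commutatorElement

variable {p : ℕ} [hp : Fact p.Prime] {P : Type u} [Group P] [Finite P]

/-- Exponents only matter modulo the order. -/
theorem pow_val_natCast {G : Type*} [Group G] {c : G} (hc : c ^ p = 1) (i : ℕ) : c ^ (i : ZMod p).val = c ^ i := by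
  rw [ZMod.val_natCast]
  exact (pow_eq_pow_mod i hc).symm

omit hp [Finite P] in
/-- Automorphisms preserve the central elements of order dividing `p`. -/
theorem mem_Z1_map (θ : MulAut P) {x : P} (hx : x ∈ Z1 p P) : θ x ∈ Z1 p P := by
  refine ⟨mem_center_iff.2 fun g => ?_, by rw [← map_pow, hx.2, map_one]⟩
  obtain ⟨h, rfl⟩ := θ.surjective g
  rw [← map_mul, ← map_mul, mem_center_iff.1 hx.1 h]

variable {E : Subgroup P} {B : Type u} [Group B] {bact : B →* MulAut P} (s : Side p P E B bact)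

omit hp in
/-- An automorphism stabilising a series of length three has order dividing `p`. -/
theorem pow_fix_of_series (hp2 : p ≠ 2) [Fact p.Prime] {V H T : Subgroup P} (hVE : V ≤ E) (hHV : H ≤ V)
    (hTH : T ≤ H) (hVp : ∀ v ∈ V, v ^ p = 1) (hVc : ∀ a ∈ V, ∀ b ∈ V, a * b = b * a) {b : s.A}
    (h1 : ∀ v ∈ V, s.app b v * v⁻¹ ∈ H) (h2 : ∀ v ∈ H, s.app b v * v⁻¹ ∈ T) (h3 : ∀ v ∈ T, s.app b v = v) :
    ∀ v ∈ V, s.app (b ^ p) v = v := by
  intro v hv
  set u := s.app b v * v⁻¹ with hu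
  have huH : u ∈ H := h1 v hv
  set w := s.app b u * u⁻¹ with hw
  have hwT : w ∈ T := h2 u huH
  have huV := hHV huH
  have hwV := hHV (hTH hwT)
  have hbw : s.app b w = w := h3 w hwT
  have hbu : s.app b u = u * w := by rw [hw, hVc u huV _ (by rw [← hw]; exact hwV)]; group
  have hbv : s.app b v = v * u := by rw [hu, hVc v hv _ (by rw [← hu]; exact huV)]; group
  have key : ∀ m : ℕ, s.app (b ^ m) v = v * u ^ m * w ^ m.choose 2 := by
    intro m
    induction m with
    | zero => simp [s.one_app]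
    | succ m ih =>
      rw [pow_succ', s.mul_app _ _ (hVE hv), ih,
        s.app_mul b (E.mul_mem (hVE hv) (E.pow_mem (hVE huV) m)) (E.pow_mem (hVE hwV) _),
        s.app_mul b (hVE hv) (E.pow_mem (hVE huV) m), s.app_pow b (hVE huV), s.app_pow b (hVE hwV), hbv,
        hbu, hbw, Nat.choose_succ_succ' m 1, Nat.choose_one_right,
        (show Commute u w from hVc u huV w hwV).mul_pow, pow_succ' u, pow_add]
      group
  rw [key, hVp u huV, mul_one]
  obtain ⟨m, hm⟩ := (Fact.out : p.Prime).dvd_choose_self two_ne_zero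
    (lt_of_le_of_ne (Fact.out : p.Prime).two_le (Ne.symm hp2))
  rw [hm, pow_mul, hVp w hwV, one_pow, mul_one]

/-- The module spanned by the conjugates of a centre of order `p ^ 2` splits. -/
theorem transvection_split (hP : IsPGroup p P) (hp2 : p ≠ 2) (hn : E.Normal) (hi : E.index = p)
    {V : Subgroup P} (hV : s.Inv V) (hVE : V ≤ E) (hVp : ∀ v ∈ V, v ^ p = 1)
    (hVz : ∀ v ∈ V, ∀ e ∈ E, e * v = v * e) (hVcard : Nat.card V = p ^ 3) (hZV : Z1 p P ≤ V)
    (hZcard : Nat.card (Z1 p P) = p ^ 2) (hZ : ¬ s.Inv (Z1 p P)) :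
    ∃ F W : Subgroup P, Nat.card F = p ∧ F ≤ Z1 p P ∧ s.Inv F ∧ s.Nat2 ⊥ W ∧ W ≤ V ∧ F ⊓ W = ⊥ ∧
      ∀ g : P, ∀ v ∈ V, ⁅g, v⁆ ∈ W := by
  classical
  set Z := Z1 p P
  haveI := hn
  haveI := s.inv_normal hV hVE
  haveI hZn : Z.Normal := ⟨fun z hz g => by
    rwa [mem_center_iff.1 hz.1 g, mul_inv_cancel_right]⟩
  have hVc : ∀ a ∈ V, ∀ b ∈ V, a * b = b * a := fun a ha b hb => hVz b hb a (hVE ha)
  have hZi : Z.relIndex V = p := by
    have := card_mul_relIndex hZV
    rw [hZcard, hVcard] at this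
    exact Nat.eq_of_mul_eq_mul_left (pow_pos hp.out.pos 2) (this.trans (by ring))
  obtain ⟨x, hx⟩ : ∃ x, x ∉ E := by
    by_contra hh
    push Not at hh
    rw [show E = ⊤ from eq_top_iff.2 fun y _ => hh y, index_top] at hi
    exact hp.out.one_lt.ne hi
  obtain ⟨v₀, hv₀, hv₀Z⟩ := SetLike.exists_of_lt (lt_of_le_of_ne hZV fun e => by
    rw [e, hVcard] at hZcard
    exact absurd (Nat.pow_right_injective hp.out.two_le hZcard) (by norm_num))
  set c := ⁅x, v₀⁆ with hc
  have hcZ : c ∈ Z := by rw [hc, commutatorElement_def]; exact comm_mem_of_relIndex hP hZV hZi x hv₀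
  have hfix : ∀ z ∈ Z, ∀ g : P, Commute g z := fun z hz g => (commute_of_mem_center hz.1).symm
  have hact : ∀ g : P, ∃ i : ℕ, ∀ v ∈ V, g * v * g⁻¹ = x ^ i * v * (x ^ i)⁻¹ := by
    intro g
    obtain ⟨m, hm, i, rfl⟩ := exists_pow_mul hi hx g
    refine ⟨i, fun v hv => ?_⟩
    have h1 : x ^ i * v * (x ^ i)⁻¹ ∈ V := (inferInstance : V.Normal).conj_mem v hv _
    calc m * x ^ i * v * (m * x ^ i)⁻¹ = m * (x ^ i * v * (x ^ i)⁻¹) * m⁻¹ := by group
      _ = _ := by rw [hVz _ h1 m hm, mul_inv_cancel_right]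
  have hc1 : c ≠ 1 := fun e => hv₀Z ⟨mem_center_iff.2 fun g => by
    obtain ⟨i, hgi⟩ := hact g
    have h := hgi v₀ hv₀
    rw [((commutatorElement_eq_one_iff_commute.1 e).pow_left i).eq, mul_inv_cancel_right,
      mul_inv_eq_iff_eq_mul] at h
    exact h, hVp v₀ hv₀⟩
  have hco : orderOf c = p := orderOf_eq_prime (hVp c (hZV hcZ)) hc1
  have hcconj : ∀ g : P, g * c * g⁻¹ = c := fun g => by rw [(hfix c hcZ g).eq, mul_inv_cancel_right]
  -- commutators lie on the line of `c`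
  have hline : ∀ g : P, ∀ v ∈ V, ⁅g, v⁆ ∈ zpowers c := by
    intro g v hv
    obtain ⟨i, hgi⟩ := hact g
    obtain ⟨z, hz, j, rfl⟩ := exists_pow_mul_relIndex hZi hv₀ hv₀Z hv
    have h2 : ⁅x ^ i, z * v₀ ^ j⁆ = c ^ (i * j) := by
      have hv0c : ⁅x ^ i, v₀⁆ = c ^ i := comm_pow_left hcZ.1 i
      have hvx : ⁅x ^ i, v₀ ^ j⁆ = c ^ (i * j) := by
        have h3 : ⁅v₀, x ^ i⁆ ∈ center P := by
          rw [← commutatorElement_inv, hv0c]; exact inv_mem (pow_mem hcZ.1 i)
        rw [← commutatorElement_inv, comm_pow_left h3, ← commutatorElement_inv, hv0c, inv_pow, inv_inv,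
          ← pow_mul]
      rw [comm_mul_right' (by rw [hvx]; exact pow_mem hcZ.1 _),
        commutatorElement_eq_one_iff_commute.2 (hfix z hz _), one_mul, hvx]
    rw [commutatorElement_def, hgi _ hv, ← commutatorElement_def, h2]
    exact Subgroup.pow_mem _ (mem_zpowers c) _
  -- the kernel of the action
  let K : Subgroup s.A :=
    { carrier := {a | ∀ v ∈ V, s.app a v = v}
      one_mem' := fun v _ => s.one_app v
      mul_mem' := fun {a b} ha hb v hv => by rw [s.mul_app a b (hVE hv), hb v hv, ha v hv]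
      inv_mem' := fun {a} ha v hv => by
        have := s.inv_app_app a (hVE hv)
        rwa [ha v hv] at this }
  haveI : K.Normal := ⟨fun a ha b v hv => by
    have hvE := hVE hv
    rw [s.mul_app _ _ hvE, s.mul_app _ _ (s.app_mem _ hvE), ha _ (hV b⁻¹ v hv), s.app_app_inv b hvE]⟩
  set π := QuotientGroup.mk' K with hπ
  obtain ⟨r, hr, hrx⟩ := s.exists_conj x
  have hrc : ∀ v ∈ V, s.app r v * v⁻¹ ∈ zpowers c := fun v hv => by
    rw [hrx v (hVE hv), ← commutatorElement_def]; exact hline x v hv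
  have hrZ : ∀ z ∈ Z, s.app r z = z := fun z hz => by
    rw [hrx z (hVE (hZV hz)), (hfix z hz x).eq, mul_inv_cancel_right]
  have hrpow : ∀ (k : ℕ), ∀ v ∈ V, s.app (r ^ k) v = x ^ k * v * (x ^ k)⁻¹ := by
    intro k
    induction k with
    | zero => intro v _; rw [pow_zero, s.one_app]; group
    | succ k ih =>
      intro v hv
      rw [pow_succ', s.mul_app _ _ (hVE hv), ih v hv, hrx _ (hVE ((inferInstance : V.Normal).conj_mem v hv _))]
      group
  set R' : Sylow p (s.A ⧸ K) := s.R.mapSurjective (QuotientGroup.mk'_surjective K) with hR'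
  have hR'z : (R' : Subgroup (s.A ⧸ K)) = zpowers (π r) := by
    refine le_antisymm ?_ (zpowers_le.2 ⟨r, hr, rfl⟩)
    rintro _ ⟨a, ha, rfl⟩
    obtain ⟨g, hg⟩ := s.exists_of_R ha
    obtain ⟨i, hgi⟩ := hact g
    have hk : (r ^ i)⁻¹ * a ∈ K := fun v hv => by
      rw [s.mul_app _ _ (hVE hv), hg v (hVE hv), hgi v hv, ← hrpow i v hv, s.inv_app_app _ (hVE hv)]
    rw [show π a = π (r ^ i) from ((QuotientGroup.eq).2 hk).symm, map_pow]
    exact Subgroup.pow_mem _ (mem_zpowers _) _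
  have hπr : π r ≠ 1 := fun e => hc1 (by
    have := (QuotientGroup.eq_one_iff r).1 e v₀ hv₀
    rw [hrx v₀ (hVE hv₀)] at this
    rw [hc, commutatorElement_def, this, mul_inv_cancel])
  -- the conjugates with related lines coincide
  have keyL : ∀ a : s.A, (s.app a c ∈ Z ∨ ∃ z ∈ Z, s.app a z = c) →
      (∀ z ∈ Z, s.app a z ∈ Z) ∧ s.app a c ∈ zpowers c := by
    intro a hor
    have haE : ∀ {v : P}, v ∈ V → s.app a⁻¹ v ∈ V := fun hv => hV a⁻¹ _ hv
    -- the other transvection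
    set r' := a * r * a⁻¹ with hr'
    have hr'a : ∀ v ∈ V, s.app r' v = s.app a (s.app r (s.app a⁻¹ v)) := fun v hv => by
      rw [hr', s.mul_app _ _ (hVE hv), s.mul_app _ _ (s.app_mem _ (hVE hv))]
    have hr'c : ∀ v ∈ V, s.app r' v * v⁻¹ ∈ zpowers (s.app a c) := by
      intro v hv
      obtain ⟨i, hi⟩ := mem_zpowers_iff.1 (hrc _ (haE hv))
      obtain ⟨n, hn⟩ : ∃ n : ℕ, c ^ i = c ^ n :=
        ⟨(i % (p : ℤ)).toNat, by
          rw [← zpow_natCast, Int.toNat_of_nonneg (Int.emod_nonneg _ (by exact_mod_cast hp.out.ne_zero)),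
            ← hco, zpow_mod_orderOf]⟩
      have : s.app r' v * v⁻¹ = s.app a (c ^ n) := by
        rw [← hn, hi, s.app_mul a (s.app_mem _ (s.app_mem _ (hVE hv))) (E.inv_mem (s.app_mem _ (hVE hv))),
          s.app_inv a (s.app_mem _ (hVE hv)), s.app_app_inv a (hVE hv), hr'a v hv]
      rw [this, s.app_pow a (hVE (hZV hcZ))]
      exact Subgroup.pow_mem _ (mem_zpowers _) _
    have hr'fix : ∀ z ∈ Z, s.app r' (s.app a z) = s.app a z := fun z hz => by
      rw [hr'a _ (hV a z (hZV hz)), s.inv_app_app a (hVE (hZV hz)), hrZ z hz]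
    -- a common series
    obtain ⟨H, T, hHV, hTH, h1, h2, h3, h1', h2', h3'⟩ : ∃ H T : Subgroup P, H ≤ V ∧ T ≤ H ∧
        (∀ v ∈ V, s.app r v * v⁻¹ ∈ H) ∧ (∀ v ∈ H, s.app r v * v⁻¹ ∈ T) ∧ (∀ v ∈ T, s.app r v = v) ∧
        (∀ v ∈ V, s.app r' v * v⁻¹ ∈ H) ∧ (∀ v ∈ H, s.app r' v * v⁻¹ ∈ T) ∧
        (∀ v ∈ T, s.app r' v = v) := by
      rcases hor with hac | ⟨z₁, hz₁, hz₁c⟩
      · refine ⟨Z, zpowers (s.app a c), hZV, zpowers_le.2 hac, fun v hv => zpowers_le.2 hcZ (hrc v hv),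
          fun v hv => by rw [hrZ v hv, mul_inv_cancel]; exact one_mem _,
          fun v hv => hrZ v (zpowers_le.2 hac hv), fun v hv => zpowers_le.2 hac (hr'c v hv),
          fun v hv => hr'c v (hZV hv), fun v hv => ?_⟩
        obtain ⟨i, rfl⟩ := mem_zpowers_iff.1 hv
        let φ : V →* P :=
          { toFun := fun v => s.app r' v
            map_one' := s.app_one' r'
            map_mul' := fun v w => s.app_mul r' (hVE v.2) (hVE w.2) }
        have := map_zpow φ ⟨s.app a c, hZV hac⟩ i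
        simpa [φ, hr'fix c hcZ] using this
      · let H : Subgroup P :=
          { carrier := {v | v ∈ V ∧ s.app a⁻¹ v ∈ Z}
            one_mem' := ⟨one_mem _, by rw [s.app_one']; exact one_mem _⟩
            mul_mem' := fun {v w} hv hw => ⟨mul_mem hv.1 hw.1, by
              rw [s.app_mul _ (hVE hv.1) (hVE hw.1)]; exact mul_mem hv.2 hw.2⟩
            inv_mem' := fun {v} hv => ⟨inv_mem hv.1, by rw [s.app_inv _ (hVE hv.1)]; exact inv_mem hv.2⟩ }
        have hH : ∀ {z : P}, z ∈ Z → s.app a z ∈ H := fun {z} hz =>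
          ⟨hV a z (hZV hz), by rw [s.inv_app_app a (hVE (hZV hz))]; exact hz⟩
        have hfixH : ∀ v ∈ H, s.app r' v = v := fun v hv => by
          rw [← s.app_app_inv a (hVE hv.1), hr'fix _ hv.2]
        have hcH : c ∈ H := hz₁c ▸ hH hz₁
        exact ⟨H, zpowers c, fun v hv => hv.1, zpowers_le.2 hcH,
          fun v hv => zpowers_le.2 hcH (hrc v hv), fun v hv => hrc v hv.1,
          fun v hv => hrZ v (zpowers_le.2 hcZ hv),
          fun v hv => zpowers_le.2 (hH hcZ) (hr'c v hv),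
          fun v hv => by rw [hfixH v hv, mul_inv_cancel]; exact one_mem _,
          fun v hv => hfixH v (zpowers_le.2 hcH hv)⟩
    have hstep : ∀ (X Y : Subgroup P) (a b : s.A), Y ≤ X → X ≤ V → (∀ v ∈ X, s.app a v * v⁻¹ ∈ Y) →
        (∀ v ∈ X, s.app b v * v⁻¹ ∈ Y) → ∀ v ∈ X, s.app (a * b) v * v⁻¹ ∈ Y := by
      intro X Y a b hYX hXV ha hb v hv
      have hbv : s.app b v ∈ X := by
        have := X.mul_mem (hYX (hb v hv)) hv
        rwa [inv_mul_cancel_right] at this
      rw [s.mul_app _ _ (hVE (hXV hv))]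
      have := Y.mul_mem (ha _ hbv) (hb v hv)
      rwa [← mul_assoc, inv_mul_cancel_right] at this
    have hstepi : ∀ (X Y : Subgroup P) (a : s.A), Y ≤ X → X ≤ V → (∀ v ∈ X, s.app a v * v⁻¹ ∈ Y) →
        ∀ v ∈ X, s.app a⁻¹ v * v⁻¹ ∈ Y := by
      intro X Y a hYX hXV ha v hv
      have hmem : s.app a⁻¹ v ∈ X := by
        have hAX : ∀ k : ℕ, ∀ w ∈ X, s.app (a ^ k) w ∈ X := by
          intro k
          induction k with
          | zero => intro w hw; rwa [pow_zero, s.one_app]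
          | succ k ih =>
            intro w hw
            rw [pow_succ', s.mul_app _ _ (hVE (hXV hw))]
            have := X.mul_mem (hYX (ha _ (ih w hw))) (ih w hw)
            rwa [inv_mul_cancel_right] at this
        obtain ⟨k, hk⟩ : ∃ k : ℕ, a ^ k = a⁻¹ := ⟨orderOf a - 1, by
          refine eq_inv_of_mul_eq_one_left ?_
          rw [← pow_succ, Nat.sub_add_cancel (orderOf_pos a), pow_orderOf_eq_one]⟩
        exact hk ▸ hAX k v hv
      have := Y.inv_mem (ha _ hmem)
      rwa [s.app_app_inv a (hVE (hXV hv)), mul_inv_rev, inv_inv] at this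
    let S : Subgroup s.A :=
      { carrier := {b | (∀ v ∈ V, s.app b v * v⁻¹ ∈ H) ∧ (∀ v ∈ H, s.app b v * v⁻¹ ∈ T) ∧
          ∀ v ∈ T, s.app b v = v}
        one_mem' := ⟨fun v _ => by rw [s.one_app, mul_inv_cancel]; exact one_mem _,
          fun v _ => by rw [s.one_app, mul_inv_cancel]; exact one_mem _, fun v _ => s.one_app v⟩
        mul_mem' := fun {a b} ha hb => ⟨hstep V H a b hHV le_rfl ha.1 hb.1, hstep H T a b hTH hHV ha.2.1 hb.2.1,
          fun v hv => by rw [s.mul_app _ _ (hVE (hHV (hTH hv))), hb.2.2 v hv, ha.2.2 v hv]⟩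
        inv_mem' := fun {a} ha => ⟨hstepi V H a hHV le_rfl ha.1, hstepi H T a hTH hHV ha.2.1,
          fun v hv => by
            have := s.inv_app_app a (hVE (hHV (hTH hv)))
            rwa [ha.2.2 v hv] at this⟩ }
    have hSp : IsPGroup p (S.map π) := by
      rintro ⟨_, b, hb, rfl⟩
      refine ⟨1, Subtype.ext ?_⟩
      rw [SubgroupClass.coe_pow, Subgroup.coe_one, pow_one, ← map_pow]
      exact (QuotientGroup.eq_one_iff _).2 (pow_fix_of_series s hp2 hVE hHV hTH hVp hVc hb.1 hb.2.1 hb.2.2)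
    obtain ⟨Q, hQ⟩ := hSp.exists_le_sylow
    have hQcard : Nat.card (Q : Subgroup (s.A ⧸ K)) ≤ p := by
      have := Nat.card_congr (Sylow.equiv R' Q).toEquiv
      rw [← this, hR'z, Nat.card_zpowers]
      refine Nat.le_of_dvd hp.out.pos (orderOf_dvd_of_pow_eq_one ?_)
      rw [← map_pow]
      refine (QuotientGroup.eq_one_iff _).2 fun v hv => ?_
      rw [hrpow p v hv, hVz v hv _ (pow_mem_of_index hi x), mul_inv_cancel_right]
    have hπr' : zpowers (π r) = S.map π := Subgroup.eq_of_le_of_card_ge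
      (zpowers_le.2 ⟨r, ⟨h1, h2, h3⟩, rfl⟩) ((Subgroup.card_le_of_le hQ).trans (hQcard.trans (by
        rw [Nat.card_zpowers]
        obtain ⟨j, hj⟩ := (R'.2 : IsPGroup p R') ⟨π r, r, hr, rfl⟩
        obtain ⟨i, -, hi'⟩ := (Nat.dvd_prime_pow hp.out).1 (orderOf_dvd_of_pow_eq_one (congrArg Subtype.val hj : π r ^ p ^ j = 1))
        rw [hi']
        refine le_of_eq_of_le (pow_one p).symm (Nat.pow_le_pow_right hp.out.pos ?_)
        by_contra h0
        exact hπr (orderOf_eq_one_iff.1 (by rw [hi', show i = 0 by omega, pow_zero])))))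
    have hr'mem : π r' ∈ zpowers (π r) := hπr' ▸ ⟨r', ⟨h1', h2', h3'⟩, rfl⟩
    obtain ⟨i, hi'⟩ := (mem_powers_iff_mem_zpowers (x := π r)).2 hr'mem
    simp only [← map_pow] at hi'
    have hr'eq : ∀ v ∈ V, s.app r' v = s.app (r ^ i) v := fun v hv => by
      have hk := (QuotientGroup.eq).1 hi' v hv
      rw [s.mul_app _ _ (hVE hv)] at hk
      have := congrArg (s.app (r ^ i)) hk
      rwa [s.app_app_inv _ (s.app_mem _ (hVE hv))] at this
    have hpow : ∀ (k : ℕ), ∀ v ∈ V, s.app (r ^ k) v * v⁻¹ ∈ zpowers c := fun k v hv => by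
      rw [hrpow k v hv, ← commutatorElement_def]; exact hline _ v hv
    -- the image of the outer vector
    have hac' : s.app a c ∈ zpowers c := by
      have := hpow i (s.app a v₀) (hV a v₀ hv₀)
      rw [← hr'eq _ (hV a v₀ hv₀), hr'a _ (hV a v₀ hv₀), s.inv_app_app a (hVE hv₀), ← s.app_inv a (hVE hv₀),
        ← s.app_mul a (s.app_mem _ (hVE hv₀)) (E.inv_mem (hVE hv₀)), hrx v₀ (hVE hv₀),
        ← commutatorElement_def] at this
      exact this
    have hnd : ¬ p ∣ i := by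
      rintro ⟨j, rfl⟩
      have h := hr'eq (s.app a v₀) (hV a v₀ hv₀)
      have hav := hV a v₀ hv₀
      have hpw : x ^ (p * j) ∈ E := by rw [pow_mul]; exact E.pow_mem (pow_mem_of_index hi x) j
      rw [hrpow _ _ hav, hVz _ hav _ hpw, mul_inv_cancel_right, hr'a _ hav, s.inv_app_app a (hVE hv₀)] at h
      have := s.app_inj a (s.app_mem _ (hVE hv₀)) (hVE hv₀) h
      rw [hrx v₀ (hVE hv₀)] at this
      exact hc1 (by rw [hc, commutatorElement_def, this, mul_inv_cancel])
    refine ⟨fun z hz => ?_, hac'⟩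
    have haz := hV a z (hZV hz)
    have h := (hr'eq _ haz).symm.trans (hr'fix z hz)
    rw [hrpow i _ haz, mul_inv_eq_iff_eq_mul] at h
    obtain ⟨t, ht⟩ : ∃ t, (i * t) % p = 1 := by
      obtain ⟨t, ht⟩ := Nat.exists_mul_mod_eq_one_of_coprime
        (Nat.Coprime.symm ((Nat.Prime.coprime_iff_not_dvd hp.out).2 hnd)) hp.out.one_lt
      exact ⟨t, ht.2⟩
    refine ⟨mem_center_iff.2 fun g => ?_, hVp _ haz⟩
    obtain ⟨m, hm, k, rfl⟩ := exists_pow_mul hi hx g
    have hx1 : Commute x (s.app a z) := by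
      have h2 : Commute (x ^ (i * t)) (s.app a z) := by rw [pow_mul]; exact Commute.pow_left h t
      rw [← Nat.div_add_mod (i * t) p, ht, pow_succ, pow_mul] at h2
      have h3 : Commute ((x ^ p) ^ (i * t / p)) (s.app a z) :=
        hVz _ haz _ (E.pow_mem (pow_mem_of_index hi x) _)
      have := h3.inv_left.mul_left h2
      rwa [inv_mul_cancel_left] at this
    exact ((show Commute m (s.app a z) from hVz _ haz m hm).mul_left (hx1.pow_left k)).eq
  -- a moving element
  obtain ⟨a, z, hz, haz⟩ : ∃ a : s.A, ∃ z ∈ Z, s.app a z ∉ Z := by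
    unfold Side.Inv at hZ
    push Not at hZ
    exact hZ
  set c' := s.app a c with hc'
  have hc'Z : c' ∉ Z := fun h => haz ((keyL a (Or.inl h)).1 z hz)
  have hcZ' : ∀ y ∈ Z, s.app a y ≠ c := fun y hy h => haz ((keyL a (Or.inr ⟨y, hy, h⟩)).1 z hz)
  have hc'V : c' ∈ V := hV a c (hZV hcZ)
  let Z' : Subgroup P :=
    { carrier := {v | v ∈ V ∧ s.app a⁻¹ v ∈ Z}
      one_mem' := ⟨one_mem _, by rw [s.app_one']; exact one_mem _⟩
      mul_mem' := fun {v w} hv hw => ⟨mul_mem hv.1 hw.1, by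
        rw [s.app_mul _ (hVE hv.1) (hVE hw.1)]; exact mul_mem hv.2 hw.2⟩
      inv_mem' := fun {v} hv => ⟨inv_mem hv.1, by rw [s.app_inv _ (hVE hv.1)]; exact inv_mem hv.2⟩ }
  have hc'Z' : c' ∈ Z' := ⟨hc'V, by rw [hc', s.inv_app_app a (hVE (hZV hcZ))]; exact hcZ⟩
  have hcnZ' : c ∉ Z' := fun h => hcZ' _ h.2 (s.app_app_inv a (hVE (hZV hcZ)))
  set F := Z ⊓ Z' with hF
  have hc'o : orderOf c' = p := orderOf_eq_prime (hVp c' hc'V) fun e => hc'Z (e ▸ one_mem _)
  -- decomposition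
  have hdecV : ∀ v ∈ V, ∃ f ∈ F, ∃ i j : ℕ, v = f * c ^ i * c' ^ j := by
    intro v hv
    obtain ⟨z₁, hz₁, j, hj⟩ := exists_pow_mul_relIndex hZi hc'V hc'Z hv
    haveI : Z'.Normal ∨ True := Or.inr trivial
    have hZZ' : Z ⊓ Z' < Z := lt_of_le_of_ne inf_le_left fun e => hcnZ' ((e.symm ▸ hcZ : c ∈ Z ⊓ Z').2)
    have hFi : (Z ⊓ Z').relIndex Z = p := by
      have hinj : Nat.card Z' = p ^ 2 := by
        rw [← hZcard]
        refine Nat.card_congr ⟨fun v => ⟨s.app a⁻¹ v, v.2.2⟩,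
          fun z => ⟨s.app a z, hV a z (hZV z.2), by rw [s.inv_app_app a (hVE (hZV z.2))]; exact z.2⟩,
          fun v => Subtype.ext (s.app_app_inv a (hVE v.2.1)),
          fun z => Subtype.ext (s.inv_app_app a (hVE (hZV z.2)))⟩
      rw [inf_comm, inf_relIndex_right]
      have h1 : Z'.relIndex Z ≤ Z'.relIndex V :=
        relIndex_le_of_le_right hZV (by
          rw [Subgroup.relIndex]; exact Subgroup.index_ne_zero_of_finite)
      have h2 := card_mul_relIndex (show Z' ≤ V from fun v hv => hv.1)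
      rw [hinj, hVcard] at h2
      have h3 : Z'.relIndex V = p := Nat.eq_of_mul_eq_mul_left (pow_pos hp.out.pos 2) (h2.trans (by ring))
      obtain ⟨i, hi'⟩ := IsPGroup.iff_card.1 (hP.to_subgroup (Z ⊓ Z'))
      have h4 := card_mul_relIndex hZZ'.le
      rw [hZcard, hi'] at h4
      have h5 : (Z ⊓ Z').relIndex Z = Z'.relIndex Z := by rw [inf_comm, inf_relIndex_right]
      rw [h5] at h4
      have hpos : 0 < Z'.relIndex Z := Nat.pos_of_ne_zero (by
        rw [Subgroup.relIndex]; exact Subgroup.index_ne_zero_of_finite)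
      obtain ⟨k, hk, hk'⟩ := (Nat.dvd_prime_pow hp.out).1 (Dvd.intro_left _ h4)
      rw [hk']
      interval_cases k
      · exfalso
        exact hcnZ' (relIndex_eq_one.1 (by simpa using hk') hcZ)
      · exact pow_one p
      · exfalso
        rw [hk', h3] at h1
        nlinarith [hp.out.one_lt]
    obtain ⟨f, hf, i, rfl⟩ : ∃ f ∈ F, ∃ i : ℕ, z₁ = f * c ^ i := by
      haveI : (Z ⊓ Z').Normal := ⟨fun w hw g => by rwa [mem_center_iff.1 hw.1.1 g, mul_inv_cancel_right]⟩
      exact exists_pow_mul_relIndex hFi hcZ (fun h => hcnZ' h.2) hz₁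
    exact ⟨f, hf, i, j, hj⟩
  have hFfix : ∀ f ∈ F, ∀ g : P, g * f * g⁻¹ = f := fun f hf g => by
    rw [(hfix f hf.1 g).eq, mul_inv_cancel_right]
  set W := zpowers c ⊔ zpowers c' with hW
  have hWV : W ≤ V := sup_le (zpowers_le.2 (hZV hcZ)) (zpowers_le.2 hc'V)
  have hcW : c ∈ W := le_sup_left (b := zpowers c') (mem_zpowers c)
  have hc'W : c' ∈ W := le_sup_right (a := zpowers c) (mem_zpowers c')
  -- every conjugate of the centre contains `F` and every line lies in `W`
  have hall : ∀ b : s.A, s.app b c ∈ W ∧ ∀ f ∈ F, s.app b⁻¹ f ∈ Z := by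
    intro b
    obtain ⟨f, hf, i, j, hw⟩ := hdecV _ (hV b c (hZV hcZ))
    by_cases hj : p ∣ j
    · obtain ⟨j, rfl⟩ := hj
      rw [pow_mul, hVp c' hc'V, one_pow, mul_one] at hw
      obtain ⟨h1, h2⟩ := keyL b (Or.inl (hw ▸ Z.mul_mem hf.1 (Z.pow_mem hcZ i)))
      refine ⟨zpowers_le.2 hcW h2, fun f' hf' => ?_⟩
      let Zb : Z → Z := fun y => ⟨s.app b y, h1 y y.2⟩
      have hinj : Function.Injective Zb := fun y y' e =>
        Subtype.ext (s.app_inj b (hVE (hZV y.2)) (hVE (hZV y'.2)) (congrArg Subtype.val e))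
      obtain ⟨y, hy⟩ := (Finite.injective_iff_surjective.1 hinj) ⟨f', hf'.1⟩
      have : s.app b y = f' := congrArg Subtype.val hy
      rw [← this, s.inv_app_app b (hVE (hZV y.2))]
      exact y.2
    · -- rotate
      obtain ⟨t, ht⟩ := mem_zpowers_iff.1 (hline x c' hc'V)
      obtain ⟨t', ht'⟩ : ∃ t' : ℕ, ⁅x, c'⁆ = c ^ t' ∧ ¬ p ∣ t' := by
        obtain ⟨t', ht'⟩ := (mem_powers_iff_mem_zpowers (x := c)).2 (hline x c' hc'V)
        refine ⟨t', ht'.symm, fun hd => hc'Z ⟨mem_center_iff.2 fun g => ?_, hVp c' hc'V⟩⟩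
        obtain ⟨m, hm, k, rfl⟩ := exists_pow_mul hi hx g
        have hxc : Commute x c' := commutatorElement_eq_one_iff_commute.1 (by
          rw [← ht']; exact orderOf_dvd_iff_pow_eq_one.1 (hco ▸ hd))
        exact ((show Commute m c' from hVz _ hc'V m hm).mul_left (hxc.pow_left k)).eq
      obtain ⟨m, hm⟩ : ∃ m : ℕ, c ^ (t' * m * j) = c ^ i := by
        refine ⟨((i : ZMod p) * ((t' : ZMod p) * j)⁻¹).val, pow_eq_pow_iff_modEq.2 ?_⟩
        rw [hco, ← ZMod.natCast_eq_natCast_iff]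
        push_cast
        have h0 : ((t' : ZMod p) * j) ≠ 0 := mul_ne_zero
          (fun e => ht'.2 ((ZMod.natCast_eq_zero_iff _ _).1 e)) (fun e => hj ((ZMod.natCast_eq_zero_iff _ _).1 e))
        simp only [ZMod.natCast_val, ZMod.cast_id', id_eq]
        calc (t' : ZMod p) * ((i : ZMod p) * ((t' : ZMod p) * j)⁻¹) * j
            = (i : ZMod p) * (((t' : ZMod p) * j) * ((t' : ZMod p) * j)⁻¹) := by ring
          _ = i := by rw [mul_inv_cancel₀ h0, mul_one]
      set g := r ^ m * a with hg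
      have hgc : s.app g c = c ^ (t' * m) * c' := by
        rw [hg, s.mul_app _ _ (hVE (hZV hcZ)), ← hc', hrpow m c' hc'V]
        have : ⁅x ^ m, c'⁆ = c ^ (t' * m) := by
          rw [comm_pow_left (ht'.1 ▸ pow_mem hcZ.1 t'), ht'.1, ← pow_mul]
        rw [← this, commutatorElement_def]; group
      have hgf : ∀ f' ∈ F, s.app g⁻¹ f' ∈ Z := by
        intro f' hf'
        rw [hg, mul_inv_rev, s.mul_app _ _ (hVE (hZV hf'.1))]
        have hrf : s.app (r ^ m)⁻¹ f' = f' := by
          have := s.inv_app_app (r ^ m) (hVE (hZV hf'.1))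
          rwa [hrpow m f' (hZV hf'.1), hFfix f' hf'] at this
        rw [hrf]; exact hf'.2.2
      have hcomm : Commute (c ^ (t' * m)) c' := hVc _ (hZV (Z.pow_mem hcZ _)) _ hc'V
      have hgbc : s.app (g⁻¹ * b) c ∈ Z := by
        have e : s.app b c = f * (s.app g c) ^ j := by
          rw [hw, hgc, hcomm.mul_pow, ← pow_mul, hm, mul_assoc]
        rw [s.mul_app _ _ (hVE (hZV hcZ)), e, s.app_mul _ (hVE (hZV hf.1))
          (E.pow_mem (s.app_mem _ (hVE (hZV hcZ))) j), s.app_pow _ (s.app_mem _ (hVE (hZV hcZ))),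
          s.inv_app_app g (hVE (hZV hcZ))]
        exact Z.mul_mem (hgf f hf) (Z.pow_mem hcZ j)
      obtain ⟨h1, h2⟩ := keyL (g⁻¹ * b) (Or.inl hgbc)
      constructor
      · obtain ⟨k, hk⟩ := (mem_powers_iff_mem_zpowers (x := c)).2 h2
        simp only at hk
        have e := s.mul_app g⁻¹ b (hVE (hZV hcZ))
        rw [← hk] at e
        have e' := congrArg (s.app g) e
        rw [s.app_app_inv g (s.app_mem _ (hVE (hZV hcZ))), s.app_pow g (hVE (hZV hcZ)), hgc] at e'
        rw [← e']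
        exact W.pow_mem (W.mul_mem (W.pow_mem hcW _) hc'W) _
      · intro f' hf'
        let Zb : Z → Z := fun y => ⟨s.app (g⁻¹ * b) y, h1 y y.2⟩
        have hinj : Function.Injective Zb := fun y y' e =>
          Subtype.ext (s.app_inj _ (hVE (hZV y.2)) (hVE (hZV y'.2)) (congrArg Subtype.val e))
        obtain ⟨y, hy⟩ := (Finite.injective_iff_surjective.1 hinj) ⟨_, hgf f' hf'⟩
        have h : s.app (g⁻¹ * b) y = s.app g⁻¹ f' := congrArg Subtype.val hy
        rw [s.mul_app _ _ (hVE (hZV y.2))] at h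
        have h' := s.app_inj g⁻¹ (s.app_mem _ (hVE (hZV y.2))) (hVE (hZV hf'.1)) h
        rw [← h', s.inv_app_app b (hVE (hZV y.2))]
        exact y.2
  have hWi : s.Inv W := by
    rw [hW, zpowers_eq_closure, zpowers_eq_closure, ← Subgroup.closure_union]
    refine s.inv_closure ?_ ?_
    · rintro y (rfl | rfl)
      exacts [hVE (hZV hcZ), hVE hc'V]
    · intro b y hy
      rw [Subgroup.closure_union, ← zpowers_eq_closure, ← zpowers_eq_closure, ← hW]
      rcases hy with rfl | rfl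
      · exact (hall b).1
      · rw [hc', ← s.mul_app _ _ (hVE (hZV hcZ))]; exact (hall _).1
  have hFi : s.Inv F := by
    intro b f hf
    have h1 : s.app b f ∈ Z := by
      have := (hall b⁻¹).2 f hf
      rwa [inv_inv] at this
    refine ⟨h1, hV b f (hZV hf.1), ?_⟩
    have := (hall (b⁻¹ * a)).2 f hf
    rwa [mul_inv_rev, inv_inv, s.mul_app _ _ (hVE (hZV hf.1))] at this
  have hWdec : ∀ w ∈ W, ∃ i j : ℕ, w = c ^ i * c' ^ j := by
    intro w hw
    have hwc : W ≤ V := hWV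
    haveI : (zpowers c).Normal := ⟨fun w hw g => by
      rwa [mem_center_iff.1 ((zpowers_le.2 hcZ hw).1) g, mul_inv_cancel_right]⟩
    obtain ⟨y, hy, y', hy', rfl⟩ := Subgroup.mem_sup_of_normal_left.1 hw
    obtain ⟨i, hi⟩ := (mem_powers_iff_mem_zpowers (x := c)).2 hy
    obtain ⟨j, hj⟩ := (mem_powers_iff_mem_zpowers (x := c')).2 hy'
    simp only at hi hj
    exact ⟨i, j, by rw [hi, hj]⟩
  have hFW : F ⊓ W = ⊥ := by
    rw [eq_bot_iff]
    rintro w ⟨hwF, hwW⟩
    obtain ⟨i, j, rfl⟩ := hWdec w hwW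
    have hj : p ∣ j := by
      by_contra hj
      apply hc'Z
      have h1 : c' ^ j ∈ Z := by
        have := Z.mul_mem (Z.inv_mem (Z.pow_mem hcZ i)) hwF.1
        rwa [inv_mul_cancel_left] at this
      have h2 := Z.pow_mem h1 ((j : ZMod p)⁻¹ * 1).val
      rwa [← pow_val_natCast (hVp c' hc'V) j, pow_val_inv (hVp c' hc'V)
        (by rwa [Ne, ZMod.natCast_eq_zero_iff]), ZMod.val_one, pow_one] at h2
    obtain ⟨j, rfl⟩ := hj
    rw [pow_mul, hVp c' hc'V, one_pow, mul_one] at hwF ⊢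
    by_cases hi' : p ∣ i
    · obtain ⟨i, rfl⟩ := hi'
      rw [pow_mul, hVp c (hZV hcZ), one_pow]; exact one_mem _
    · exfalso
      apply hcnZ'
      have h2 := Z'.pow_mem hwF.2 ((i : ZMod p)⁻¹ * 1).val
      rwa [← pow_val_natCast (hVp c (hZV hcZ)) i, pow_val_inv (hVp c (hZV hcZ))
        (by rwa [Ne, ZMod.natCast_eq_zero_iff]), ZMod.val_one, pow_one] at h2
  have hWcard : Nat.card W = p ^ 2 := by
    refine le_antisymm ?_ ?_
    · have hle : W ≤ V := hWV
      obtain ⟨i, hi'⟩ := IsPGroup.iff_card.1 (hP.to_subgroup W)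
      rw [hi']
      refine Nat.pow_le_pow_right hp.out.pos ?_
      by_contra hh
      have : W = V := Subgroup.eq_of_le_of_card_ge hle (by
        rw [hi', hVcard]; exact Nat.pow_le_pow_right hp.out.pos (by omega))
      have hlt : F ≠ ⊥ := by
        intro hb
        obtain ⟨f, hf, i, j, hzj⟩ := hdecV z (hZV hz)
        obtain ⟨f', hf', i', j', hzj'⟩ := hdecV (s.app a z) (hV a z (hZV hz))
        -- `Z` would be the line of `c`
        have hZle : Z ≤ zpowers c := fun y hy => by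
          obtain ⟨f'', hf'', i'', j'', e⟩ := hdecV y (hZV hy)
          rw [hb, mem_bot] at hf''
          rw [hf'', one_mul] at e
          have hj'' : c' ^ j'' ∈ Z := by
            have := Z.mul_mem (Z.inv_mem (Z.pow_mem hcZ i'')) hy
            rwa [e, inv_mul_cancel_left] at this
          have : c' ^ j'' = 1 := by
            by_contra hne
            apply hc'Z
            obtain ⟨k, hk⟩ := Side.exists_pow_of_prime (M := zpowers c') (by rw [Nat.card_zpowers, hc'o])
              (Subgroup.pow_mem _ (mem_zpowers c') j'') hne (mem_zpowers c')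
            rw [hk]; exact Z.pow_mem hj'' k
          rw [e, this, mul_one]; exact Subgroup.pow_mem _ (mem_zpowers c) _
        have := Subgroup.card_le_of_le hZle
        rw [hZcard, Nat.card_zpowers, hco] at this
        nlinarith [hp.out.one_lt]
      apply hlt
      rw [← hFW, this, inf_eq_left.2 ((inf_le_left : F ≤ Z).trans hZV)]
    · have hlt : zpowers c < W := lt_of_le_of_ne le_sup_left fun e =>
        hc'Z (zpowers_le.2 hcZ (e.symm ▸ hc'W : c' ∈ zpowers c))
      have := mul_card_le_of_lt hP hlt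
      rwa [Nat.card_zpowers, hco, ← sq] at this
  have hnat : s.Nat2 ⊥ W := by
    refine ⟨s.inv_bot, hWi, bot_le, hWV.trans hVE, by rw [relIndex_bot_left, hWcard],
      fun u hu v hv => by rw [mem_bot, hVc u (hWV hu) v (hWV hv), mul_inv_cancel_right, mul_inv_cancel],
      fun u hu => mem_bot.2 (hVp u (hWV hu)), fun hct => ?_⟩
    haveI := s.inv_normal hWi (hWV.trans hVE)
    have hWZ : s.Inv (W ⊓ Z) := s.inv_of_ct hWi (hWV.trans hVE) hct inf_le_left inferInstance
      fun b y hy => ⟨s.inv_bact hWi (hWV.trans hVE) b hy.1, mem_Z1_map _ hy.2⟩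
    exact hc'Z (hWZ a c ⟨hcW, hcZ⟩).2
  refine ⟨F, W, ?_, inf_le_left, hFi, hnat, hWV, hFW, fun g v hv => zpowers_le.2 hcW (hline g v hv)⟩
  have hZF : ∀ y ∈ Z, ∃ f ∈ F, ∃ i : ℕ, y = f * c ^ i := by
    intro y hy
    obtain ⟨f, hf, i, j, e⟩ := hdecV y (hZV hy)
    refine ⟨f, hf, i, ?_⟩
    have hj : c' ^ j ∈ Z := by
      have := Z.mul_mem (Z.inv_mem (Z.mul_mem hf.1 (Z.pow_mem hcZ i))) hy
      rwa [e, inv_mul_cancel_left] at this
    have : c' ^ j = 1 := by
      by_contra hne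
      apply hc'Z
      obtain ⟨k, hk⟩ := Side.exists_pow_of_prime (M := zpowers c') (by rw [Nat.card_zpowers, hc'o])
        (Subgroup.pow_mem _ (mem_zpowers c') j) hne (mem_zpowers c')
      rw [hk]; exact Z.pow_mem hj k
    rw [e, this, mul_one]
  obtain ⟨i, hi'⟩ := IsPGroup.iff_card.1 (hP.to_subgroup F)
  have hlt : F < Z := lt_of_le_of_ne inf_le_left fun e => hcnZ' (show c ∈ F from e.symm ▸ hcZ).2
  have h1 := mul_card_le_of_lt hP hlt
  rw [hi', hZcard, ← pow_succ'] at h1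
  have h2 := (Nat.pow_le_pow_iff_right hp.out.one_lt).1 h1
  rw [hi']
  have h3 : i ≤ 1 := by omega
  interval_cases i
  · exfalso
    have hb : F = ⊥ := Subgroup.eq_bot_of_card_eq _ (by rw [hi', pow_zero])
    have hZle : Z ≤ zpowers c := fun y hy => by
      obtain ⟨f, hf, i, rfl⟩ := hZF y hy
      rw [hb, mem_bot] at hf
      rw [hf, one_mul]; exact Subgroup.pow_mem _ (mem_zpowers c) _
    have := Subgroup.card_le_of_le hZle
    rw [hZcard, Nat.card_zpowers, hco] at this
    nlinarith [hp.out.one_lt]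
  · exact pow_one p
where
  pow_mem_of_index [E.Normal] (hi : E.index = p) (x : P) : x ^ p ∈ E := by
    rw [← QuotientGroup.eq_one_iff, QuotientGroup.mk_pow, ← hi]
    exact pow_card_eq_one'

end Cfsg.Agent.Lib.TwoEssential
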