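import Cfsg.Agent.Lib.TwoEssential.Outcome
import Cfsg.Agent.Lib.Forms.SpParabolic
import Cfsg.Agent.Lib.Symplectic.Std

/-!
# The symplectic configuration is a Sylow subgroup of `Sp₄(p)`

Both groups have a normal form `z ^ c * d ^ b * e ^ a * x ^ i` with one multiplication rule.
-/

set_option autoImplicit false
set_option linter.style.haveILetI false

universe u v

namespace Cfsg.Agent.Lib.TwoEssential

open Subgroup
open scoped commutatorElement

/-- The relations of a Sylow `p`-subgroup of `Sp₄(p)`. -/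
structure Rel (p : ℕ) (G : Type u) [Group G] where
  x : G
  e : G
  d : G
  z : G
  xp : x ^ p = 1
  ep : e ^ p = 1
  dp : d ^ p = 1
  zp : z ^ p = 1
  hed : Commute e d
  hez : Commute e z
  hdz : Commute d z
  hxz : Commute x z
  hxe : x * e = d * e * x
  hxd : x * d = z * d * x

/-- The multiplication rule on exponents. -/
def Rel.cmb (t t' : ℕ × ℕ × ℕ × ℕ) : ℕ × ℕ × ℕ × ℕ :=
  (t.1 + t'.1, t.2.1 + (t'.2.1 + t.2.2.2 * t'.1),
    t.2.2.1 + (t'.2.2.1 + t.2.2.2 * t'.2.1 + t.2.2.2.choose 2 * t'.1), t.2.2.2 + t'.2.2.2)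

namespace Rel

variable {p : ℕ} {G : Type u} [Group G] (r : Rel p G)

/-- An element of the abelian part. -/
def T (a b c : ℕ) : G := r.z ^ c * r.d ^ b * r.e ^ a

/-- The normal form. -/
def nf (t : ℕ × ℕ × ℕ × ℕ) : G := r.T t.1 t.2.1 t.2.2.1 * r.x ^ t.2.2.2

theorem T_mul (a b c a' b' c' : ℕ) : r.T a b c * r.T a' b' c' = r.T (a + a') (b + b') (c + c') := by
  have h1 : Commute (r.d ^ b * r.e ^ a) (r.z ^ c') :=
    (r.hdz.pow_pow b c').mul_left (r.hez.pow_pow a c')
  have h2 : Commute (r.e ^ a) (r.d ^ b') := r.hed.pow_pow a b'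
  calc r.T a b c * r.T a' b' c'
      = r.z ^ c * ((r.d ^ b * r.e ^ a) * r.z ^ c') * (r.d ^ b' * r.e ^ a') := by
        simp only [T, mul_assoc]
    _ = r.z ^ c * (r.z ^ c' * (r.d ^ b * r.e ^ a)) * (r.d ^ b' * r.e ^ a') := by rw [h1.eq]
    _ = r.z ^ (c + c') * r.d ^ b * (r.e ^ a * r.d ^ b') * r.e ^ a' := by
        simp only [pow_add, mul_assoc]
    _ = r.T (a + a') (b + b') (c + c') := by
        rw [h2.eq]; simp only [T, pow_add, mul_assoc]

theorem T_pow (a b c n : ℕ) : r.T a b c ^ n = r.T (n * a) (n * b) (n * c) := by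
  induction n with
  | zero => simp [T]
  | succ n ih => rw [pow_succ, ih, T_mul, Nat.succ_mul, Nat.succ_mul, Nat.succ_mul]

theorem pow_x_d (i : ℕ) : r.x ^ i * r.d = r.T 0 1 i * r.x ^ i := by
  induction i with
  | zero => simp [T]
  | succ i ih =>
    calc r.x ^ (i + 1) * r.d = r.x ^ i * r.z * r.d * r.x := by
          rw [pow_succ, mul_assoc, r.hxd]; simp only [mul_assoc]
      _ = r.z * (r.x ^ i * r.d) * r.x := by rw [(r.hxz.pow_left i).eq]; simp only [mul_assoc]
      _ = r.T 0 1 (i + 1) * r.x ^ (i + 1) := by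
          rw [ih, pow_succ, ← mul_assoc r.z, show r.z = r.T 0 0 1 by simp [T], T_mul,
            Nat.add_comm 1 i]
          simp only [zero_add, mul_assoc]

theorem pow_x_e (i : ℕ) : r.x ^ i * r.e = r.T 1 i (i.choose 2) * r.x ^ i := by
  induction i with
  | zero => simp [T]
  | succ i ih =>
    calc r.x ^ (i + 1) * r.e = r.x ^ i * r.d * r.e * r.x := by
          rw [pow_succ, mul_assoc, r.hxe]; simp only [mul_assoc]
      _ = r.T 0 1 i * (r.x ^ i * r.e) * r.x := by rw [r.pow_x_d]; simp only [mul_assoc]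
      _ = r.T 1 (i + 1) ((i + 1).choose 2) * r.x ^ (i + 1) := by
          rw [ih, ← mul_assoc, T_mul, Nat.choose_succ_succ', Nat.choose_one_right, Nat.add_comm 1 i,
            Nat.zero_add, pow_succ]
          simp only [mul_assoc]

theorem pow_x_T (i a b c : ℕ) :
    r.x ^ i * r.T a b c = r.T a (b + i * a) (c + i * b + i.choose 2 * a) * r.x ^ i := by
  have hz : SemiconjBy (r.x ^ i) r.z r.z := r.hxz.pow_left i
  have h := ((hz.pow_right c).mul_right (SemiconjBy.pow_right (r.pow_x_d i) b)).mul_right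
    (SemiconjBy.pow_right (r.pow_x_e i) a)
  refine h.eq.trans ?_
  rw [T_pow, T_pow, show r.z ^ c = r.T 0 0 c by simp [T], T_mul, T_mul]
  congr 2 <;> ring

theorem nf_mul (t t' : ℕ × ℕ × ℕ × ℕ) : r.nf t * r.nf t' = r.nf (cmb t t') := by
  calc r.nf t * r.nf t'
      = r.T t.1 t.2.1 t.2.2.1 * (r.x ^ t.2.2.2 * r.T t'.1 t'.2.1 t'.2.2.1) * r.x ^ t'.2.2.2 := by
        simp only [nf, mul_assoc]
    _ = r.nf (cmb t t') := by
        rw [r.pow_x_T, ← mul_assoc, T_mul, mul_assoc, ← pow_add]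
        rfl

/-- The normal form on reduced exponents. -/
def fn (t : Fin p × Fin p × Fin p × Fin p) : G := r.nf (t.1, t.2.1, t.2.2.1, t.2.2.2)

variable [Fact p.Prime]

/-- Reduction of exponents. -/
def red (t : ℕ × ℕ × ℕ × ℕ) : Fin p × Fin p × Fin p × Fin p :=
  have h : 0 < p := (Fact.out : p.Prime).pos
  (⟨t.1 % p, Nat.mod_lt _ h⟩, ⟨t.2.1 % p, Nat.mod_lt _ h⟩, ⟨t.2.2.1 % p, Nat.mod_lt _ h⟩,
    ⟨t.2.2.2 % p, Nat.mod_lt _ h⟩)

theorem fn_red (t : ℕ × ℕ × ℕ × ℕ) : r.fn (red t) = r.nf t := by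
  simp only [fn, red, nf, T]
  rw [← pow_eq_pow_mod t.1 r.ep, ← pow_eq_pow_mod t.2.1 r.dp, ← pow_eq_pow_mod t.2.2.1 r.zp,
    ← pow_eq_pow_mod t.2.2.2 r.xp]

/-- The map between two groups with these relations, the normal form of the source being unique. -/
theorem exists_hom {H : Type v} [Group H] (s : Rel p H) (hb : Function.Bijective r.fn)
    (hi : Function.Injective s.fn) : ∃ φ : G →* H, Function.Injective φ := by
  set g := Equiv.ofBijective r.fn hb
  have hg : ∀ y, r.fn (g.symm y) = y := g.apply_symm_apply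
  refine ⟨MonoidHom.mk' (fun y => s.fn (g.symm y)) fun a b => ?_, fun a b h => g.symm.injective (hi h)⟩
  set t := g.symm a
  set t' := g.symm b
  have e : g.symm (a * b) = red (cmb ((t.1 : ℕ), (t.2.1 : ℕ), (t.2.2.1 : ℕ), (t.2.2.2 : ℕ))
      ((t'.1 : ℕ), (t'.2.1 : ℕ), (t'.2.2.1 : ℕ), (t'.2.2.2 : ℕ))) := by
    refine hb.1 ?_
    rw [hg, fn_red, ← nf_mul]
    conv_lhs => rw [← hg a, ← hg b]
    rfl
  show s.fn (g.symm (a * b)) = _
  rw [e, fn_red, ← nf_mul]
  rfl

end Rel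

/-- Uniqueness of the exponent outside a subgroup. -/
theorem pow_cancel {p : ℕ} [Fact p.Prime] {G : Type u} [Group G] {K : Subgroup G} {g : G} (hg : g ∉ K)
    (hgp : g ^ p = 1) {k k' : G} (hk : k ∈ K) (hk' : k' ∈ K) {a a' : Fin p}
    (h : k * g ^ (a : ℕ) = k' * g ^ (a' : ℕ)) : a = a' ∧ k = k' := by
  have hp : p.Prime := Fact.out
  have ho : orderOf g = p := orderOf_eq_prime hgp fun e => hg (e ▸ one_mem K)
  suffices hw : g ^ (a : ℕ) = g ^ (a' : ℕ) by
    exact ⟨Fin.ext (pow_injOn_Iio_orderOf (ho.symm ▸ a.2 : (a : ℕ) < orderOf g)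
      (ho.symm ▸ a'.2 : (a' : ℕ) < orderOf g) hw), mul_right_cancel (hw ▸ h)⟩
  have hmem : g ^ (a : ℕ) * (g ^ (a' : ℕ))⁻¹ ∈ K ⊓ zpowers g := by
    refine Subgroup.mem_inf.2 ⟨?_, mul_mem (pow_mem (mem_zpowers g) _) (inv_mem (pow_mem (mem_zpowers g) _))⟩
    have e : g ^ (a : ℕ) * (g ^ (a' : ℕ))⁻¹ = k⁻¹ * k' := by
      rw [mul_inv_eq_iff_eq_mul, mul_assoc, ← h, inv_mul_cancel_left]
    exact e ▸ mul_mem (inv_mem hk) hk'
  have hbot : K ⊓ zpowers g = ⊥ := by
    haveI : Finite (zpowers g) := Nat.finite_of_card_ne_zero (by rw [Nat.card_zpowers, ho]; exact hp.ne_zero)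
    rcases (Nat.dvd_prime hp).1 (ho ▸ Nat.card_zpowers g ▸
      card_dvd_of_le (inf_le_right : K ⊓ zpowers g ≤ zpowers g)) with e | e
    · exact Subgroup.card_eq_one.1 e
    · exact absurd (((Subgroup.eq_of_le_of_card_ge (inf_le_right : K ⊓ zpowers g ≤ zpowers g)
        (by rw [e, Nat.card_zpowers, ho])).symm.le.trans inf_le_left) (mem_zpowers g)) hg
  rw [hbot, mem_bot] at hmem
  exact mul_inv_eq_one.1 hmem

/-- Data of the symplectic configuration. -/
theorem Sp.exists_rel {p : ℕ} [Fact p.Prime] {P : Type u} [Group P] [Finite P] {X : Pair p P} (h : Sp X)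
    (hP : IsPGroup p P) : ∃ r : Rel p P, Function.Bijective r.fn := by
  obtain ⟨x, hx, hx1⟩ := X.exists_out2
  obtain ⟨e, he, he2⟩ := X.exists_out1
  have hD : X.D ≤ X.E1 := inf_le_left
  have hdD : ⁅x, e⁆ ∈ X.D := by
    rw [← commutatorElement_inv]; exact inv_mem (X.comm_mem_D he hx)
  have hzc : ⁅x, ⁅x, e⁆⁆ ∈ Subgroup.center P := h.comm_D hP x hdD
  have hzD : ⁅x, ⁅x, e⁆⁆ ∈ X.D := X.center_le_D hP hzc
  have hdc := h.comm_not_center hP hx hx1 he he2
  have hz1 := h.comm_ne_one hP hx hx1 hdD hdc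
  set d := ⁅x, e⁆ with hd
  set z := ⁅x, d⁆ with hz
  let r : Rel p P :=
    { x := x, e := e, d := d, z := z
      xp := h.pow2 x hx, ep := h.pow1 e he, dp := h.pow1 d (hD hdD), zp := h.pow1 z (hD hzD)
      hed := h.comm1 e he d (hD hdD)
      hez := h.comm1 e he z (hD hzD)
      hdz := h.comm1 d (hD hdD) z (hD hzD)
      hxz := mem_center_iff.1 hzc x
      hxe := by rw [hd, commutatorElement_def]; group
      hxd := by rw [hz, commutatorElement_def]; group }
  refine ⟨r, Function.Injective.bijective_of_nat_card_le ?_ ?_⟩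
  · rintro ⟨a, b, c, i⟩ ⟨a', b', c', i'⟩ hh
    have hm : ∀ a b c : ℕ, r.T a b c ∈ X.E1 := fun a b c =>
      mul_mem (mul_mem (pow_mem (hD hzD) c) (pow_mem (hD hdD) b)) (pow_mem he a)
    obtain ⟨rfl, h1⟩ := pow_cancel hx1 (h.pow2 x hx) (hm _ _ _) (hm _ _ _) hh
    obtain ⟨rfl, h2⟩ := pow_cancel (fun hh : e ∈ X.D => he2 hh.2) (h.pow1 e he)
      (mul_mem (pow_mem hzD _) (pow_mem hdD _)) (mul_mem (pow_mem hzD _) (pow_mem hdD _)) h1
    obtain ⟨rfl, h3⟩ := pow_cancel hdc (h.pow1 d (hD hdD)) (pow_mem hzc _) (pow_mem hzc _) h2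
    obtain ⟨rfl, -⟩ := pow_cancel (K := ⊥) (fun hh : z ∈ (⊥ : Subgroup P) => hz1 (mem_bot.1 hh))
      (h.pow1 z (hD hzD)) (one_mem _) (one_mem _) (((one_mul _).trans h3).trans (one_mul _).symm)
    rfl
  · rw [h.card]
    simp only [Nat.card_prod, Nat.card_fin]
    exact le_of_eq (by ring)

section Symplectic

open Matrix
open Cfsg.Agent.Lib.Forms.SpParabolic (fromBlocks_mem_sp_iff)

variable {p : ℕ}

/-- A unipotent element of the abelian part. -/
def sv (a b c : ZMod p) : symplecticGroup (Fin 2) (ZMod p) :=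
  ⟨fromBlocks 1 !![a, b; b, c] 0 1, by
    rw [fromBlocks_mem_sp_iff]
    refine ⟨by simp, ?_⟩
    ext i j
    fin_cases i <;> fin_cases j <;> simp⟩

/-- A unipotent element of the Levi subgroup. -/
def tv (k : ZMod p) : symplecticGroup (Fin 2) (ZMod p) :=
  ⟨fromBlocks !![1, k; 0, 1] 0 0 !![1, 0; -k, 1], by
    rw [fromBlocks_mem_sp_iff]
    refine ⟨?_, by simp⟩
    ext i j
    fin_cases i <;> fin_cases j <;> simp [Matrix.mul_apply, Fin.sum_univ_two]⟩

theorem sv_mul (a b c a' b' c' : ZMod p) :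
    sv a b c * sv a' b' c' = sv (a + a') (b + b') (c + c') := by
  apply Subtype.ext
  simp only [Submonoid.coe_mul, sv, fromBlocks_multiply, Matrix.mul_zero, Matrix.zero_mul, Matrix.one_mul,
    Matrix.mul_one, add_zero, zero_add]
  congr 1
  ext i j
  fin_cases i <;> fin_cases j <;> simp [add_comm]

theorem tv_mul (k k' : ZMod p) : tv k * tv k' = tv (k + k') := by
  apply Subtype.ext
  simp only [Submonoid.coe_mul, tv, fromBlocks_multiply, Matrix.mul_zero, Matrix.zero_mul, add_zero, zero_add]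
  congr 1
  · ext i j
    fin_cases i <;> fin_cases j <;> simp [Matrix.mul_apply, Fin.sum_univ_two, add_comm]
  · ext i j
    fin_cases i <;> fin_cases j <;> simp [Matrix.mul_apply, Fin.sum_univ_two, add_comm]

theorem tv_sv (k a b c : ZMod p) :
    tv k * sv a b c = sv (a + 2 * k * b + k ^ 2 * c) (b + k * c) c * tv k := by
  apply Subtype.ext
  simp only [Submonoid.coe_mul, sv, tv, fromBlocks_multiply, Matrix.mul_zero, Matrix.zero_mul, Matrix.one_mul,
    Matrix.mul_one, add_zero, zero_add]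
  congr 1
  ext i j
  fin_cases i <;> fin_cases j <;> simp [Matrix.mul_apply, Fin.sum_univ_two] <;> ring

theorem sv_zero : sv (0 : ZMod p) 0 0 = 1 := by
  apply Subtype.ext
  rw [OneMemClass.coe_one, ← fromBlocks_one]
  simp only [sv]
  congr 1
  ext i j
  fin_cases i <;> fin_cases j <;> simp

theorem tv_zero : tv (0 : ZMod p) = 1 := by
  apply Subtype.ext
  rw [OneMemClass.coe_one, ← fromBlocks_one]
  simp only [tv]
  congr 1 <;> ext i j <;> fin_cases i <;> fin_cases j <;> simp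

theorem sv_pow (a b c : ZMod p) (n : ℕ) : sv a b c ^ n = sv ((n : ZMod p) * a) ((n : ZMod p) * b) ((n : ZMod p) * c) := by
  induction n with
  | zero => simp [sv_zero]
  | succ n ih => rw [pow_succ, ih, sv_mul]; push_cast; simp only [add_mul, one_mul]

theorem tv_pow (k : ZMod p) (n : ℕ) : tv k ^ n = tv ((n : ZMod p) * k) := by
  induction n with
  | zero => simp [tv_zero]
  | succ n ih => rw [pow_succ, ih, tv_mul]; push_cast; simp only [add_mul, one_mul]

/-- The relations in `Sp₄(p)`. -/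
def spRel : Rel p (symplecticGroup (Fin 2) (ZMod p)) where
  x := tv 1
  e := sv 0 0 1
  d := sv 1 1 0
  z := sv 2 0 0
  xp := by rw [tv_pow, ZMod.natCast_self, zero_mul, tv_zero]
  ep := by rw [sv_pow, ZMod.natCast_self]; simp only [zero_mul, sv_zero]
  dp := by rw [sv_pow, ZMod.natCast_self]; simp only [zero_mul, sv_zero]
  zp := by rw [sv_pow, ZMod.natCast_self]; simp only [zero_mul, sv_zero]
  hed := by show _ = _; rw [sv_mul, sv_mul]; simp only [add_comm]
  hez := by show _ = _; rw [sv_mul, sv_mul]; simp only [add_comm]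
  hdz := by show _ = _; rw [sv_mul, sv_mul]; simp only [add_comm]
  hxz := by show _ = _; rw [tv_sv]; congr 2 <;> ring
  hxe := by rw [tv_sv, sv_mul]; congr 2 <;> ring
  hxd := by rw [tv_sv, sv_mul]; congr 2 <;> ring

theorem spRel_fn (t : Fin p × Fin p × Fin p × Fin p) :
    (spRel (p := p)).fn t =
      sv (2 * ((t.2.2.1 : ℕ) : ZMod p) + ((t.2.1 : ℕ) : ZMod p)) ((t.2.1 : ℕ) : ZMod p) ((t.1 : ℕ) : ZMod p) * tv ((t.2.2.2 : ℕ) : ZMod p) := by
  simp only [Rel.fn, Rel.nf, Rel.T, spRel, sv_pow, tv_pow, sv_mul]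
  congr 2 <;> ring

variable [Fact p.Prime]

theorem spRel_injective (hp2 : p ≠ 2) : Function.Injective (spRel (p := p)).fn := by
  rintro ⟨a, b, c, i⟩ ⟨a', b', c', i'⟩ h
  rw [spRel_fn, spRel_fn] at h
  have h' := congrArg Subtype.val h
  simp only [Submonoid.coe_mul, sv, tv, fromBlocks_multiply, Matrix.mul_zero, Matrix.zero_mul, Matrix.one_mul,
    Matrix.mul_one, add_zero, zero_add] at h'
  have hi := congrFun (congrFun (fromBlocks_inj.1 h').1 0) 1
  simp at hi
  rw [hi] at h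
  have h'' := congrArg Subtype.val (mul_right_cancel h)
  simp only [sv] at h''
  have hS := (fromBlocks_inj.1 h'').2.1
  have e00 := congrFun (congrFun hS 0) 0
  have e01 := congrFun (congrFun hS 0) 1
  have e11 := congrFun (congrFun hS 1) 1
  simp at e00 e01 e11
  have h2 : (2 : ZMod p) ≠ 0 := by
    intro e
    have : ((2 : ℕ) : ZMod p) = 0 := by simpa using e
    rw [ZMod.natCast_eq_zero_iff] at this
    exact hp2 ((Nat.prime_dvd_prime_iff_eq Fact.out Nat.prime_two).1 this)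
  rw [e01, add_left_inj, mul_right_inj' h2] at e00
  have inj : ∀ u v : Fin p, ((u : ℕ) : ZMod p) = ((v : ℕ) : ZMod p) → u = v := fun u v e => Fin.ext (by
    rw [ZMod.natCast_eq_natCast_iff', Nat.mod_eq_of_lt u.2, Nat.mod_eq_of_lt v.2] at e
    exact e)
  obtain rfl := inj _ _ e00
  obtain rfl := inj _ _ e01
  obtain rfl := inj _ _ e11
  obtain rfl := inj _ _ hi
  rfl

/-- The symplectic configuration is isomorphic to a Sylow subgroup of `Sp₄(p)`. -/
theorem Sp.nonempty_mulEquiv_sylow {P : Type u} [Group P] [Finite P] {X : Pair p P} (h : Sp X)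
    (hP : IsPGroup p P) (hp2 : p ≠ 2) :
    ∃ R : Sylow p (symplecticGroup (Fin 2) (ZMod p)),
      Nonempty (P ≃* (R : Subgroup (symplecticGroup (Fin 2) (ZMod p)))) := by
  have hp : p.Prime := Fact.out
  obtain ⟨r, hr⟩ := h.exists_rel hP
  obtain ⟨φ, hφ⟩ := r.exists_hom spRel hr (spRel_injective hp2)
  have hnd : ∀ k, k ≠ 0 → ¬ p ∣ p ^ k - 1 := fun k hk hd => hp.not_dvd_one (by
    have h1 : 1 ≤ p ^ k := Nat.one_le_pow _ _ hp.pos
    have := Nat.dvd_sub (dvd_pow_self p hk) hd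
    rwa [Nat.sub_sub_self h1] at this)
  have hfac : (Nat.card (symplecticGroup (Fin 2) (ZMod p))).factorization p = 4 := by
    rw [Symplectic.card_sp (Nat.card_zmod p) 2, Finset.prod_range_succ, Finset.prod_range_succ,
      Finset.prod_range_zero, one_mul]
    have h2 : p ^ (2 * (0 + 1)) - 1 ≠ 0 := fun e => hnd _ (by norm_num) (e ▸ dvd_zero p)
    have h4 : p ^ (2 * (1 + 1)) - 1 ≠ 0 := fun e => hnd _ (by norm_num) (e ▸ dvd_zero p)
    rw [Nat.factorization_mul (pow_ne_zero _ hp.ne_zero) (Nat.mul_ne_zero h2 h4),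
      Nat.factorization_mul h2 h4, Finsupp.add_apply, Finsupp.add_apply,
      Nat.factorization_eq_zero_of_not_dvd (hnd _ (by norm_num)),
      Nat.factorization_eq_zero_of_not_dvd (hnd _ (by norm_num)), Nat.factorization_pow, Finsupp.smul_apply, hp.factorization_self]
    norm_num
  have hcard : Nat.card φ.range = p ^ (Nat.card (symplecticGroup (Fin 2) (ZMod p))).factorization p := by
    rw [hfac, ← h.card]
    exact Nat.card_congr (MonoidHom.ofInjective hφ).toEquiv.symm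
  exact ⟨Sylow.ofCard φ.range hcard,
    ⟨(MonoidHom.ofInjective hφ).trans (MulEquiv.subgroupCongr (Sylow.coe_ofCard _ hcard).symm)⟩⟩

end Symplectic

end Cfsg.Agent.Lib.TwoEssential
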